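import Cfsg.Agent.Solvable.PGroupBasic
import Cfsg.Agent.Fusion.RankThree.Basic
import Cfsg.Agent.Fusion.RankThree.Arith

/-!
Tools for finite `p`-groups of sectional rank at most three with two invariant maximal subgroups.
-/

set_option autoImplicit false
set_option linter.unusedSectionVars false
set_option linter.style.haveILetI false

open Subgroup
open scoped commutatorElement

namespace CfsgLib.Fusion.TwoInvariant

variable {G : Type*} [Group G] {p : ℕ} [hp : Fact p.Prime]

/-- The central elements whose `p`-th power is trivial. -/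
def omegaCenter (p : ℕ) (G : Type*) [Group G] : Subgroup G where
  carrier := {z | z ∈ center G ∧ z ^ p = 1}
  one_mem' := ⟨one_mem _, one_pow p⟩
  mul_mem' := fun {a b} ha hb => ⟨mul_mem ha.1 hb.1, by
    rw [(show Commute a b from mem_center_iff.1 hb.1 a).mul_pow, ha.2, hb.2, one_mul]⟩
  inv_mem' := fun {a} ha => ⟨inv_mem ha.1, by rw [inv_pow, ha.2, inv_one]⟩

omit hp in
theorem mem_omegaCenter {z : G} : z ∈ omegaCenter p G ↔ z ∈ center G ∧ z ^ p = 1 := Iff.rfl

omit hp in
theorem omegaCenter_le_center : omegaCenter p G ≤ center G := fun _ h => h.1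

omit hp in
instance omegaCenter_normal : (omegaCenter p G).Normal :=
  ⟨fun n hn g => by rwa [mem_center_iff.1 hn.1 g, mul_inv_cancel_right]⟩

omit hp in
theorem omegaCenter_map (β : MulAut G) {z : G} (hz : z ∈ omegaCenter p G) :
    β z ∈ omegaCenter p G :=
  ⟨Subgroup.characteristic_iff_le_comap.1 inferInstance β hz.1, by rw [← map_pow, hz.2, map_one]⟩

/-- A nontrivial normal subgroup contains a central element of order `p`. -/
theorem exists_omegaCenter_mem [Finite G] (hG : IsPGroup p G) (N : Subgroup G) [N.Normal]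
    (hN : N ≠ ⊥) : ∃ z ∈ N, z ∈ omegaCenter p G ∧ z ≠ 1 := by
  haveI := hG.isNilpotent
  have hne := CfsgLib.PGroupBasic.inf_center_ne_bot N hN
  haveI : Nontrivial ↥(N ⊓ center G) := (nontrivial_iff_ne_bot _).2 hne
  obtain ⟨k, hk, hcard⟩ := (hG.to_subgroup (N ⊓ center G)).nontrivial_iff_card.1 inferInstance
  obtain ⟨z, hz⟩ := exists_prime_orderOf_dvd_card' p
    (hcard ▸ dvd_pow_self p (by omega) : p ∣ Nat.card ↥(N ⊓ center G))
  refine ⟨z, (mem_inf.1 z.2).1, ⟨(mem_inf.1 z.2).2, ?_⟩, fun h => ?_⟩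
  · rw [← SubgroupClass.coe_pow, ← hz, pow_orderOf_eq_one, OneMemClass.coe_one]
  · rw [OneMemClass.coe_eq_one] at h
    rw [h, orderOf_one] at hz
    exact hp.out.one_lt.ne hz

theorem omegaCenter_ne_bot [Finite G] (hG : IsPGroup p G) [Nontrivial G] :
    omegaCenter p G ≠ ⊥ := fun h => by
  obtain ⟨z, -, hz, hz1⟩ := exists_omegaCenter_mem hG (⊤ : Subgroup G) top_ne_bot
  rw [h, mem_bot] at hz
  exact hz1 hz

/-- A subgroup of order `p` is contained in each subgroup meeting it. -/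
theorem le_of_card_prime {H K : Subgroup G} (hH : Nat.card H = p) {h : G} (h1 : h ∈ H) (h2 : h ∈ K)
    (hne : h ≠ 1) : H ≤ K := fun x hx => by
  have := mem_zpowers_of_prime_card (G := H) hH (g := ⟨h, h1⟩) (g' := ⟨x, hx⟩)
    (fun e => hne (congrArg Subtype.val e))
  obtain ⟨i, hi⟩ := mem_zpowers_iff.1 this
  have : h ^ i = x := congrArg Subtype.val hi
  exact this ▸ zpow_mem h2 i

theorem eq_zpowers_of_card_prime {H : Subgroup G} (hH : Nat.card H = p) {h : G} (h1 : h ∈ H)
    (hne : h ≠ 1) : zpowers h = H :=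
  le_antisymm (zpowers_le.2 h1) (le_of_card_prime hH h1 (mem_zpowers h) hne)

theorem orderOf_eq_of_pow {h : G} (hpow : h ^ p = 1) (hne : h ≠ 1) : orderOf h = p :=
  orderOf_eq_prime hpow hne

/-- An element outside a maximal subgroup generates with it. -/
theorem sup_zpowers_eq_top {E : Subgroup G} (hE : E.index = p) {g : G} (hg : g ∉ E) :
    E ⊔ zpowers g = ⊤ := by
  rw [← Subgroup.index_eq_one]
  have h := Subgroup.relIndex_mul_index (le_sup_left : E ≤ E ⊔ zpowers g)
  rw [hE] at h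
  rcases (Nat.dvd_prime hp.out).1 ⟨_, h.symm⟩ with h1 | h1
  · exact absurd (Subgroup.relIndex_eq_one.1 h1) fun hle =>
      hg (hle (mem_sup_right (mem_zpowers g)))
  · rw [h1] at h
    exact Nat.eq_of_mul_eq_mul_left hp.out.pos (h.trans (mul_one p).symm)

/-- An element commuting with a maximal subgroup and with an element outside it is central. -/
theorem mem_center_of_index [Finite G] {E : Subgroup G} (hE : E.index = p) {g : G} (hg : g ∉ E)
    {z : G} (hzE : ∀ e ∈ E, Commute e z) (hzg : Commute g z) : z ∈ center G := by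
  have htop : E ⊔ zpowers g = ⊤ := sup_zpowers_eq_top hE hg
  have hle : E ⊔ zpowers g ≤ centralizer {z} :=
    sup_le (fun e he => mem_centralizer_singleton_iff.2 (hzE e he).eq)
      (zpowers_le.2 (mem_centralizer_singleton_iff.2 hzg.eq))
  rw [htop] at hle
  exact mem_center_iff.2 fun x => (mem_centralizer_singleton_iff.1 (hle (mem_top x)))

/-- The same inside a subgroup. -/
theorem eq_sup_zpowers [Finite G] {H K : Subgroup G} (hHK : H ≤ K)
    (hcard : Nat.card K = p * Nat.card H) {g : G} (hgK : g ∈ K) (hgH : g ∉ H) :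
    H ⊔ zpowers g = K := by
  have hle : H ⊔ zpowers g ≤ K := sup_le hHK (zpowers_le.2 hgK)
  refine eq_of_le_of_card_ge hle ?_
  obtain ⟨a, ha⟩ := Subgroup.card_dvd_of_le (le_sup_left : H ≤ H ⊔ zpowers g)
  obtain ⟨b, hb⟩ := Subgroup.card_dvd_of_le hle
  have hpos : 0 < Nat.card H := Nat.card_pos
  have hab : a * b = p := by
    refine Nat.eq_of_mul_eq_mul_left hpos ?_
    rw [← mul_assoc, ← ha, ← hb, hcard, mul_comm]
  rcases (Nat.dvd_prime hp.out).1 ⟨b, hab.symm⟩ with h1 | h1
  · exfalso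
    have e : H = H ⊔ zpowers g := eq_of_le_of_card_ge le_sup_left (by rw [ha, h1, mul_one])
    exact hgH (e ▸ mem_sup_right (mem_zpowers g))
  · rw [ha, h1, hcard, mul_comm]

/-- Elementary abelian, with elements of the ambient group. -/
def Elem (p : ℕ) (H : Subgroup G) : Prop :=
  (∀ a ∈ H, ∀ b ∈ H, Commute a b) ∧ ∀ a ∈ H, a ^ p = 1

omit hp in
theorem Elem.mono {H K : Subgroup G} (h : Elem p K) (hle : H ≤ K) : Elem p H :=
  ⟨fun a ha b hb => h.1 a (hle ha) b (hle hb), fun a ha => h.2 a (hle ha)⟩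

omit hp in
theorem elem_closure {s : Set G} (hc : ∀ a ∈ s, ∀ b ∈ s, Commute a b) (hpow : ∀ a ∈ s, a ^ p = 1) :
    Elem p (closure s) := by
  have hA : ∀ a ∈ closure s, ∀ b ∈ closure s, Commute a b := by
    intro a ha b hb
    induction ha, hb using closure_induction₂ with
    | mem x y hx hy => exact hc x hx y hy
    | one_left x _ => exact Commute.one_left x
    | one_right x _ => exact Commute.one_right x
    | mul_left x y z _ _ _ h1 h2 => exact h1.mul_left h2
    | mul_right x y z _ _ _ h1 h2 => exact h1.mul_right h2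
    | inv_left x y _ _ h => exact h.inv_left
    | inv_right x y _ _ h => exact h.inv_right
  refine ⟨hA, fun a ha => ?_⟩
  induction ha using closure_induction with
  | mem x hx => exact hpow x hx
  | one => exact one_pow p
  | mul x y hx hy ihx ihy => rw [(hA x hx y hy).mul_pow, ihx, ihy, mul_one]
  | inv x hx ih => rw [inv_pow, ih, inv_one]

omit hp in
theorem Elem.sup {H K : Subgroup G} (hH : Elem p H) (hK : Elem p K)
    (hHK : ∀ a ∈ H, ∀ b ∈ K, Commute a b) : Elem p (H ⊔ K) := by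
  have e : H ⊔ K = closure ((H : Set G) ∪ K) := by rw [Subgroup.closure_union, closure_eq, closure_eq]
  rw [e]
  refine elem_closure ?_ ?_
  · rintro a (ha | ha) b (hb | hb)
    exacts [hH.1 a ha b hb, hHK a ha b hb, (hHK b hb a ha).symm, hK.1 a ha b hb]
  · rintro a (ha | ha)
    exacts [hH.2 a ha, hK.2 a ha]

omit hp in
theorem elem_zpowers {a : G} (ha : a ^ p = 1) : Elem p (zpowers a) := by
  rw [zpowers_eq_closure]
  refine elem_closure ?_ ?_
  · rintro x rfl y rfl
    exact Commute.refl _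
  · rintro x rfl
    exact ha

omit hp in
theorem elem_omegaCenter : Elem p (omegaCenter p G) :=
  ⟨fun a _ _ hb => mem_center_iff.1 hb.1 a, fun _ ha => ha.2⟩

theorem Elem.card_le [Finite G] {H : Subgroup G} (h : Elem p H)
    (hr : Cfsg.SectionalPRankLE p 3 G) : Nat.card H ≤ p ^ 3 := by
  have hP : Cfsg.PRankLE p 3 H :=
    RankThree.pRankLE_of_equiv QuotientGroup.quotientBot (hr H ⊥)
  have := hP ⊤ ⟨⟨fun a b => Subtype.ext (Subtype.ext (h.1 _ a.1.2 _ b.1.2))⟩⟩
    fun a _ => Subtype.ext (h.2 a a.2)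
  rwa [card_top] at this

/-- Cardinalities of subgroups of a `p`-group. -/
theorem exists_card [Finite G] (hG : IsPGroup p G) (H : Subgroup G) : ∃ k, Nat.card H = p ^ k :=
  IsPGroup.iff_card.1 (hG.to_subgroup H)

theorem card_mul_le_of_lt [Finite G] (hG : IsPGroup p G) {H K : Subgroup G} (h : H < K) :
    Nat.card H * p ≤ Nat.card K := by
  obtain ⟨a, ha⟩ := exists_card hG H
  obtain ⟨b, hb⟩ := exists_card hG K
  have hlt : Nat.card H < Nat.card K := lt_of_not_ge fun hge =>
    h.ne (eq_of_le_of_card_ge h.le hge)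
  rw [ha, hb] at hlt ⊢
  rw [← pow_succ]
  exact Nat.pow_le_pow_right hp.out.pos ((Nat.pow_lt_pow_iff_right hp.out.one_lt).1 hlt)

theorem prime_le_card [Finite G] (hG : IsPGroup p G) {H : Subgroup G} (h : H ≠ ⊥) :
    p ≤ Nat.card H := by
  have := card_mul_le_of_lt hG (bot_lt_iff_ne_bot.2 h)
  rwa [card_bot, one_mul] at this

/-- A normal subgroup of order `p` is central. -/
theorem le_omegaCenter [Finite G] (hG : IsPGroup p G) {H : Subgroup G} [H.Normal]
    (hH : Nat.card H = p) : H ≤ omegaCenter p G := by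
  have hne : H ≠ ⊥ := fun h => by
    rw [h, card_bot] at hH
    exact hp.out.one_lt.ne hH
  obtain ⟨z, hz, hzc, hz1⟩ := exists_omegaCenter_mem hG H hne
  exact le_of_card_prime hH hz hzc hz1

/-- Products of powers of two commuting elements. -/
theorem exists_zpow_mul {a b x : G} (hab : Commute a b) (hx : x ∈ zpowers a ⊔ zpowers b) :
    ∃ i j : ℤ, x = a ^ i * b ^ j := by
  let P : Subgroup G :=
    { carrier := {y | ∃ i j : ℤ, y = a ^ i * b ^ j}
      one_mem' := ⟨0, 0, by simp⟩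
      mul_mem' := by
        rintro _ _ ⟨i, j, rfl⟩ ⟨k, l, rfl⟩
        refine ⟨i + k, j + l, ?_⟩
        rw [zpow_add, zpow_add, mul_assoc, ← mul_assoc (b ^ j), (hab.symm.zpow_zpow j k).eq,
          mul_assoc, ← mul_assoc (a ^ i)]
      inv_mem' := by
        rintro _ ⟨i, j, rfl⟩
        exact ⟨-i, -j, by rw [mul_inv_rev, zpow_neg, zpow_neg, (hab.zpow_zpow i j).inv_inv.eq]⟩ }
  have ha : zpowers a ≤ P := zpowers_le.2 ⟨1, 0, by simp⟩
  have hb : zpowers b ≤ P := zpowers_le.2 ⟨0, 1, by simp⟩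
  exact sup_le ha hb hx

/-- A group of exponent `p` whose derived subgroup is central of order `p ^ 2` has rank at least
four. -/
theorem class_two_rank_false [Finite G] (hG : IsPGroup p G) (hr : Cfsg.SectionalPRankLE p 3 G)
    {U C : Subgroup G} (hC : Elem p C) (hC2 : Nat.card C = p ^ 2) (hCU : C ≤ U)
    (hcen : ∀ c ∈ C, ∀ u ∈ U, Commute u c) (hder : ⁅U, U⁆ = C) (hexp : ∀ u ∈ U, u ^ p = 1) :
    False := by
  have hp1 := hp.out.one_lt
  have hcm : ∀ a ∈ U, ∀ b ∈ U, ⁅a, b⁆ ∈ C := fun a ha b hb => hder ▸ commutator_mem_commutator ha hb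
  have hmul : ∀ a b c, a ∈ U → b ∈ U → c ∈ U → ⁅a, b * c⁆ = ⁅a, b⁆ * ⁅a, c⁆ := fun a b c ha hb hc => by
    have h : Commute b ⁅a, c⁆ := hcen _ (hcm a ha c hc) b hb
    calc ⁅a, b * c⁆ = ⁅a, b⁆ * (b * ⁅a, c⁆ * b⁻¹) := by simp only [commutatorElement_def]; group
      _ = ⁅a, b⁆ * ⁅a, c⁆ := by rw [h.eq, mul_inv_cancel_right]
  let f : ∀ a, a ∈ U → (U →* G) := fun a ha =>
    MonoidHom.mk' (fun x => ⁅a, (x : G)⁆) fun x y => hmul a x y ha x.2 y.2
  have hfC : ∀ a ha, (f a ha).range ≤ C := by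
    rintro a ha _ ⟨x, rfl⟩
    exact hcm a ha x x.2
  -- commuting elements independent modulo the derived subgroup give rank four
  have hpair : ∀ u ∈ U, ∀ v ∈ U, Commute u v → u ∉ C → v ∉ C ⊔ zpowers u → False := by
    intro u hu v hv huv huC hvC
    have h1 : Elem p (C ⊔ zpowers u) := hC.sup (elem_zpowers (hexp u hu)) fun c hc b hb =>
      (hcen c hc b ((zpowers_le.2 hu) hb)).symm
    have h2 : Elem p (C ⊔ zpowers u ⊔ zpowers v) := by
      refine h1.sup (elem_zpowers (hexp v hv)) fun a ha b hb => ?_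
      obtain ⟨i, rfl⟩ := mem_zpowers_iff.1 hb
      refine Commute.zpow_right ?_ i
      have hle : C ⊔ zpowers u ≤ centralizer {v} := sup_le
        (fun c hc => mem_centralizer_singleton_iff.2 (hcen c hc v hv).symm.eq)
        (zpowers_le.2 (mem_centralizer_singleton_iff.2 huv.eq))
      exact mem_centralizer_singleton_iff.1 (hle ha)
    have l1 : C < C ⊔ zpowers u :=
      lt_of_le_of_ne le_sup_left fun h => huC (h ▸ mem_sup_right (mem_zpowers u))
    have l2 : C ⊔ zpowers u < C ⊔ zpowers u ⊔ zpowers v :=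
      lt_of_le_of_ne le_sup_left fun h => hvC (h ▸ mem_sup_right (mem_zpowers v))
    have c1 := card_mul_le_of_lt hG l1
    have c2 := card_mul_le_of_lt hG l2
    rw [hC2] at c1
    have : p ^ 4 ≤ p ^ 3 := by
      calc p ^ 4 = p ^ 2 * p * p := by ring
        _ ≤ Nat.card (C ⊔ zpowers u : Subgroup G) * p := Nat.mul_le_mul_right p c1
        _ ≤ p ^ 3 := c2.trans (h2.card_le hr)
    have := (Nat.pow_le_pow_iff_right hp1).1 this
    omega
  have hlt : C < U := lt_of_le_of_ne hCU fun h => by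
    have : C = ⊥ := by
      rw [← hder, eq_bot_iff, commutator_le]
      intro a ha b hb
      exact mem_bot.2 (commutatorElement_eq_one_iff_commute.2
        (hC.1 a (h.ge ha) b (h.ge hb)))
    rw [this, card_bot] at hC2
    exact (Nat.one_lt_pow two_ne_zero hp1).ne hC2
  obtain ⟨a, ha, haC⟩ := SetLike.exists_of_lt hlt
  have hCa : C ⊔ zpowers a ≤ U := sup_le hCU (zpowers_le.2 ha)
  -- the centraliser of the element
  have hker : ∀ x ∈ U, ⁅a, x⁆ = 1 → x ∈ C ⊔ zpowers a := fun x hx h => by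
    by_contra hne
    exact hpair a ha x hx (commutatorElement_eq_one_iff_commute.1 h) haC hne
  have hsurj : (f a ha).range = C := by
    refine eq_of_le_of_card_ge (hfC a ha) ?_
    by_contra hcon
    obtain ⟨k, hk⟩ := exists_card hG (f a ha).range
    have hk1 : k ≤ 1 := by
      by_contra h
      refine hcon ?_
      rw [hk, hC2]
      exact Nat.pow_le_pow_right hp.out.pos (by omega)
    obtain ⟨b, hb, hbC⟩ : ∃ b ∈ U, b ∉ C ⊔ zpowers a := by
      by_contra h
      push Not at h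
      refine hlt.ne (le_antisymm hCU ?_)
      have hab : ∀ x ∈ C ⊔ zpowers a, ∀ y ∈ C ⊔ zpowers a, Commute x y :=
        (hC.sup (elem_zpowers (hexp a ha)) fun c hc b hb =>
          (hcen c hc b ((zpowers_le.2 ha) hb)).symm).1
      have : C = ⊥ := by
        rw [← hder, eq_bot_iff, commutator_le]
        exact fun x hx y hy => mem_bot.2 (commutatorElement_eq_one_iff_commute.2
          (hab x (h x hx) y (h y hy)))
      rw [this, card_bot] at hC2
      exact absurd hC2 (Nat.one_lt_pow two_ne_zero hp1).ne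
    set b' : G := ⁅a, b⁆
    have hb'C : b' ∈ C := hcm a ha b hb
    have hb1 : b' ≠ 1 := fun h => hbC (hker b hb h)
    have hZ : (f a ha).range = zpowers b' := by
      refine (eq_of_le_of_card_ge (zpowers_le.2 (show b' ∈ (f a ha).range from ⟨⟨b, hb⟩, rfl⟩)) ?_).symm
      rw [hk, Nat.card_zpowers, orderOf_eq_of_pow (hC.2 _ hb'C) hb1]
      calc p ^ k ≤ p ^ 1 := Nat.pow_le_pow_right hp.out.pos hk1
        _ = p := pow_one p
    have hgen : U ≤ C ⊔ zpowers a ⊔ zpowers b := by
      intro x hx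
      obtain ⟨m, hm⟩ := mem_zpowers_iff.1 (hZ.le (show ⁅a, x⁆ ∈ (f a ha).range from ⟨⟨x, hx⟩, rfl⟩))
      have hxb : x * (b ^ m)⁻¹ ∈ C ⊔ zpowers a := by
        refine hker _ (mul_mem hx (inv_mem (zpow_mem hb m))) ?_
        have h1 : f a ha (⟨x, hx⟩ * (⟨b, hb⟩ ^ m)⁻¹) = 1 := by
          rw [map_mul, map_inv, map_zpow]
          show ⁅a, x⁆ * (b' ^ m)⁻¹ = 1
          rw [hm, mul_inv_cancel]
        exact h1
      have := mul_mem (mem_sup_left hxb : _ ∈ C ⊔ zpowers a ⊔ zpowers b)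
        (mem_sup_right (zpow_mem (mem_zpowers b) m))
      rwa [inv_mul_cancel_right] at this
    -- all commutators lie on the line
    have hstep : ∀ y (hy : y ∈ U), ⁅y, a⁆ ∈ zpowers b' → ⁅y, b⁆ ∈ zpowers b' →
        ∀ x ∈ U, ⁅y, x⁆ ∈ zpowers b' := by
      intro y hy h1 h2 x hx
      have hle : C ⊔ zpowers a ⊔ zpowers b ≤ ((zpowers b').comap (f y hy)).map U.subtype := by
        refine sup_le (sup_le (fun c hc => ?_) (zpowers_le.2 ?_)) (zpowers_le.2 ?_)
        · exact ⟨⟨c, hCU hc⟩, mem_comap.2 (by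
            show ⁅y, c⁆ ∈ _
            rw [commutatorElement_eq_one_iff_commute.2 (hcen c hc y hy)]
            exact one_mem _), rfl⟩
        · exact ⟨⟨a, ha⟩, h1, rfl⟩
        · exact ⟨⟨b, hb⟩, h2, rfl⟩
      obtain ⟨w, hw, rfl⟩ := hle (hgen hx)
      exact hw
    have hA : ∀ x ∈ U, ⁅a, x⁆ ∈ zpowers b' :=
      hstep a ha (by rw [commutatorElement_self]; exact one_mem _) (mem_zpowers _)
    have hB : ∀ x ∈ U, ⁅b, x⁆ ∈ zpowers b' :=
      hstep b hb (by rw [← commutatorElement_inv a b]; exact inv_mem (mem_zpowers _))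
        (by rw [commutatorElement_self]; exact one_mem _)
    have hle : C ≤ zpowers b' := by
      rw [← hder, commutator_le]
      intro y hy x hx
      refine hstep y hy ?_ ?_ x hx
      · rw [← commutatorElement_inv a y]; exact inv_mem (hA y hy)
      · rw [← commutatorElement_inv b y]; exact inv_mem (hB y hy)
    have := Subgroup.card_le_of_le hle
    rw [hC2, Nat.card_zpowers, orderOf_eq_of_pow (hC.2 _ hb'C) hb1, pow_two] at this
    exact absurd this (not_le.2 (lt_mul_self hp1))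
  -- two independent values
  haveI : Nontrivial C := (nontrivial_iff_ne_bot _).2 fun h => by
    rw [h, card_bot] at hC2
    exact (Nat.one_lt_pow two_ne_zero hp1).ne hC2
  obtain ⟨⟨d₁, hd1⟩, hd1'⟩ := exists_ne (1 : C)
  have hd11 : d₁ ≠ 1 := fun h => hd1' (Subtype.ext h)
  obtain ⟨d₂, hd2, hd21⟩ : ∃ d ∈ C, d ∉ zpowers d₁ := by
    by_contra h
    push Not at h
    have := Subgroup.card_le_of_le (show C ≤ zpowers d₁ from h)
    rw [hC2, Nat.card_zpowers, orderOf_eq_of_pow (hC.2 _ hd1) hd11, pow_two] at this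
    exact absurd this (not_le.2 (lt_mul_self hp1))
  obtain ⟨⟨b, hb⟩, hbv : ⁅a, b⁆ = d₁⟩ := MonoidHom.mem_range.1 (hsurj.ge hd1)
  obtain ⟨⟨c, hc⟩, hcv : ⁅a, c⁆ = d₂⟩ := MonoidHom.mem_range.1 (hsurj.ge hd2)
  have hd : zpowers d₁ ⊔ zpowers d₂ = C := eq_sup_zpowers (zpowers_le.2 hd1)
    (by rw [Nat.card_zpowers, orderOf_eq_of_pow (hC.2 _ hd1) hd11, hC2, pow_two]) hd2 hd21
  obtain ⟨i, j, hij⟩ := exists_zpow_mul (hC.1 d₁ hd1 d₂ hd2) (hd.ge (hcm b hb c hc))
  set u := a ^ (-j) * b with hu'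
  set v := a ^ i * c with hv'
  have hu : u ∈ U := mul_mem (zpow_mem ha _) hb
  have hv : v ∈ U := mul_mem (zpow_mem ha _) hc
  have hfz : ∀ y (hy : y ∈ U) (n : ℤ), ⁅y, a ^ n⁆ = ⁅y, a⁆ ^ n := fun y hy n =>
    map_zpow (f y hy) ⟨a, ha⟩ n
  have hau : ⁅a, u⁆ = d₁ := by
    rw [hu', hmul a _ _ ha (zpow_mem ha _) hb, hfz a ha, commutatorElement_self, one_zpow, one_mul, hbv]
  have hav : ⁅a, v⁆ = d₂ := by
    rw [hv', hmul a _ _ ha (zpow_mem ha _) hc, hfz a ha, commutatorElement_self, one_zpow, one_mul, hcv]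
  have hanti : ∀ y z : G, ⁅y, z⁆ = ⁅z, y⁆⁻¹ := fun y z => (commutatorElement_inv z y).symm
  have huv : ⁅u, v⁆ = 1 := by
    rw [hv', hmul u _ _ hu (zpow_mem ha _) hc, hfz u hu, hanti u a, hau, hanti u c]
    rw [hu', hmul c _ _ hc (zpow_mem ha _) hb, hfz c hc, hanti c a, hcv, hanti c b, hij]
    have hcomm : Commute d₁ d₂ := hC.1 d₁ hd1 d₂ hd2
    rw [inv_zpow', inv_zpow', neg_neg, mul_inv_rev, inv_inv, mul_assoc (d₁ ^ i) (d₂ ^ j),
      ← zpow_neg, ← zpow_add, add_neg_cancel, zpow_zero, mul_one, ← zpow_add, neg_add_cancel,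
      zpow_zero]
  refine hpair u hu v hv (commutatorElement_eq_one_iff_commute.1 huv) (fun h => ?_) fun h => ?_
  · rw [commutatorElement_eq_one_iff_commute.2 (hcen u h a ha)] at hau
    exact hd11 hau.symm
  · refine hd21 ?_
    rw [← hav]
    have hle : C ⊔ zpowers u ≤ ((zpowers d₁).comap (f a ha)).map U.subtype := by
      refine sup_le (fun e he => ?_) (zpowers_le.2 ?_)
      · exact ⟨⟨e, hCU he⟩, mem_comap.2 (by
          show ⁅a, e⁆ ∈ _
          rw [commutatorElement_eq_one_iff_commute.2 (hcen e he a ha)]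
          exact one_mem _), rfl⟩
      · exact ⟨⟨u, hu⟩, mem_comap.2 (by show ⁅a, u⁆ ∈ _; rw [hau]; exact mem_zpowers _), rfl⟩
    obtain ⟨w, hw, hwv⟩ := hle h
    rw [← hwv]
    exact hw

end CfsgLib.Fusion.TwoInvariant
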