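import Cfsg.Agent.Fusion.TwoInvariant.Pair

/-!
Both sides move the central elements of order `p`.
-/

set_option autoImplicit false
set_option linter.unusedSectionVars false
set_option linter.style.haveILetI false

open Subgroup
open scoped commutatorElement

namespace CfsgLib.Fusion.TwoInvariant

variable {G : Type*} [Group G] [Finite G] {p : ℕ} [hp : Fact p.Prime] {B B₁ B₂ : Subgroup (MulAut G)}
  {E₁ E₂ : Subgroup G} {X₁ X₂ : Type*} [Group X₁] [Group X₂] [Finite X₁] [Finite X₂]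
  (P : Pair p B₁ B₂ E₁ E₂ X₁ X₂)

namespace Pair

include P in
theorem omega_le_inf (h₁ : ¬ P.s₁.Deg) (h₂ : ¬ P.s₂.Deg) : omegaCenter p G ≤ E₁ ⊓ E₂ :=
  omegaCenter_le_center.trans (le_inf (P.s₁.center_le P.hG h₁) (P.s₂.center_le P.hG h₂))

include P in
theorem spanZ_join_invariant (h₁ : ¬ P.s₁.Deg) (h₂ : ¬ P.s₂.Deg)
    (hV₁ : Nat.card P.s₁.spanZ = p ^ 2) (hZp : Nat.card (omegaCenter p G) = p)
    (hV₂ : Nat.card P.s₂.spanZ = p ^ 2) (hle₁ : P.s₁.spanZ ≤ E₁ ⊓ E₂) (hle₂ : P.s₂.spanZ ≤ E₁ ⊓ E₂)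
    (hne : ¬ P.s₂.spanZ ≤ P.s₁.spanZ) : P.s₁.Inv (P.s₁.spanZ ⊔ P.s₂.spanZ) := by
  have hG := P.hG
  have hZ := P.omega_le_inf h₁ h₂
  have hWe : Elem p (P.s₁.spanZ ⊔ P.s₂.spanZ) := P.s₁.spanZ_elem.sup P.s₂.spanZ_elem fun a ha b hb =>
    P.s₂.spanZ_central (mem_inf.1 (hle₁ ha)).2 hb
  have hWc : Nat.card ↥(P.s₁.spanZ ⊔ P.s₂.spanZ) = p ^ 3 := by
    refine le_antisymm (hWe.card_le P.rank) ?_
    have := card_mul_le_of_lt hG (lt_of_le_of_ne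
      (le_sup_left : P.s₁.spanZ ≤ P.s₁.spanZ ⊔ P.s₂.spanZ) fun h => hne (h.ge.trans' le_sup_right))
    rwa [hV₁, ← pow_succ] at this
  haveI := P.s₁.spanZ_normal
  haveI := P.s₂.spanZ_normal
  refine P.s₁.spread hG P.odd P.rank hZp hV₁ ((sup_le hle₁ hle₂).trans inf_le_left) hWe hWc
    le_sup_left fun e he w hw => ?_
  have e0 : P.s₁.spanZ ⊔ P.s₂.spanZ =
      closure ((P.s₁.spanZ : Set G) ∪ P.s₂.spanZ) := by
    rw [Subgroup.closure_union, closure_eq, closure_eq]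
  rw [e0] at hw
  refine comm_closure_mem ?_ e he w hw
  rintro e he a (ha | ha)
  · rw [commutatorElement_eq_one_iff_commute.2 (P.s₁.spanZ_central he ha)]
    exact one_mem _
  · refine P.s₁.le_spanZ (hZ.trans inf_le_left) ?_
    exact comm_mem_of_card hG (P.s₂.le_spanZ (hZ.trans inf_le_right))
      (by rw [hV₂, hZp, pow_two]) ha

include P in
theorem false_of_both_inside (h₁ : ¬ P.s₁.Deg) (h₂ : ¬ P.s₂.Deg)
    (m₁ : ¬ P.s₁.Inv (omegaCenter p G)) (m₂ : ¬ P.s₂.Inv (omegaCenter p G))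
    (hle₁ : P.s₁.spanZ ≤ E₁ ⊓ E₂) (hle₂ : P.s₂.spanZ ≤ E₁ ⊓ E₂) : False := by
  haveI := P.nontrivial
  have hG := P.hG
  have hp1 := hp.out.one_lt
  have hZ := P.omega_le_inf h₁ h₂
  have hZ₁ := hZ.trans inf_le_left
  have hZ₂ := hZ.trans inf_le_right
  -- neither span is in the other
  have hnot : ¬ P.s₂.spanZ ≤ P.s₁.spanZ := fun hle => by
    refine m₂ ?_
    have heq : P.s₂.spanZ = omegaCenter p G := le_antisymm (fun v hv => ⟨P.mem_center_of_commute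
      (fun a ha => P.s₁.spanZ_central ha (hle hv)) (fun a ha => P.s₂.spanZ_central ha hv),
      P.s₂.spanZ_elem.2 v hv⟩) (P.s₂.le_spanZ hZ₂)
    exact heq ▸ P.s₂.spanZ_inv
  have hnot' : ¬ P.s₁.spanZ ≤ P.s₂.spanZ := fun hle => by
    refine m₁ ?_
    have heq : P.s₁.spanZ = omegaCenter p G := le_antisymm (fun v hv => ⟨P.mem_center_of_commute
      (fun a ha => P.s₁.spanZ_central ha hv) (fun a ha => P.s₂.spanZ_central ha (hle hv)),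
      P.s₁.spanZ_elem.2 v hv⟩) (P.s₁.le_spanZ hZ₁)
    exact heq ▸ P.s₁.spanZ_inv
  have hWe : Elem p (P.s₁.spanZ ⊔ P.s₂.spanZ) := P.s₁.spanZ_elem.sup P.s₂.spanZ_elem fun a ha b hb =>
    P.s₂.spanZ_central (mem_inf.1 (hle₁ ha)).2 hb
  have hsmall : ∀ {V V' : Subgroup G}, V ≤ P.s₁.spanZ ⊔ P.s₂.spanZ → V' ≤ P.s₁.spanZ ⊔ P.s₂.spanZ →
      Nat.card V = p ^ 3 → ¬ V' ≤ V → False := fun {V V'} hV hV' hc hnle => by
    refine hnle (hV'.trans (eq_of_le_of_card_ge hV ?_).ge)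
    rw [hc]
    exact hWe.card_le P.rank
  rcases P.s₁.card_spanZ hG P.rank hZ₁ m₁ with ⟨c₁, hZp⟩ | ⟨c₁, -⟩
  swap
  · exact hsmall le_sup_left le_sup_right c₁ hnot
  rcases P.s₂.card_spanZ hG P.rank hZ₂ m₂ with ⟨c₂, -⟩ | ⟨c₂, -⟩
  swap
  · exact hsmall le_sup_right le_sup_left c₂ hnot'
  have i₁ := P.spanZ_join_invariant h₁ h₂ c₁ hZp c₂ hle₁ hle₂ hnot
  have i₂ : P.s₂.Inv (P.s₁.spanZ ⊔ P.s₂.spanZ) := by
    have := P.swap.spanZ_join_invariant h₂ h₁ c₂ hZp c₁ (inf_comm E₁ E₂ ▸ hle₂)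
      (inf_comm E₁ E₂ ▸ hle₁) hnot'
    rwa [sup_comm] at this
  have := P.max _ (sup_le hle₁ hle₂) i₁ i₂
  exact omegaCenter_ne_bot (p := p) hG
    (le_bot_iff.1 (((P.s₁.le_spanZ hZ₁).trans le_sup_left).trans this.le))

include P in
theorem false_of_mixed (h₁ : ¬ P.s₁.Deg) (h₂ : ¬ P.s₂.Deg) (m₂ : ¬ P.s₂.Inv (omegaCenter p G))
    (hout : ¬ P.s₁.spanZ ≤ E₁ ⊓ E₂) (hle₂ : P.s₂.spanZ ≤ E₁ ⊓ E₂) : False := by
  refine m₂ ?_
  have hZ₂ := (P.omega_le_inf h₁ h₂).trans inf_le_right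
  obtain ⟨v, hv, hvD⟩ := SetLike.not_le_iff_exists.1 hout
  have heq : P.s₂.spanZ = omegaCenter p G := by
    refine le_antisymm (fun w hw => ⟨P.mem_center_of_commute (fun a ha => ?_)
      (fun a ha => P.s₂.spanZ_central ha hw), P.s₂.spanZ_elem.2 w hw⟩) (P.s₂.le_spanZ hZ₂)
    rw [← P.sup_zpowers₁ (P.s₁.span_le _ hv) hvD] at ha
    have hle : E₁ ⊓ E₂ ⊔ zpowers v ≤ centralizer {w} :=
      sup_le (fun d hd => mem_centralizer_singleton_iff.2 (P.s₂.spanZ_central (mem_inf.1 hd).2 hw).eq)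
        (zpowers_le.2 (mem_centralizer_singleton_iff.2
          (P.s₁.spanZ_central (mem_inf.1 (hle₂ hw)).1 hv).symm.eq))
    exact mem_centralizer_singleton_iff.1 (hle ha)
  exact heq ▸ P.s₂.spanZ_inv

/-- The configuration of the special linear group of degree three. -/
structure Tri : Prop where
  nd₁ : ¬ P.s₁.Deg
  nd₂ : ¬ P.s₂.Deg
  elem₁ : Elem p E₁
  elem₂ : Elem p E₂
  card₁' : Nat.card E₁ = p ^ 2
  card₂' : Nat.card E₂ = p ^ 2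
  cardG : Nat.card G = p ^ 3
  inf_eq : E₁ ⊓ E₂ = center G
  card_inf : Nat.card ↥(E₁ ⊓ E₂) = p
  not_inv₁ : ¬ P.s₁.Inv (E₁ ⊓ E₂)
  not_inv₂ : ¬ P.s₂.Inv (E₁ ⊓ E₂)

include P in
theorem fd_eq_inf (hout : ¬ P.s₁.spanZ ≤ E₁ ⊓ E₂) (hnorm : (FD p (E₁ ⊓ E₂)).Normal) :
    FD p E₁ = FD p (E₁ ⊓ E₂) := by
  refine le_antisymm ?_ (FD_mono inf_le_left)
  obtain ⟨v, hv, hvD⟩ := SetLike.not_le_iff_exists.1 hout
  refine FD_le_of_elem ?_
  rw [← congrArg (Subgroup.map (QuotientGroup.mk' (FD p (E₁ ⊓ E₂))))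
    (P.sup_zpowers₁ (P.s₁.span_le _ hv) hvD), Subgroup.map_sup, MonoidHom.map_zpowers]
  refine (elem_map_FD _ le_rfl).sup
    (elem_zpowers (by rw [← map_pow, P.s₁.spanZ_elem.2 v hv, map_one])) ?_
  rintro _ ⟨d, hd, rfl⟩ _ ⟨i, rfl⟩
  exact ((P.s₁.spanZ_central (mem_inf.1 hd).1 hv).map _).zpow_right i

include P in
theorem binv_fd_normal : (FD p (E₁ ⊓ E₂)).Normal := by
  haveI := P.inf_normal
  refine @Subgroup.sup_normal _ _ _ _ (commutator_normal _ _) ?_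
  refine ⟨fun n hn g => ?_⟩
  have hle : closure ((fun a : G => a ^ p) '' ((E₁ ⊓ E₂ : Subgroup G) : Set G)) ≤
      (closure ((fun a : G => a ^ p) '' ((E₁ ⊓ E₂ : Subgroup G) : Set G))).comap
        (MulAut.conj g).toMonoidHom := by
    refine (closure_le _).2 ?_
    rintro _ ⟨a, ha, rfl⟩
    refine mem_comap.2 (subset_closure ⟨g * a * g⁻¹, Normal.conj_mem inferInstance a ha g, ?_⟩)
    show (g * a * g⁻¹) ^ p = g * a ^ p * g⁻¹
    rw [conj_pow]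
  exact hle hn

include P in
theorem tri_of_both_outside (h₁ : ¬ P.s₁.Deg) (h₂ : ¬ P.s₂.Deg)
    (m₁ : ¬ P.s₁.Inv (omegaCenter p G)) (m₂ : ¬ P.s₂.Inv (omegaCenter p G))
    (hout₁ : ¬ P.s₁.spanZ ≤ E₁ ⊓ E₂) (hout₂ : ¬ P.s₂.spanZ ≤ E₁ ⊓ E₂) : P.Tri := by
  haveI := P.nontrivial
  have hG := P.hG
  have hp1 := hp.out.one_lt
  set Z := omegaCenter p G with hZdef
  set D := E₁ ⊓ E₂ with hDdef
  have hZ : Z ≤ D := P.omega_le_inf h₁ h₂
  have hZ₁ := hZ.trans inf_le_left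
  have hZ₂ := hZ.trans inf_le_right
  have hnorm := P.binv_fd_normal
  have e₁ := P.fd_eq_inf hout₁ hnorm
  have e₂ : FD p E₂ = FD p D := by
    have h := P.swap.fd_eq_inf (by rw [inf_comm]; exact hout₂) (by rw [inf_comm]; exact hnorm)
    rwa [inf_comm] at h
  have hFD : FD p D = ⊥ := P.max _ (FD_le D) (e₁ ▸ P.s₁.inv_self.fd le_rfl)
    (e₂ ▸ P.s₂.inv_self.fd le_rfl)
  have hE₁ : Elem p E₁ := elem_of_FD (e₁.trans hFD)
  have hE₂ : Elem p E₂ := elem_of_FD (e₂.trans hFD)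
  have hDZ : D = Z := le_antisymm (fun d hd => ⟨P.mem_center_of_commute
    (fun a ha => hE₁.1 a ha d (mem_inf.1 hd).1) (fun a ha => hE₂.1 a ha d (mem_inf.1 hd).2),
    hE₁.2 d (mem_inf.1 hd).1⟩) hZ
  have hcen : D = center G := le_antisymm (hDZ ▸ omegaCenter_le_center)
    (le_inf (P.s₁.center_le hG h₁) (P.s₂.center_le hG h₂))
  have hc₁ : Nat.card E₁ = p * Nat.card D := P.card₁
  have hc₂ : Nat.card E₂ = p * Nat.card D := by rw [P.swap.card₁, inf_comm]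
  have n₁ : ¬ P.s₁.Inv D := fun h => m₁ (hDZ ▸ h)
  have n₂ : ¬ P.s₂.Inv D := fun h => m₂ (hDZ ▸ h)
  have hb := hE₁.card_le P.rank
  obtain ⟨k, hk⟩ := exists_card hG D
  have hk1 : 1 ≤ k := by
    have := prime_le_card hG (show Z ≠ ⊥ from omegaCenter_ne_bot hG)
    rw [← hDZ, hk] at this
    by_contra h
    rw [show k = 0 by omega, pow_zero] at this
    omega
  have hk2 : k ≤ 2 := by
    rw [hc₁, hk, ← pow_succ'] at hb
    have := (Nat.pow_le_pow_iff_right hp1).1 hb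
    omega
  rcases (show k = 1 ∨ k = 2 by omega) with rfl | rfl
  · rw [pow_one] at hk
    exact ⟨h₁, h₂, hE₁, hE₂, by rw [hc₁, hk, pow_two], by rw [hc₂, hk, pow_two],
      by rw [P.card_top_eq, hk]; ring, hcen, hk, n₁, n₂⟩
  exfalso
  -- both fixed lines agree
  have t₁ : Nat.card E₁ = p ^ 3 := by rw [hc₁, hk]; ring
  have t₂ : Nat.card E₂ = p ^ 3 := by rw [hc₂, hk]; ring
  obtain ⟨C₁, hC₁c, hC₁le, ⟨d₁⟩⟩ := P.s₁.exists_trans_space hG le_rfl P.s₁.inv_self hE₁ t₁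
    (fun e he m hm => hE₁.1 e he m hm) (by rw [inf_center_eq hE₁ hZ₁, ← hZdef, ← hDZ, hk])
    (by rwa [inf_center_eq hE₁ hZ₁])
  obtain ⟨C₂, hC₂c, hC₂le, ⟨d₂⟩⟩ := P.s₂.exists_trans_space hG le_rfl P.s₂.inv_self hE₂ t₂
    (fun e he m hm => hE₂.1 e he m hm) (by rw [inf_center_eq hE₂ hZ₂, ← hZdef, ← hDZ, hk])
    (by rwa [inf_center_eq hE₂ hZ₂])
  rw [inf_center_eq hE₁ hZ₁] at hC₁le
  rw [inf_center_eq hE₂ hZ₂] at hC₂le
  obtain ⟨n, -, hn, hnC, hnc, -⟩ := d₁.exists_negOne hG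
  obtain ⟨β, hβ, hβn⟩ := P.s₁.ext n hn
  obtain ⟨v₁, hv₁, hv₁'⟩ := P.swap.exists_mem
  obtain ⟨v₂, hv₂, hv₂'⟩ := P.exists_mem
  set w := ⁅v₁, v₂⁆ with hw
  have hw1 : w ≠ 1 := by
    intro h
    refine hv₁' ?_
    have hv : v₁ ∈ center G := mem_center_of_index P.s₁.index_eq hv₂'
      (fun a ha => hE₁.1 a ha v₁ hv₁) (commutatorElement_eq_one_iff_commute.1 h).symm
    exact P.s₂.center_le hG h₂ hv
  have hwp : w ^ p = 1 := hE₁.2 _ (mem_inf.1 (P.comm_mem_inf hv₁ hv₂)).1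
  have hc12 : zpowers d₁.c = zpowers d₂.c := by
    have k₁ : w ∈ zpowers d₁.c := by
      rw [hw, ← commutatorElement_inv v₂ v₁]
      exact inv_mem (d₁.comm_all v₂ hv₁)
    have k₂ : w ∈ zpowers d₂.c := d₂.comm_all v₁ hv₂
    rw [← eq_zpowers_of_card_prime (by rw [Nat.card_zpowers, d₁.orderOf_c]) k₁ hw1,
      ← eq_zpowers_of_card_prime (by rw [Nat.card_zpowers, d₂.orderOf_c]) k₂ hw1]
  have hc₁mem : d₁.c ∈ Z := ⟨mem_center_of_index P.s₁.index_eq d₁.gE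
    (fun e he => d₁.cE e he _ d₁.cM) d₁.fixc, d₁.elem.2 _ d₁.cM⟩
  have hc₁C : d₁.c ∉ C₁ := by
    intro h
    have h1 := d₁.gen
    rw [sup_eq_left.2 (zpowers_le.2 h)] at h1
    have hCe : Elem p C₁ := hE₁.mono (hC₁le.trans hZ₁)
    have h2 : Nat.card (C₁ ⊔ zpowers d₁.c' : Subgroup G) ≤ p ^ 2 := by
      haveI : C₁.Normal := d₁.C_inv.normal (hC₁le.trans hZ₁)
      have h3 := CfsgLib.PGroupBasic.card_sup_zpowers_le (p := p) C₁ d₁.c'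
        (by rw [d₁.elem.2 _ d₁.c'M]; exact one_mem _)
      rw [hC₁c, sup_comm] at h3
      rw [pow_two]
      exact h3
    rw [h1, t₁] at h2
    exact absurd ((Nat.pow_le_pow_iff_right hp1).1 h2) (by norm_num)
  have hZgen : C₁ ⊔ zpowers d₁.c = Z := eq_sup_zpowers (p := p) hC₁le
    (by rw [← hZdef, ← hDZ, hk, hC₁c, pow_two]) hc₁mem hc₁C
  have hc₂C : d₁.c ∉ C₂ := by
    intro h
    have h' : d₂.c ∈ C₂ := zpowers_le.2 h (hc12.ge (mem_zpowers _))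
    have h1 := d₂.gen
    rw [sup_eq_left.2 (zpowers_le.2 h')] at h1
    have h2 : Nat.card (C₂ ⊔ zpowers d₂.c' : Subgroup G) ≤ p ^ 2 := by
      haveI : C₂.Normal := d₂.C_inv.normal (hC₂le.trans hZ₂)
      have h3 := CfsgLib.PGroupBasic.card_sup_zpowers_le (p := p) C₂ d₂.c'
        (by rw [d₂.elem.2 _ d₂.c'M]; exact one_mem _)
      rw [hC₂c, sup_comm] at h3
      rw [pow_two]
      exact h3
    rw [h1, t₂] at h2
    exact absurd ((Nat.pow_le_pow_iff_right hp1).1 h2) (by norm_num)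
  have hβc : β d₁.c = d₁.c⁻¹ := (hβn ⟨d₁.c, d₁.cM⟩).trans (hnc ⟨d₁.c, d₁.cM⟩ rfl)
  obtain ⟨n₂, -, hn₂, hn₂C, hn₂c, -⟩ := d₂.exists_negOne hG
  obtain ⟨β₂, hβ₂, hβ₂n⟩ := P.s₂.ext n₂ hn₂
  have hβ₂c : β₂ d₁.c = d₁.c⁻¹ := by
    obtain ⟨k, hk⟩ := mem_zpowers_iff.1 (hc12.le (mem_zpowers d₁.c))
    have h2 : β₂ d₂.c = d₂.c⁻¹ := (hβ₂n ⟨d₂.c, d₂.cM⟩).trans (hn₂c ⟨d₂.c, d₂.cM⟩ rfl)
    rw [← hk, map_zpow, h2, inv_zpow]
  have hsub : C₂ ≤ C₁ := by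
    intro u hu
    have huZ : u ∈ Z := hC₂le hu
    rw [← hZgen] at huZ
    haveI : C₁.Normal := d₁.C_inv.normal (hC₁le.trans hZ₁)
    obtain ⟨a, ha, b, hb, rfl⟩ := (mem_sup_of_normal_left).1 huZ
    obtain ⟨i, rfl⟩ := mem_zpowers_iff.1 hb
    have hβa : β a = a := (hβn ⟨a, hZ₁ (hC₁le ha)⟩).trans (hnC ⟨a, _⟩ ha)
    have hu2 : β₂ (a * d₁.c ^ i) = a * d₁.c ^ i :=
      (hβ₂n ⟨a * d₁.c ^ i, hZ₂ (hC₂le hu)⟩).trans (hn₂C ⟨a * d₁.c ^ i, _⟩ hu)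
    set u := a * d₁.c ^ i with hudef
    have hcinv : ∀ (γ : MulAut G), γ d₁.c = d₁.c⁻¹ → γ⁻¹ d₁.c = d₁.c⁻¹ := fun γ hγ => by
      apply γ.injective
      rw [MulAut.apply_inv_self, map_inv, hγ, inv_inv]
    have hk : ∀ k : ℤ, β (u * d₁.c ^ k) = u * d₁.c ^ (-2 * i - k) := fun k => by
      rw [map_mul, map_zpow, hβc, hudef, map_mul, map_zpow, hβa, hβc, inv_zpow', inv_zpow', mul_assoc,
        mul_assoc, ← zpow_add, ← zpow_add]
      congr 2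
      ring
    have hk₂ : ∀ k : ℤ, β₂ (u * d₁.c ^ k) = u * d₁.c ^ (-k) := fun k => by
      rw [map_mul, map_zpow, hβ₂c, hu2, inv_zpow']
    have hBB : β₂⁻¹ * β⁻¹ * β₂ * β ∈ B₁ ⊔ B₂ := mul_mem (mul_mem (mul_mem
      (inv_mem (mem_sup_right hβ₂)) (inv_mem (mem_sup_left hβ))) (mem_sup_right hβ₂)) (mem_sup_left hβ)
    have hval : (β₂⁻¹ * β⁻¹ * β₂ * β) u = u * d₁.c ^ (4 * i) := by
      have e0 : β u = u * d₁.c ^ (-2 * i) := by
        have := hk 0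
        rwa [zpow_zero, mul_one, sub_zero] at this
      have e1 : β⁻¹ (u * d₁.c ^ (2 * i)) = u * d₁.c ^ (-(4 * i)) := by
        apply β.injective
        rw [MulAut.apply_inv_self, hk, show -2 * i - -(4 * i) = 2 * i by ring]
      have e2 : β₂⁻¹ (u * d₁.c ^ (-(4 * i))) = u * d₁.c ^ (4 * i) := by
        apply β₂.injective
        rw [MulAut.apply_inv_self, hk₂]
      rw [MulAut.mul_apply, MulAut.mul_apply, MulAut.mul_apply, e0, hk₂,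
        show -(-2 * i) = 2 * i by ring, e1, e2]
    have hfix := P.cop.fix hBB (c := d₁.c) (u := u) (hE₁.2 _ d₁.cM) (hC₂le hu).1 (by
      rw [MulAut.mul_apply, MulAut.mul_apply, MulAut.mul_apply, hβc, map_inv, hβ₂c, inv_inv,
        hcinv β hβc, map_inv, hcinv β₂ hβ₂c, inv_inv])
      (by rw [hval, mem_center_iff.1 (zpow_mem hc₁mem.1 (4 * i)) u, mul_inv_cancel_right]
          exact zpow_mem (mem_zpowers _) _)
    rw [hval, mul_eq_left] at hfix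
    have hi : (p : ℤ) ∣ i := by
      by_contra hi
      refine d₁.c_ne (RankThree.eq_one_of_zpow (hE₁.2 _ d₁.cM) (fun h => ?_) hfix)
      rcases (Nat.prime_iff_prime_int.1 hp.out).dvd_or_dvd h with h4 | h4
      · rw [show (4 : ℤ) = 2 * 2 from rfl] at h4
        exact ((Nat.prime_iff_prime_int.1 hp.out).dvd_or_dvd h4).elim (not_dvd_two P.odd)
          (not_dvd_two P.odd)
      · exact hi h4
    rw [hudef, RankThree.zpow_congr (hE₁.2 _ d₁.cM) (i := i) (j := 0) (by rwa [sub_zero]), zpow_zero, mul_one]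
    exact ha
  have heq : C₂ = C₁ := eq_of_le_of_card_ge hsub (by rw [hC₁c, hC₂c])
  have := P.max C₁ (hC₁le.trans hZ) d₁.C_inv (heq ▸ d₂.C_inv)
  rw [this, card_bot] at hC₁c
  exact hp1.ne hC₁c

end Pair

end CfsgLib.Fusion.TwoInvariant
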