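import Cfsg.Agent.Fusion.TwoInvariant.Pair

/-!
One side moves the central elements of order `p` inside the intersection, along a plane.
-/

set_option autoImplicit false
set_option linter.unusedSectionVars false
set_option linter.style.haveILetI false

open Subgroup
open scoped commutatorElement

namespace CfsgLib.Fusion.TwoInvariant

variable {G : Type*} [Group G] [Finite G] {p : ℕ} [hp : Fact p.Prime] {B B₁ B₂ : Subgroup (MulAut G)}
  {E₁ E₂ : Subgroup G} {X₁ X₂ : Type*} [Group X₁] [Group X₂] [Finite X₁] [Finite X₂]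
  (P : Pair p B₁ B₂ E₁ E₂ X₁ X₂)

/-- Commutators of a group generated by a commutative normal subgroup and one element, when all
commutators with the element are powers of one central commutator. -/
theorem commutator_le_zpowers {E D A : Subgroup G} [D.Normal] {a u : G} (hDE : D ≤ E) (haE : a ∈ E)
    (hDc : ∀ x ∈ D, ∀ y ∈ D, Commute x y) (hgen : E ≤ D ⊔ zpowers a) (hu : u ∈ D)
    (hA : ∀ x ∈ A, Commute a x) (hAD : A ≤ D) (hD : D ≤ A ⊔ zpowers u)
    (hcen : ∀ g ∈ E, Commute g ⁅a, u⁆) : ⁅E, E⁆ ≤ zpowers ⁅a, u⁆ := by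
  set w := ⁅a, u⁆
  have hin : ∀ d ∈ D, ∀ g : G, ⁅g, d⁆ ∈ D := fun d hd g => by
    rw [commutatorElement_def]
    exact mul_mem (Normal.conj_mem ‹D.Normal› d hd g) (inv_mem hd)
  let f : D →* G := MonoidHom.mk' (fun d => ⁅a, (d : G)⁆) fun d d' =>
    comm_mul_of_central (hDc _ d.2 _ (hin _ d'.2 a))
  have hall : ∀ d ∈ D, ⁅a, d⁆ ∈ zpowers w := by
    intro d hd
    have hle : A ⊔ zpowers u ≤ ((zpowers w).comap f).map D.subtype := by
      refine sup_le (fun x hx => ⟨⟨x, hAD hx⟩, ?_, rfl⟩) (zpowers_le.2 ⟨⟨u, hu⟩, mem_zpowers w, rfl⟩)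
      show ⁅a, x⁆ ∈ zpowers w
      rw [commutatorElement_eq_one_iff_commute.2 (hA x hx)]
      exact one_mem _
    obtain ⟨d', hd', rfl⟩ := hle (hD hd)
    exact hd'
  have c1 : ∀ g ∈ E, ∀ z ∈ zpowers w, Commute g z := by
    rintro g hg _ ⟨n, rfl⟩
    exact (hcen g hg).zpow_right n
  have hz : ∀ d ∈ D, ∀ n : ℤ, ⁅a ^ n, d⁆ ∈ zpowers w := fun d hd n => by
    have hm := hall d hd
    have hh := comm_zpow_zpow (a := a) (b := d) (c1 a haE _ hm) (c1 d (hDE hd) _ hm) n 1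
    rw [zpow_one] at hh
    rw [hh]
    exact zpow_mem hm _
  refine commutator_le.2 fun x hx y hy => ?_
  obtain ⟨d₁, hd₁, b₁, hb₁, rfl⟩ := (mem_sup_of_normal_left).1 (hgen hx)
  obtain ⟨d₂, hd₂, b₂, hb₂, rfl⟩ := (mem_sup_of_normal_left).1 (hgen hy)
  obtain ⟨i, rfl⟩ := mem_zpowers_iff.1 hb₁
  obtain ⟨j, rfl⟩ := mem_zpowers_iff.1 hb₂
  have s1 : ⁅d₁, d₂ * a ^ j⁆ ∈ zpowers w := by
    have hmem : ⁅d₁, a ^ j⁆ ∈ zpowers w := by
      rw [← commutatorElement_inv (a ^ j) d₁]; exact inv_mem (hz d₁ hd₁ j)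
    rw [comm_mul_of_central (c1 _ (hDE hd₂) _ hmem)]
    exact mul_mem (by
      rw [commutatorElement_eq_one_iff_commute.2 (hDc d₁ hd₁ d₂ hd₂)]; exact one_mem _) hmem
  have s2 : ⁅a ^ i, d₂ * a ^ j⁆ ∈ zpowers w := by
    have h3 : ⁅a ^ i, a ^ j⁆ = 1 :=
      commutatorElement_eq_one_iff_commute.2 ((Commute.refl a).zpow_zpow i j)
    rw [comm_mul_of_central (by rw [h3]; exact Commute.one_right _), h3, mul_one]
    exact hz d₂ hd₂ i
  rw [comm_mul_left_of_central (c1 _ (hDE hd₁) _ s2)]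
  exact mul_mem s2 s1

namespace Pair

/-- What is common to the cases below. -/
structure Small : Prop where
  nd₁ : ¬ P.s₁.Deg
  nd₂ : ¬ P.s₂.Deg
  zD : omegaCenter p G ≤ E₁ ⊓ E₂
  inv₂ : P.s₂.Inv (omegaCenter p G)
  zp : Nat.card (omegaCenter p G) = p
  card : Nat.card P.s₁.spanZ = p ^ 2
  le : P.s₁.spanZ ≤ E₁ ⊓ E₂

variable {P}

theorem Small.z_lt (h : P.Small) : omegaCenter p G < P.s₁.spanZ :=
  lt_of_le_of_ne (P.s₁.le_spanZ (h.zD.trans inf_le_left)) fun e => by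
    have := h.card
    rw [← e, h.zp] at this
    exact (lt_self_pow₀ hp.out.one_lt one_lt_two).ne this

theorem Small.moved (h : P.Small) : ¬ P.s₁.Inv (omegaCenter p G) := fun hi =>
  h.z_lt.not_ge (P.s₁.span_le_of_inv le_rfl hi)

theorem Small.z_ne (h : P.Small) : omegaCenter p G ≠ ⊥ := fun e => by
  have := h.zp
  rw [e, card_bot] at this
  exact hp.out.one_lt.ne this

theorem Small.not_inv (h : P.Small) {H : Subgroup G} (hle : H ≤ E₁ ⊓ E₂)
    (hz : omegaCenter p G ≤ H) (h₁ : P.s₁.Inv H) : ¬ P.s₂.Inv H := fun h₂ =>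
  h.z_ne (le_bot_iff.1 (hz.trans (P.max H hle h₁ h₂).le))

/-- An element of the conjugates of the plane outside the intersection. -/
theorem Small.exists_outside (h : P.Small) :
    ∃ w ∈ E₂, w ∉ E₁ ∧ w ^ p = 1 ∧ (∀ g ∈ E₂, ⁅g, w⁆ ∈ omegaCenter p G) ∧
      w ∈ P.s₂.span P.s₁.spanZ := by
  have hG := P.hG
  set V := P.s₁.spanZ with hV
  have hVE : V ≤ E₂ := h.le.trans inf_le_right
  haveI := P.s₁.spanZ_normal
  set U := P.s₂.span V with hU
  have hUE : U ≤ E₂ := P.s₂.span_le _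
  have hcomU : ∀ e ∈ E₂, ∀ u ∈ U, ⁅e, u⁆ ∈ omegaCenter p G := by
    refine comm_closure_mem ?_
    rintro e he _ ⟨x, a, ha, rfl⟩
    have h1 : P.s₂.img x ⁅P.s₂.act x⁻¹ ⟨e, he⟩, a⁆ ∈ omegaCenter p G := h.inv₂ x _
      (comm_mem_of_card hG h.z_lt.le (by rw [h.card, h.zp, pow_two]) ha)
    rw [map_commutatorElement, ← Side.img_mul, mul_inv_cancel, Side.img_one] at h1
    exact h1
  have hgens : ∀ a ∈ {g | ∃ (x : X₂) (e : E₂), (e : G) ∈ V ∧ P.s₂.img x e = g}, a ^ p = 1 := by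
    rintro _ ⟨x, a, ha, rfl⟩
    rw [← map_pow, show a ^ p = 1 from Subtype.ext (P.s₁.spanZ_elem.2 _ ha), map_one]
  by_cases hUD : U ≤ E₁ ⊓ E₂
  swap
  · obtain ⟨w, hw, hwD⟩ : ∃ w ∈ {g | ∃ (x : X₂) (e : E₂), (e : G) ∈ V ∧ P.s₂.img x e = g},
        w ∉ E₁ ⊓ E₂ := by
      by_contra hc
      push Not at hc
      exact hUD ((closure_le _).2 hc)
    have hwU : w ∈ U := subset_closure hw
    exact ⟨w, hUE hwU, fun h1 => hwD (mem_inf.2 ⟨h1, hUE hwU⟩), hgens w hw,
      fun g hg => hcomU g hg w hwU, hwU⟩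
  exfalso
  have hUe : Elem p U := by
    refine elem_closure ?_ hgens
    rintro _ ⟨x, a, ha, rfl⟩ _ ⟨y, b, hb, rfl⟩
    have hc' : Commute ((P.s₂.act (x⁻¹ * y) b : E₂) : G) (a : G) := P.s₁.spanZ_central
      (mem_inf.1 (hUD (P.s₂.img_mem_span (x⁻¹ * y) hb))).1 ha
    have h2 : a * P.s₂.act (x⁻¹ * y) b = P.s₂.act (x⁻¹ * y) b * a := Subtype.ext hc'.symm.eq
    have h3 := congrArg (P.s₂.img x) h2
    rw [map_mul (P.s₂.img x), map_mul (P.s₂.img x), ← Side.img_mul, ← mul_assoc, mul_inv_cancel, one_mul] at h3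
    exact h3
  have hVU : V ≤ U := P.s₂.le_span hVE
  have hlt : V < U := lt_of_le_of_ne hVU fun e =>
    h.not_inv h.le h.z_lt.le P.s₁.spanZ_inv (by
      have h5 := P.s₂.inv_span V
      rwa [← hU, ← e] at h5)
  have hUc : Nat.card U = p ^ 3 := by
    refine le_antisymm (hUe.card_le P.rank) ?_
    have := card_mul_le_of_lt hG hlt
    rwa [h.card, ← pow_succ] at this
  haveI := (P.s₂.inv_span V).normal (P.s₂.span_le _)
  have hinv : P.s₁.Inv U := P.s₁.spread hG P.odd P.rank h.zp h.card (hUD.trans inf_le_left) hUe hUc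
    hVU fun e _ u hu => comm_mem_of_card hG hVU (by rw [hUc, h.card]; ring) hu
  exact h.not_inv hUD (h.z_lt.le.trans hVU) hinv (P.s₂.inv_span V)

/-- The intersection is not elementary. -/
theorem Small.fd_ne_bot (h : P.Small) : FD p (E₁ ⊓ E₂) ≠ ⊥ := by
  intro hFD
  have hG := P.hG
  have hp1 := hp.out.one_lt
  have hp2 := P.odd
  set V := P.s₁.spanZ with hV
  set D := E₁ ⊓ E₂ with hD
  haveI := P.inf_normal
  haveI := P.s₁.spanZ_normal
  haveI := P.s₁.normal
  haveI := P.s₂.normal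
  have hDe : Elem p D := elem_of_FD hFD
  obtain ⟨y, hy, hy2⟩ := P.swap.exists_mem
  have hyD : y ∉ D := fun hm => hy2 (mem_inf.1 hm).2
  have hgen₁ : D ⊔ zpowers y = E₁ := P.sup_zpowers₁ hy hyD
  -- the first side is commutative
  have hcomm : ∀ a ∈ E₁, ∀ b ∈ E₁, Commute a b := by
    have hder : ⁅E₁, E₁⁆ = ⊥ := by
      by_contra hne
      have hsub := P.s₁.spanZ_le hG h.zp (P.s₁.inv_self.commutator le_rfl P.s₁.inv_self le_rfl)
        (commutator_le.2 fun a ha b hb =>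
          mul_mem (mul_mem (mul_mem ha hb) (inv_mem ha)) (inv_mem hb)) hne
      obtain ⟨k, hk, hk2⟩ : ∃ K : Subgroup G, ⁅E₁, E₁⁆ ≤ K ∧ Nat.card K ≤ p := by
        rcases eq_or_lt_of_le h.le with e | hlt
        · refine ⟨⊥, commutator_le_of_gen hDe.1 (fun d hd => ?_) hgen₁.ge, by
            rw [card_bot]; exact hp1.le⟩
          rw [hD, ← e] at hd
          rw [mem_bot]
          exact commutatorElement_eq_one_iff_commute.2 (P.s₁.spanZ_central hy hd)
        · obtain ⟨u, hu, huV⟩ := SetLike.exists_of_lt hlt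
          have hc3 : Nat.card D = p ^ 3 := by
            refine le_antisymm (hDe.card_le P.rank) ?_
            have := card_mul_le_of_lt hG hlt
            rwa [h.card, ← pow_succ] at this
          have hsupD : V ⊔ zpowers u = D := eq_sup_zpowers h.le (by rw [hc3, h.card]; ring) hu huV
          have hw₀V : ⁅y, u⁆ ∈ V := comm_mem_of_card hG h.le (by rw [hc3, h.card]; ring) hu
          refine ⟨zpowers ⁅y, u⁆, commutator_le_zpowers inf_le_left hy hDe.1 hgen₁.ge hu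
            (fun v hv => P.s₁.spanZ_central hy hv) h.le hsupD.ge
            (fun g hg => P.s₁.spanZ_central hg hw₀V), ?_⟩
          rw [Nat.card_zpowers]
          exact Nat.le_of_dvd hp.out.pos (orderOf_dvd_of_pow_eq_one (P.s₁.spanZ_elem.2 _ hw₀V))
      have := (Subgroup.card_le_of_le (hsub.trans hk)).trans hk2
      rw [h.card] at this
      nlinarith
    intro a ha b hb
    rw [← commutatorElement_eq_one_iff_commute, ← mem_bot, ← hder]
    exact commutator_mem_commutator ha hb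
  -- and of exponent `p`
  have hyp : y ^ p ∈ D := by
    have h2 := (D.subgroupOf E₁).index_mul_card
    rw [Nat.card_congr (subgroupOfEquivOfLe inf_le_left).toEquiv, P.card₁] at h2
    have h3 : (D.subgroupOf E₁).index = p := Nat.eq_of_mul_eq_mul_right Nat.card_pos h2
    have h1 : ⟨y, hy⟩ ^ p ∈ D.subgroupOf E₁ := by
      rw [← QuotientGroup.eq_one_iff, QuotientGroup.mk_pow, ← h3, Subgroup.index_eq_card]
      exact pow_card_eq_one'
    exact h1
  set Q := closure ((fun a : G => a ^ p) '' (E₁ : Set G)) with hQ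
  have hQle : Q ≤ zpowers (y ^ p) := by
    refine (closure_le _).2 ?_
    rintro _ ⟨a, ha, rfl⟩
    rw [SetLike.mem_coe, ← hgen₁] at ha
    obtain ⟨d, hd, b, hb, rfl⟩ := (mem_sup_of_normal_left).1 ha
    obtain ⟨i, rfl⟩ := mem_zpowers_iff.1 hb
    show (d * y ^ i) ^ p ∈ zpowers (y ^ p)
    rw [(hcomm d (mem_inf.1 hd).1 _ (zpow_mem hy i)).mul_pow, hDe.2 d hd, one_mul,
      ← zpow_natCast (y ^ i), ← zpow_mul, mul_comm, zpow_mul, zpow_natCast]
    exact zpow_mem (mem_zpowers _) i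
  have hQ0 : Q = ⊥ := by
    by_contra hne
    have hQE : Q ≤ E₁ := (closure_le _).2 (by rintro _ ⟨a, ha, rfl⟩; exact pow_mem ha p)
    have := (Subgroup.card_le_of_le ((P.s₁.spanZ_le hG h.zp (P.s₁.inv_self.powers le_rfl p) hQE
      hne).trans hQle))
    rw [h.card, Nat.card_zpowers] at this
    have h2 := Nat.le_of_dvd hp.out.pos (orderOf_dvd_of_pow_eq_one (hDe.2 _ hyp))
    nlinarith
  have hE₁ : Elem p E₁ := ⟨hcomm, fun a ha => by
    rw [← mem_bot, ← hQ0]; exact subset_closure ⟨a, ha, rfl⟩⟩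
  have hc1 := hE₁.card_le P.rank
  rw [P.card₁] at hc1
  have hDc : Nat.card D = p ^ 2 := by
    refine le_antisymm ?_ (h.card ▸ Subgroup.card_le_of_le h.le)
    exact Nat.le_of_mul_le_mul_left (hc1.trans_eq (by ring)) hp.out.pos
  have hVD : V = D := eq_of_le_of_card_ge h.le (by rw [h.card, hDc])
  -- the complement of the plane is central
  obtain ⟨d⟩ := P.s₁.exists_trans_plane hG (h.le.trans inf_le_left) P.s₁.spanZ_inv P.s₁.spanZ_elem
    h.card (fun e he m hm => P.s₁.spanZ_central he hm)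
    (by rw [P.s₁.spanZ_inf_center (h.zD.trans inf_le_left)]; exact h.moved)
  obtain ⟨n, hnK, hn, -, hnc, hnc'⟩ := d.exists_negOne hG
  obtain ⟨β, hβ, hβn⟩ := P.s₁.ext n hn
  have hinv : ∀ e ∈ D, β e = e⁻¹ := by
    intro e he
    rw [← hVD, hV, ← d.gen, bot_sup_eq] at he
    obtain ⟨i, j, rfl⟩ := exists_zpow_mul (d.elem.1 _ d.cM _ d.c'M) he
    have hc : β d.c = d.c⁻¹ := (hβn ⟨d.c, d.le d.cM⟩).trans (hnc ⟨d.c, _⟩ rfl)
    have hc' : β d.c' = d.c'⁻¹ := (hβn ⟨d.c', d.le d.c'M⟩).trans (hnc' ⟨d.c', _⟩ rfl)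
    rw [map_mul, map_zpow, map_zpow, hc, hc', mul_inv_rev, inv_zpow, inv_zpow,
      ((d.elem.1 _ d.cM _ d.c'M).zpow_zpow i j).inv_inv.eq]
  have hmod : ∀ g : G, ∀ e : E₁, ⁅g, (e : G)⁆ ∈ V := fun g e => by
    haveI := P.s₁.normal
    exact comm_mem_of_card hG (P.s₁.span_le _) (by rw [P.card₁, ← hD, hDc, h.card]) e.2
  set v₀ := y⁻¹ * β y with hv₀def
  have hv₀ : v₀ ∈ D := by
    have h1 : P.s₁.img n ⟨y, hy⟩ * y⁻¹ ∈ V :=
      P.s₁.K_fixes_mod P.s₁.spanZ_inv (P.s₁.span_le _) ⟨y, hy⟩ hmod hnK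
    rw [hVD, Side.img_apply, ← hβn] at h1
    have h2 := Normal.conj_mem ‹D.Normal› _ h1 y⁻¹
    rw [inv_inv, show y⁻¹ * (β y * y⁻¹) * y = v₀ by rw [hv₀def]; group] at h2
    exact h2
  obtain ⟨t, ht⟩ := exists_half (p := p) hp2
  set y₀ := y * v₀ ^ t with hy₀
  have hy₀E : y₀ ∈ E₁ := mul_mem hy (zpow_mem (mem_inf.1 hv₀).1 t)
  have hβy₀ : β y₀ = y₀ := by
    rw [hy₀, map_mul, show β y = y * v₀ by rw [hv₀def, mul_inv_cancel_left],
      hinv _ (zpow_mem hv₀ t), ← zpow_neg, mul_assoc,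
      ← zpow_one_add, RankThree.zpow_congr (hDe.2 _ hv₀) (i := 1 + -t) (j := t)]
    obtain ⟨q, hq⟩ := ht
    exact ⟨-q, by linear_combination -hq⟩
  obtain ⟨w, hw, hw₁⟩ := P.exists_mem
  set e := w⁻¹ * β w with he
  have hee : e ∈ E₁ := by
    obtain ⟨v, hv, hvz⟩ := SetLike.exists_of_lt h.z_lt
    have hvw : ⁅v, w⁆ ∈ omegaCenter p G := by
      rw [← commutatorElement_inv w v]
      exact inv_mem (comm_mem_of_card hG h.z_lt.le (by rw [h.card, h.zp, pow_two]) hv)
    have hvc : ∀ g : G, Commute g ⁅v, w⁆ := fun g => mem_center_iff.1 hvw.1 g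
    have h1 : ⁅v, w⁆⁻¹ = ⁅v⁻¹, β w⁆ := by
      rw [← hinv _ (P.comm_mem_inf ((P.s₁.span_le _) hv) hw), map_commutatorElement,
        hinv v (h.le hv)]
    have hvβ : ⁅v, β w⁆ = ⁅v, w⁆ := by
      have h2 : ⁅v, β w⁆ ∈ omegaCenter p G := by
        rw [← commutatorElement_inv (β w) v]
        exact inv_mem (comm_mem_of_card hG h.z_lt.le (by rw [h.card, h.zp, pow_two]) hv)
      have h2c : ∀ g : G, Commute g ⁅v, β w⁆ := fun g => mem_center_iff.1 h2.1 g
      have h3 := comm_zpow_zpow (a := v) (b := β w) (h2c v) (h2c _) (-1) 1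
      rw [zpow_neg_one, zpow_one, mul_one, zpow_neg_one, ← h1, inv_inj] at h3
      exact h3.symm
    by_contra hne
    refine hvz ⟨mem_center_of_index P.s₁.index_eq hne (fun a ha => P.s₁.spanZ_central ha hv) ?_,
      P.s₁.spanZ_elem.2 v hv⟩
    have hwe : β w = w * e := by rw [he, mul_inv_cancel_left]
    have h6 : Commute w ⁅v, e⁆ := by
      have : ⁅v, e⁆ ∈ omegaCenter p G := by
        rw [← commutatorElement_inv e v]
        exact inv_mem (comm_mem_of_card hG h.z_lt.le (by rw [h.card, h.zp, pow_two]) hv)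
      exact mem_center_iff.1 this.1 w
    rw [hwe, comm_mul_of_central h6] at hvβ
    exact (commutatorElement_eq_one_iff_commute.1 (mul_eq_left.1 hvβ)).symm
  have hd1 : ⁅y₀, w⁆ = 1 := by
    have hdD : ⁅y₀, w⁆ ∈ D := P.comm_mem_inf hy₀E hw
    have h2 : β ⁅y₀, w⁆ = ⁅y₀, w⁆ := by
      rw [map_commutatorElement, hβy₀, show β w = w * e by rw [he, mul_inv_cancel_left],
        comm_mul_of_central (by
          rw [commutatorElement_eq_one_iff_commute.2 (hcomm y₀ hy₀E e hee)]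
          exact Commute.one_right _),
        commutatorElement_eq_one_iff_commute.2 (hcomm y₀ hy₀E e hee), mul_one]
    exact eq_one_of_inv_eq hp2 (hDe.2 _ hdD) ((hinv _ hdD).symm.trans h2)
  have hy₀Z : y₀ ∈ omegaCenter p G := ⟨mem_center_of_index P.s₁.index_eq hw₁
    (fun a ha => hcomm a ha y₀ hy₀E) (commutatorElement_eq_one_iff_commute.1 hd1).symm,
    hE₁.2 _ hy₀E⟩
  refine hy2 ?_
  have h3 := mul_mem (mem_inf.1 (h.zD hy₀Z)).2 (inv_mem (zpow_mem (mem_inf.1 hv₀).2 t))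
  rwa [hy₀, mul_inv_cancel_right] at h3

/-- There is no such configuration. -/
theorem Small.false (h : P.Small) : False := by
  have hG := P.hG
  have hp1 := hp.out.one_lt
  have hp2 := P.odd
  set Z := omegaCenter p G with hZ
  set V := P.s₁.spanZ with hV
  set D := E₁ ⊓ E₂ with hD
  haveI := P.inf_normal
  haveI := P.s₁.spanZ_normal
  haveI := P.s₁.normal
  haveI := P.s₂.normal
  obtain ⟨w, hw, hw₁, hwp, hwcom, hwU⟩ := h.exists_outside
  have hwD : w ∉ D := fun hm => hw₁ (mem_inf.1 hm).1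
  have hgen₂ : D ⊔ zpowers w = E₂ := by
    have := P.swap.sup_zpowers₁ hw (by rw [inf_comm]; exact hwD)
    rwa [inf_comm] at this
  have hne := h.fd_ne_bot
  haveI hFDn : (FD p D).Normal := by
    have hDb : BInv (MulAut.conj : G →* MulAut G).range D := by
      rintro _ ⟨g, rfl⟩ u hu
      exact (inferInstance : D.Normal).conj_mem u hu g
    refine (BInv.normal (B := (MulAut.conj : G →* MulAut G).range) (fun g => ⟨g, rfl⟩) ?_ :
      (FD p D).Normal)
    intro β hβ a ha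
    have hle : FD p D ≤ (FD p D).comap β.toMonoidHom := by
      refine sup_le (commutator_le.2 fun u hu v hv => ?_) ((closure_le _).2 ?_)
      · refine mem_comap.2 (mem_sup_left ?_)
        show β ⁅u, v⁆ ∈ _
        rw [map_commutatorElement]
        exact commutator_mem_commutator (hDb β hβ u hu) (hDb β hβ v hv)
      · rintro _ ⟨u, hu, rfl⟩
        refine mem_comap.2 (mem_sup_right ?_)
        show β (u ^ p) ∈ _
        rw [map_pow]
        exact subset_closure ⟨_, hDb β hβ u hu, rfl⟩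
    exact hle ha
  have hZFD : Z ≤ FD p D := by
    obtain ⟨z, hz, hzc, hz1⟩ := exists_omegaCenter_mem hG (FD p D) hne
    exact le_of_card_prime h.zp hzc hz hz1
  -- the Frattini subgroups agree
  have hFD2 : FD p E₂ = FD p D := by
    refine le_antisymm (FD_le_of_elem ?_) (FD_mono inf_le_right)
    rw [← hgen₂, Subgroup.map_sup, MonoidHom.map_zpowers]
    refine (elem_map_FD D le_rfl).sup (elem_zpowers (by rw [← map_pow, hwp, map_one])) ?_
    rintro _ ⟨d, hd, rfl⟩ _ ⟨i, rfl⟩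
    refine Commute.zpow_right ?_ i
    rw [← commutatorElement_eq_one_iff_commute, ← map_commutatorElement]
    exact (QuotientGroup.eq_one_iff _).2 (hZFD (hwcom d (mem_inf.1 hd).2))
  have hinv₂ : P.s₂.Inv (FD p D) := hFD2 ▸ P.s₂.inv_self.fd le_rfl
  -- the intersection is not invariant under the first side
  have hDinv : ¬ P.s₁.Inv D := fun hi => h.not_inv (FD_le D) hZFD (hi.fd inf_le_left) hinv₂
  obtain ⟨v, hv, hvF⟩ : ∃ v ∈ V, v ∉ FD p D := SetLike.not_le_iff_exists.1 fun hle =>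
    hwD (FD_le D (P.s₂.span_le_of_inv hle hinv₂ hwU))
  have hvD : v ∈ D := h.le hv
  have hvp : v ^ p = 1 := P.s₁.spanZ_elem.2 v hv
  have hvc : ∀ e ∈ E₁, Commute e v := fun e he => P.s₁.spanZ_central he hv
  have hvZ : v ∉ Z := fun hz => hvF (hZFD hz)
  -- two generators for the intersection
  obtain ⟨c₀, hc₀, hDgen⟩ : ∃ c ∈ D, D = zpowers v ⊔ zpowers c := by
    set π := QuotientGroup.mk' (FD p D) with hπ
    have hel : Elem p (E₂.map π) := by
      refine elem_map_FD E₂ hFD2.le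
    have hr' : Cfsg.SectionalPRankLE p 3 (G ⧸ FD p D) :=
      CfsgLib.TwoMetacyclic.sectional_quotient P.rank _
    have hcard := hel.card_le hr'
    set D' := D.map π
    have hv' : π v ∈ D' := mem_map_of_mem π hvD
    have hlt : D' < E₂.map π := lt_of_le_of_ne (Subgroup.map_mono inf_le_right) fun e => by
      have hwm : π w ∈ D' := e ▸ mem_map_of_mem π hw
      obtain ⟨d, hd, hdw⟩ := hwm
      have := mul_mem hd (FD_le D (QuotientGroup.eq.1 hdw))
      rw [mul_inv_cancel_left] at this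
      exact hwD this
    have hD'c : Nat.card D' * p ≤ p ^ 3 :=
      (card_mul_le_of_lt (hG.to_quotient _) hlt).trans hcard
    have hvz : π v ≠ 1 := fun e => hvF ((QuotientGroup.eq_one_iff v).1 e)
    have hvo : orderOf (π v) = p := orderOf_eq_of_pow (by rw [← map_pow, hvp, map_one]) hvz
    obtain ⟨c, hc, hcs⟩ : ∃ c ∈ D, D' ≤ zpowers (π v) ⊔ zpowers (π c) := by
      rcases eq_or_lt_of_le (zpowers_le.2 hv' : zpowers (π v) ≤ D') with e | hlt'
      · exact ⟨v, hvD, e.ge.trans le_sup_left⟩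
      · obtain ⟨u', hu', hu2⟩ := SetLike.exists_of_lt hlt'
        obtain ⟨u, hu, rfl⟩ := hu'
        refine ⟨u, hu, le_of_eq (eq_sup_zpowers (p := p) (zpowers_le.2 hv') ?_ ⟨u, hu, rfl⟩ hu2).symm⟩
        obtain ⟨k, hk⟩ := exists_card (hG.to_quotient _) D'
        have h1 := card_mul_le_of_lt (hG.to_quotient _) hlt'
        rw [Nat.card_zpowers, hvo] at h1 ⊢
        rw [hk] at h1 hD'c ⊢
        rw [← pow_two] at h1 ⊢
        rw [← pow_succ] at hD'c
        have := (Nat.pow_le_pow_iff_right hp1).1 h1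
        have := (Nat.pow_le_pow_iff_right hp1).1 hD'c
        rw [show k = 2 by omega]
    refine ⟨c, hc, (eq_of_sup_FD hG (sup_le (zpowers_le.2 hvD) (zpowers_le.2 hc)) ?_).symm⟩
    intro d hd
    have h1 : π d ∈ (zpowers v ⊔ zpowers c).map π := by
      rw [Subgroup.map_sup, MonoidHom.map_zpowers, MonoidHom.map_zpowers]
      exact hcs (mem_map_of_mem π hd)
    obtain ⟨a, ha, had⟩ := h1
    have h2 := QuotientGroup.eq.1 had
    have h3 := mul_mem (mem_sup_right ha : a ∈ FD p D ⊔ (zpowers v ⊔ zpowers c)) (mem_sup_left h2)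
    rwa [mul_inv_cancel_left] at h3
  -- adjust the second generator
  have hzcomm : ∀ d ∈ D, ⁅d, w⁆ ∈ Z := fun d hd => hwcom d (mem_inf.1 hd).2
  set z₀ := ⁅v, w⁆ with hz₀
  have hz₀Z : z₀ ∈ Z := hzcomm v hvD
  have hz₀1 : z₀ ≠ 1 := fun e => hvZ ⟨mem_center_of_index P.s₁.index_eq hw₁ hvc
    (commutatorElement_eq_one_iff_commute.1 e).symm, hvp⟩
  obtain ⟨k, hk⟩ := mem_zpowers_iff.1 ((eq_zpowers_of_card_prime h.zp hz₀Z hz₀1).ge (hzcomm c₀ hc₀))
  set c := c₀ * v ^ (-k) with hc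
  have hcD : c ∈ D := mul_mem hc₀ (zpow_mem hvD _)
  have hvk : ⁅v ^ (-k), w⁆ = z₀ ^ (-k) := by
    have := comm_zpow_zpow (a := v) (b := w) (mem_center_iff.1 hz₀Z.1 v) (mem_center_iff.1 hz₀Z.1 w)
      (-k) 1
    rwa [zpow_one, mul_one] at this
  have hcw : Commute c w := by
    rw [← commutatorElement_eq_one_iff_commute, hc, comm_mul_left_of_central
      (mem_center_iff.1 (hzcomm _ (zpow_mem hvD _)).1 c₀), hvk, ← hk, ← zpow_add,
      neg_add_cancel, zpow_zero]
  have hgenD : D = zpowers c ⊔ zpowers v := by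
    refine le_antisymm ?_ (sup_le (zpowers_le.2 hcD) (zpowers_le.2 hvD))
    rw [hDgen]
    refine sup_le le_sup_right (zpowers_le.2 ?_)
    have := mul_mem (mem_sup_left (mem_zpowers c) : c ∈ zpowers c ⊔ zpowers v)
      (mem_sup_right (zpow_mem (mem_zpowers v) k))
    rwa [hc, mul_assoc, ← zpow_add, neg_add_cancel, zpow_zero, mul_one] at this
  have hcv : Commute c v := hvc c (mem_inf.1 hcD).1
  have hDform : ∀ d ∈ D, ∃ i j : ℤ, d = c ^ i * v ^ j := fun d hd =>
    exists_zpow_mul hcv (hgenD.le hd)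
  have hDc : ∀ a ∈ D, ∀ b ∈ D, Commute a b := by
    intro a ha b hb
    obtain ⟨i, j, rfl⟩ := hDform a ha
    obtain ⟨i', j', rfl⟩ := hDform b hb
    exact (((Commute.refl c).zpow_zpow i i').mul_right (hcv.zpow_zpow i j')).mul_left
      ((hcv.symm.zpow_zpow j i').mul_right ((Commute.refl v).zpow_zpow j j'))
  -- the conjugate of the intersection
  obtain ⟨x, e, heD, hxe⟩ : ∃ (x : X₁) (e : E₁), (e : G) ∈ D ∧ P.s₁.img x e ∉ D := by
    by_contra hc'
    push Not at hc'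
    exact hDinv hc'
  set D₁ := (D.subgroupOf E₁).map (P.s₁.img x) with hD₁
  have hD₁E : D₁ ≤ E₁ := by
    rintro _ ⟨u, -, rfl⟩
    exact P.s₁.img_mem x u
  have hinj : Function.Injective (P.s₁.img x) :=
    E₁.subtype_injective.comp (P.s₁.act x).injective
  have hD₁card : Nat.card D₁ = Nat.card D := by
    rw [hD₁, card_map_of_injective hinj, Nat.card_congr (subgroupOfEquivOfLe inf_le_left).toEquiv]
  have hD₁c : ∀ a ∈ D₁, ∀ b ∈ D₁, Commute a b := by
    rintro _ ⟨a, ha, rfl⟩ _ ⟨b, hb, rfl⟩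
    exact (show Commute a b from Subtype.ext (hDc _ ha _ hb)).map _
  set a := P.s₁.img x e with ha
  have haD₁ : a ∈ D₁ := ⟨e, heD, rfl⟩
  have haE : a ∈ E₁ := hD₁E haD₁
  have hgen₁ : D ⊔ zpowers a = E₁ := P.sup_zpowers₁ haE hxe
  have hsup : D ⊔ D₁ = E₁ := le_antisymm (sup_le inf_le_left hD₁E)
    (hgen₁.ge.trans (sup_le_sup_left (zpowers_le.2 haD₁) _))
  obtain ⟨d₀, hd₀, hd₀1⟩ : ∃ d ∈ D, d ∉ D₁ := SetLike.not_le_iff_exists.1 fun hle => hxe
    ((eq_of_le_of_card_ge hle hD₁card.le).ge haD₁)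
  have hcenI : ∀ u ∈ D ⊓ D₁, ∀ g ∈ E₁, Commute g u := by
    intro u hu g hg
    rw [← hsup] at hg
    have hle : D ⊔ D₁ ≤ centralizer {u} := sup_le
      (fun d hd => mem_centralizer_singleton_iff.2 (hDc d hd u (mem_inf.1 hu).1).eq)
      (fun d hd => mem_centralizer_singleton_iff.2 (hD₁c d hd u (mem_inf.1 hu).2).eq)
    exact mem_centralizer_singleton_iff.1 (hle hg)
  have hIcard : Nat.card D = p * Nat.card ↥(D ⊓ D₁) := by
    have h1 := (D.subgroupOf D₁).index_mul_card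
    rw [← relIndex, ← relIndex_sup_right (K := D) (H := D₁), sup_comm, hsup] at h1
    have h2 := (D.subgroupOf E₁).index_mul_card
    rw [← relIndex, Nat.card_congr (subgroupOfEquivOfLe inf_le_left).toEquiv, P.card₁] at h2
    rw [Nat.eq_of_mul_eq_mul_right Nat.card_pos h2, hD₁card, ← inf_subgroupOf_right,
      Nat.card_congr (subgroupOfEquivOfLe inf_le_right).toEquiv] at h1
    exact h1.symm
  have hDsplit : D ⊓ D₁ ⊔ zpowers d₀ = D :=
    eq_sup_zpowers inf_le_left hIcard hd₀ fun hm => hd₀1 (mem_inf.1 hm).2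
  -- the first side is commutative
  set w₁ := ⁅a, d₀⁆ with hw₁def
  have hw₁I : w₁ ∈ D ⊓ D₁ := by
    refine mem_inf.2 ⟨?_, ?_⟩
    · rw [hw₁def, commutatorElement_def]
      exact mul_mem (Normal.conj_mem ‹D.Normal› d₀ hd₀ a) (inv_mem hd₀)
    · have hn : (D.subgroupOf E₁).Normal := inferInstance
      have h1 : ⁅e, P.s₁.act x⁻¹ ⟨d₀, (mem_inf.1 hd₀).1⟩⁆ ∈ D.subgroupOf E₁ := by
        rw [commutatorElement_def, mul_assoc (e : E₁), mul_assoc (e : E₁)]
        exact mul_mem (show e ∈ D.subgroupOf E₁ from heD) (hn.conj_mem _ (inv_mem heD) _)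
      refine ⟨_, h1, ?_⟩
      rw [map_commutatorElement, ← Side.img_mul, mul_inv_cancel, Side.img_one]
  have haw : ∀ g ∈ E₁, Commute g w₁ := fun g hg => hcenI w₁ hw₁I g hg
  have hap : a ^ p ∈ D := by
    have h2 := (D.subgroupOf E₁).index_mul_card
    rw [Nat.card_congr (subgroupOfEquivOfLe inf_le_left).toEquiv, P.card₁] at h2
    have h3 : (D.subgroupOf E₁).index = p := Nat.eq_of_mul_eq_mul_right Nat.card_pos h2
    have h1 : ⟨a, haE⟩ ^ p ∈ D.subgroupOf E₁ := by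
      rw [← QuotientGroup.eq_one_iff, QuotientGroup.mk_pow, ← h3, Subgroup.index_eq_card]
      exact pow_card_eq_one'
    exact h1
  have hw₁p : w₁ ^ p = 1 := by
    have h1 := comm_zpow_zpow (haw a haE) (haw d₀ (mem_inf.1 hd₀).1) (p : ℤ) 1
    rw [zpow_one, mul_one, zpow_natCast, zpow_natCast,
      commutatorElement_eq_one_iff_commute.2 (hDc _ hap _ hd₀)] at h1
    exact h1.symm
  have hcomm : ∀ u ∈ E₁, ∀ u' ∈ E₁, Commute u u' := by
    have hder : ⁅E₁, E₁⁆ ≤ zpowers w₁ := commutator_le_zpowers inf_le_left haE hDc hgen₁.ge hd₀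
      (fun u hu => hcenI u hu a haE) inf_le_left hDsplit.ge haw
    have hbot : ⁅E₁, E₁⁆ = ⊥ := by
      by_contra hne'
      have h1 := Subgroup.card_le_of_le ((P.s₁.spanZ_le hG h.zp
        (P.s₁.inv_self.commutator le_rfl P.s₁.inv_self le_rfl)
        (commutator_le.2 fun a ha b hb =>
          mul_mem (mul_mem (mul_mem ha hb) (inv_mem ha)) (inv_mem hb)) hne').trans hder)
      rw [h.card, Nat.card_zpowers] at h1
      have h2 := Nat.le_of_dvd hp.out.pos (orderOf_dvd_of_pow_eq_one hw₁p)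
      nlinarith
    intro u hu u' hu'
    rw [← commutatorElement_eq_one_iff_commute, ← mem_bot, ← hbot]
    exact commutator_mem_commutator hu hu'
  -- powers in the first side
  have hvn : v ∉ zpowers c := by
    rintro ⟨m, hm⟩
    exact hz₀1 (commutatorElement_eq_one_iff_commute.2 (hm ▸ hcw.zpow_left m))
  have hcp1 : c ^ p ≠ 1 := fun hcp => hne (by
    refine le_bot_iff.1 ?_
    have hel : Elem p D := by
      rw [hgenD]
      exact (elem_zpowers hcp).sup (elem_zpowers hvp) fun x hx y hy => by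
        obtain ⟨i, rfl⟩ := mem_zpowers_iff.1 hx
        obtain ⟨j, rfl⟩ := mem_zpowers_iff.1 hy
        exact hcv.zpow_zpow i j
    refine sup_le (commutator_le.2 fun x hx y hy => ?_) ((closure_le _).2 ?_)
    · exact mem_bot.2 (commutatorElement_eq_one_iff_commute.2 (hel.1 x hx y hy))
    · rintro _ ⟨x, hx, rfl⟩
      exact mem_bot.2 (hel.2 x hx))
  obtain ⟨α, β, hαβ⟩ := hDform _ hap
  have hform : ∀ u ∈ E₁, ∃ i k : ℤ, u ^ p = (c ^ p) ^ i * (a ^ p) ^ k := by
    intro u hu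
    rw [← hgen₁] at hu
    obtain ⟨d, hd, b, hb, rfl⟩ := (mem_sup_of_normal_left).1 hu
    obtain ⟨k, rfl⟩ := mem_zpowers_iff.1 hb
    obtain ⟨i, j, rfl⟩ := hDform d hd
    refine ⟨i, k, ?_⟩
    rw [(hcomm _ (mem_inf.1 hd).1 _ (zpow_mem haE k)).mul_pow, (hcv.zpow_zpow i j).mul_pow,
      ← zpow_natCast (v ^ j), ← zpow_mul, mul_comm j, zpow_mul, zpow_natCast, hvp, one_zpow, mul_one,
      ← zpow_natCast (c ^ i), ← zpow_mul, mul_comm i, zpow_mul, zpow_natCast,
      ← zpow_natCast (a ^ k), ← zpow_mul, mul_comm k, zpow_mul, zpow_natCast]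
  have hPow : ∀ m : ℕ, closure ((fun u : G => u ^ m) '' (E₁ : Set G)) ≤ E₁ := fun m =>
    (closure_le _).2 (by rintro _ ⟨u, hu, rfl⟩; exact pow_mem hu m)
  have hcE : c ∈ E₁ := (mem_inf.1 hcD).1
  have happ : (a ^ p) ^ p = (c ^ p) ^ α := by
    rw [hαβ, (hcv.zpow_zpow α β).mul_pow, ← zpow_natCast (v ^ β), ← zpow_mul, mul_comm β, zpow_mul,
      zpow_natCast, hvp, one_zpow, mul_one, ← zpow_natCast (c ^ α), ← zpow_mul, mul_comm α, zpow_mul,
      zpow_natCast]
  have hbot2 : closure ((fun u : G => u ^ (p * p)) '' (E₁ : Set G)) = ⊥ := by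
    by_contra hne2
    refine hvn (((P.s₁.spanZ_le hG h.zp (P.s₁.inv_self.powers le_rfl (p * p)) (hPow _) hne2).trans
      ((closure_le _).2 ?_)) hv)
    rintro _ ⟨u, hu, rfl⟩
    obtain ⟨i, k, hik⟩ := hform u hu
    show u ^ (p * p) ∈ zpowers c
    rw [pow_mul, hik, (((hcomm c hcE a haE).pow_pow p p).zpow_zpow i k).mul_pow]
    refine mul_mem (pow_mem (zpow_mem (pow_mem (mem_zpowers c) p) i) p) ?_
    rw [← zpow_natCast ((a ^ p) ^ k), ← zpow_mul, mul_comm k, zpow_mul, zpow_natCast, happ]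
    exact zpow_mem (zpow_mem (pow_mem (mem_zpowers c) p) α) k
  have hcpp : (c ^ p) ^ p = 1 := by
    rw [← pow_mul, ← mem_bot, ← hbot2]
    exact subset_closure ⟨c, hcE, rfl⟩
  have hα : (p : ℤ) ∣ α := by
    by_contra hα
    refine hcp1 (RankThree.eq_one_of_zpow hcpp hα ?_)
    rw [← happ, ← pow_mul, ← mem_bot, ← hbot2]
    exact subset_closure ⟨a, haE, rfl⟩
  have hcpZ : c ^ p ∈ Z := ⟨mem_center_of_index P.s₁.index_eq hw₁
    (fun g hg => (hcomm g hg c hcE).pow_right p) (hcw.symm.pow_right p), hcpp⟩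
  obtain ⟨q, hq⟩ := hα
  have hz1 : c ^ α = (c ^ p) ^ q := by rw [hq, zpow_mul, zpow_natCast]
  have hβ : ¬ (p : ℤ) ∣ β := by
    intro hβ
    refine hvZ (((P.s₁.spanZ_le hG h.zp (P.s₁.inv_self.powers le_rfl p) (hPow _) ?_).trans
      ((closure_le _).2 ?_)) hv)
    · intro e'
      exact hcp1 (by rw [← mem_bot, ← e']; exact subset_closure ⟨c, hcE, rfl⟩)
    · rintro _ ⟨u, hu, rfl⟩
      obtain ⟨i, k, hik⟩ := hform u hu
      show u ^ p ∈ Z
      rw [hik, hαβ, hz1, RankThree.zpow_congr hvp (i := β) (j := 0) (by rwa [sub_zero]), zpow_zero,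
        mul_one]
      exact mul_mem (zpow_mem hcpZ i) (zpow_mem (zpow_mem hcpZ q) k)
  -- conjugation by the outside element
  set f := MulAut.conj w with hf
  set e' := ⁅w, a⁆ with he'
  have he'D : e' ∈ D := by
    rw [he', ← commutatorElement_inv a w]
    exact inv_mem (P.comm_mem_inf haE hw)
  obtain ⟨γ, δ, hγδ⟩ := hDform e' he'D
  have hfa : f a = e' * a := by
    rw [hf, MulAut.conj_apply, he', commutatorElement_def, inv_mul_cancel_right]
  have hfc : f c = c := by rw [hf, MulAut.conj_apply, hcw.symm.eq, mul_inv_cancel_right]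
  have hfv : f v = z₀⁻¹ * v := by
    rw [hf, MulAut.conj_apply, hz₀, commutatorElement_inv, commutatorElement_def, inv_mul_cancel_right]
  have hz₀c : ∀ g : G, Commute g z₀ := fun g => mem_center_iff.1 hz₀Z.1 g
  have hfz : f z₀ = z₀ := by rw [hf, MulAut.conj_apply, (hz₀c w).eq, mul_inv_cancel_right]
  have hfvz : ∀ m : ℤ, f (v ^ m) = z₀ ^ (-m) * v ^ m := fun m => by
    rw [map_zpow, hfv, ((hz₀c v).inv_right.symm).mul_zpow, inv_zpow']
  have hfe : f e' = z₀ ^ (-δ) * e' := by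
    rw [hγδ, map_mul, map_zpow, hfc, hfvz, ← mul_assoc, ← mul_assoc,
      ((hz₀c (c ^ γ)).zpow_right (-δ)).eq]
  have hiter : ∀ n : ℕ, (f ^ n) a = z₀ ^ (-δ * (n.choose 2 : ℤ)) * (e' ^ n * a) := by
    intro n
    induction n with
    | zero => simp
    | succ n ih =>
      rw [pow_succ', MulAut.mul_apply, ih, map_mul, map_zpow, hfz, map_mul, map_pow, hfe, hfa,
        ((hz₀c e').zpow_right (-δ)).symm.mul_pow, Nat.choose_succ_succ', Nat.choose_one_right,
        Nat.cast_add, mul_add, add_comm, zpow_add, mul_assoc (z₀ ^ _) (z₀ ^ _), pow_succ e' n,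
        ← zpow_natCast (z₀ ^ (-δ)) n, ← zpow_mul]
      group
  have hep : e' ^ p = 1 := by
    have h1 := hiter p
    rw [hf, ← map_pow, hwp, map_one, MulAut.one_apply] at h1
    obtain ⟨m, hm⟩ := hp.out.dvd_choose_self two_ne_zero
      (lt_of_le_of_ne hp.out.two_le (Ne.symm hp2))
    rw [RankThree.zpow_congr hz₀Z.2 (i := -δ * (p.choose 2 : ℤ)) (j := 0)
      ⟨-δ * m, by rw [hm]; push_cast; ring⟩, zpow_zero, one_mul] at h1
    exact mul_eq_right.1 h1.symm
  refine hz₀1 (RankThree.eq_one_of_zpow hz₀Z.2 (fun hd => hβ (by simpa using dvd_neg.2 hd)) (i := -β) ?_)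
  have h1 : f (a ^ p) = e' ^ p * a ^ p := by
    rw [map_pow, hfa, (hcomm e' (mem_inf.1 he'D).1 a haE).mul_pow]
  rw [hep, one_mul, hαβ, map_mul, map_zpow, hfc, hfvz, ← mul_assoc,
    ((hz₀c (c ^ α)).zpow_right (-β)).eq, mul_assoc] at h1
  exact mul_eq_right.1 h1

end Pair

end CfsgLib.Fusion.TwoInvariant
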