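import Cfsg.Agent.Fusion.TwoInvariant.BothMoved
import Cfsg.Agent.Fusion.TwoInvariant.InsideSmall

/-!
The possible pairs: both degenerate, the linear group of degree three, the symplectic group of degree
four.
-/

set_option autoImplicit false
set_option linter.unusedSectionVars false
set_option linter.style.haveILetI false

open Subgroup
open scoped commutatorElement

namespace CfsgLib.Fusion.TwoInvariant

variable {G : Type*} [Group G] [Finite G] {p : ℕ} [hp : Fact p.Prime] {B B₁ B₂ : Subgroup (MulAut G)}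
  {E₁ E₂ : Subgroup G} {X₁ X₂ : Type*} [Group X₁] [Group X₂] [Finite X₁] [Finite X₂]
  (P : Pair p B₁ B₂ E₁ E₂ X₁ X₂)

namespace Pair

/-- The configuration of the symplectic group of degree four. -/
structure Symp : Prop where
  nd₁ : ¬ P.s₁.Deg
  nd₂ : ¬ P.s₂.Deg
  cardG : Nat.card G = p ^ 4
  elem₁ : Elem p E₁
  card₁' : Nat.card E₁ = p ^ 3
  card₂' : Nat.card E₂ = p ^ 3
  zp : Nat.card (omegaCenter p G) = p
  irred : ∀ H : Subgroup G, H ≤ E₁ → P.s₁.Inv H → H ≠ ⊥ → H = E₁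
  not_inv₂ : ¬ P.s₂.Inv (E₁ ⊓ E₂)
  exp₂ : ∀ x ∈ E₂, x ^ p = 1
  center₂ : ∀ x ∈ E₂, (∀ y ∈ E₂, Commute y x) → x ∈ omegaCenter p G
  comm₂ : ∀ x ∈ E₂, ∀ y ∈ E₂, ⁅x, y⁆ ∈ omegaCenter p G

include P in
theorem false_of_big_inside (h₁ : ¬ P.s₁.Deg) (h₂ : ¬ P.s₂.Deg)
    (m₁ : ¬ P.s₁.Inv (omegaCenter p G)) (i₂ : P.s₂.Inv (omegaCenter p G))
    (hle : P.s₁.spanZ ≤ E₁ ⊓ E₂) (hV : Nat.card P.s₁.spanZ = p ^ 3) : False := by
  haveI := P.nontrivial
  have hG := P.hG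
  have hp1 := hp.out.one_lt
  set Z := omegaCenter p G with hZdef
  set V := P.s₁.spanZ with hVdef
  set D := E₁ ⊓ E₂ with hD
  haveI := P.inf_normal
  have hZ : Z ≤ D := P.omega_le_inf h₁ h₂
  have hVE₂ : V ≤ E₂ := hle.trans inf_le_right
  have hZV : Z ≤ V := P.s₁.le_spanZ (hZ.trans inf_le_left)
  obtain ⟨x, e, heV, hxe⟩ : ∃ (x : X₂) (e : E₂), (e : G) ∈ V ∧ P.s₂.img x e ∉ V := by
    by_contra hc
    push Not at hc
    exact omegaCenter_ne_bot (p := p) hG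
      (le_bot_iff.1 (hZV.trans (P.max V hle P.s₁.spanZ_inv hc).le))
  set V' := (V.subgroupOf E₂).map (P.s₂.img x) with hV'
  have hV'E : V' ≤ E₂ := by
    rintro _ ⟨u, -, rfl⟩
    exact P.s₂.img_mem x u
  have hinj : Function.Injective (P.s₂.img x) :=
    E₂.subtype_injective.comp (P.s₂.act x).injective
  have hV'c : Nat.card V' = p ^ 3 := by
    rw [hV', card_map_of_injective hinj, Nat.card_congr (subgroupOfEquivOfLe hVE₂).toEquiv, hV]
  have hV'comm : ∀ a ∈ V', ∀ b ∈ V', Commute a b := by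
    rintro _ ⟨a, ha, rfl⟩ _ ⟨b, hb, rfl⟩
    exact (show Commute a b from Subtype.ext (P.s₁.spanZ_elem.1 _ ha _ hb)).map _
  have hV'p : ∀ a ∈ V', a ^ p = 1 := by
    rintro _ ⟨a, ha, rfl⟩
    rw [← map_pow, show a ^ p = 1 from Subtype.ext (P.s₁.spanZ_elem.2 _ ha), map_one]
  set w := P.s₂.img x e with hw
  have hwV' : w ∈ V' := ⟨e, heV, rfl⟩
  -- what lies in the intersection lies in the span
  have hin : V' ⊓ D ≤ V := by
    intro u hu
    obtain ⟨hu1, hu2⟩ := mem_inf.1 hu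
    by_contra hne
    have hel : Elem p (V ⊔ zpowers u) :=
      P.s₁.spanZ_elem.sup (elem_zpowers (hV'p u hu1)) fun a ha b hb => by
        obtain ⟨i, rfl⟩ := mem_zpowers_iff.1 hb
        exact ((P.s₁.spanZ_central (mem_inf.1 hu2).1 ha).symm).zpow_right i
    have h3 := card_mul_le_of_lt hG (lt_of_le_of_ne (le_sup_left : V ≤ V ⊔ zpowers u)
      fun h => hne (h ▸ mem_sup_right (mem_zpowers u)))
    rw [hV, ← pow_succ] at h3
    exact absurd ((Nat.pow_le_pow_iff_right hp1).1 (h3.trans (hel.card_le P.rank))) (by norm_num)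
  have hwD : w ∉ D := fun h => hxe (hin (mem_inf.2 ⟨hwV', h⟩))
  have hgen₂ : D ⊔ zpowers w = E₂ := by
    have := P.swap.sup_zpowers₁ (hV'E hwV') (by rw [inf_comm]; exact hwD)
    rwa [inf_comm] at this
  -- the common part is central
  have hcen : V' ⊓ D ≤ Z := fun u hu => by
    have huV := hin hu
    refine ⟨P.mem_center_of_commute (fun a ha => P.s₁.spanZ_central ha huV) (fun a ha => ?_),
      P.s₁.spanZ_elem.2 u huV⟩
    rw [← hgen₂] at ha
    have hle' : D ⊔ zpowers w ≤ centralizer {u} := sup_le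
      (fun d hd => mem_centralizer_singleton_iff.2 (P.s₁.spanZ_central (mem_inf.1 hd).1 huV).eq)
      (zpowers_le.2 (mem_centralizer_singleton_iff.2 (hV'comm w hwV' u (mem_inf.1 hu).1).eq))
    exact mem_centralizer_singleton_iff.1 (hle' ha)
  have hI : p ^ 2 ≤ Nat.card ↥(V' ⊓ D) := by
    have h1 := (D.subgroupOf V').index_mul_card
    rw [← inf_subgroupOf_right, Nat.card_congr (subgroupOfEquivOfLe inf_le_right).toEquiv, hV'c,
      inf_comm D V', inf_subgroupOf_left] at h1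
    have h2 : (D.subgroupOf E₂).index = p := by
      have h3 := (D.subgroupOf E₂).index_mul_card
      rw [Nat.card_congr (subgroupOfEquivOfLe inf_le_right).toEquiv, P.swap.card₁, inf_comm] at h3
      exact Nat.eq_of_mul_eq_mul_right Nat.card_pos h3
    have h4 : (D.subgroupOf V').index ≤ p := by
      refine Nat.le_of_dvd hp.out.pos ?_
      rw [← relIndex, ← relIndex_sup_right (K := D) (H := V')]
      have h5 : V' ⊔ D = E₂ := le_antisymm (sup_le hV'E inf_le_right)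
        (hgen₂.ge.trans (sup_le le_sup_right ((zpowers_le.2 hwV').trans le_sup_left)))
      rw [h5, relIndex, h2]
    have h6 : p ^ 3 ≤ p * Nat.card ↥(V' ⊓ D) := by
      rw [← h1]
      exact Nat.mul_le_mul_right _ h4
    rw [show p ^ 3 = p * p ^ 2 by ring] at h6
    exact Nat.le_of_mul_le_mul_left h6 hp.out.pos
  have hZc : Nat.card Z = p ^ 2 := by
    rcases P.s₁.card_spanZ hG P.rank (hZ.trans inf_le_left) m₁ with ⟨hc, -⟩ | ⟨-, hc | hc⟩
    · rw [← hVdef, hV] at hc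
      exact absurd (Nat.pow_right_injective hp.out.two_le hc) (by norm_num)
    · have h1 := hI.trans (Subgroup.card_le_of_le hcen)
      rw [hc] at h1
      nlinarith
    · exact hc
  obtain ⟨C, hCc, hCle, ⟨d⟩⟩ := P.s₁.exists_trans_space hG (hle.trans inf_le_left) P.s₁.spanZ_inv
    P.s₁.spanZ_elem hV (fun a ha m hm => P.s₁.spanZ_central ha hm)
    (by rw [P.s₁.spanZ_inf_center (hZ.trans inf_le_left)]; exact hZc)
    (by rw [P.s₁.spanZ_inf_center (hZ.trans inf_le_left)]; exact m₁)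
  rw [P.s₁.spanZ_inf_center (hZ.trans inf_le_left)] at hCle
  have hcV : d.c ∈ V := d.cM
  have hcE₁ : d.c ∈ E₁ := d.le hcV
  have hccen : d.c ∈ center G :=
    mem_center_of_index P.s₁.index_eq d.gE (fun e he => d.cE e he _ d.cM) d.fixc
  have hcE₂ : d.c ∈ E₂ := hVE₂ hcV
  have hzc : Nat.card (zpowers d.c) = p := by rw [Nat.card_zpowers, d.orderOf_c]
  have hyD : ∀ (y : X₂) (v : E₂), (v : G) ∈ V → P.s₂.img y v ∈ D → P.s₂.img y v ∈ V := by
    intro y v hv hyv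
    by_contra hne
    have hup : P.s₂.img y v ^ p = 1 := by
      rw [← map_pow, show v ^ p = 1 from Subtype.ext (P.s₁.spanZ_elem.2 _ hv), map_one]
    have hel : Elem p (V ⊔ zpowers (P.s₂.img y v)) :=
      P.s₁.spanZ_elem.sup (elem_zpowers hup) fun a ha b hb => by
        obtain ⟨i, rfl⟩ := mem_zpowers_iff.1 hb
        exact ((P.s₁.spanZ_central (mem_inf.1 hyv).1 ha).symm).zpow_right i
    have h3 := card_mul_le_of_lt hG (lt_of_le_of_ne (le_sup_left : V ≤ V ⊔ zpowers (P.s₂.img y v))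
      fun h => hne (h ▸ mem_sup_right (mem_zpowers (P.s₂.img y v))))
    rw [hV, ← pow_succ] at h3
    exact absurd ((Nat.pow_le_pow_iff_right hp1).1 (h3.trans (hel.card_le P.rank))) (by norm_num)
  have hmoved : ∀ u : G, u ∈ E₂ → u ∉ D → ∃ v ∈ V, ⁅v, u⁆ ≠ 1 := by
    intro u hu huD
    by_contra hc
    push Not at hc
    have hu₁ : u ∉ E₁ := fun h => huD (mem_inf.2 ⟨h, hu⟩)
    have hVZ : V ≤ Z := fun v hv =>
      ⟨mem_center_of_index P.s₁.index_eq hu₁ (fun a ha => P.s₁.spanZ_central ha hv)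
        (commutatorElement_eq_one_iff_commute.1 (hc v hv)).symm, P.s₁.spanZ_elem.2 v hv⟩
    have := Subgroup.card_le_of_le hVZ
    rw [hV, hZc, Nat.pow_le_pow_iff_right hp1] at this
    omega
  have hline : P.s₂.Inv (zpowers d.c) := by
    intro y e he
    -- a nontrivial common commutator
    obtain ⟨g, hg, v, hv, hne, hmem⟩ : ∃ g ∈ E₂, ∃ v : E₂, (v : G) ∈ V ∧ ⁅g, P.s₂.img y v⁆ ≠ 1 ∧
        ⁅g, P.s₂.img y v⁆ ∈ zpowers d.c := by
      by_cases hout : ∃ v : E₂, (v : G) ∈ V ∧ P.s₂.img y v ∉ D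
      · obtain ⟨v, hv, hvD⟩ := hout
        obtain ⟨v₁, hv₁, hne⟩ := hmoved _ (P.s₂.img_mem y v) hvD
        refine ⟨v₁, hVE₂ hv₁, v, hv, hne, ?_⟩
        rw [← commutatorElement_inv]
        exact inv_mem (d.comm_all _ hv₁)
      · push Not at hout
        obtain ⟨v₁, hv₁, hne⟩ := hmoved w (hV'E hwV') hwD
        have himg : (V.subgroupOf E₂).map (P.s₂.img y) = V := by
          refine eq_of_le_of_card_ge ?_ ?_
          · rintro _ ⟨v, hv, rfl⟩
            exact hyD y v hv (hout v hv)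
          · rw [card_map_of_injective (K := V.subgroupOf E₂)
              (f := P.s₂.img y) (E₂.subtype_injective.comp (P.s₂.act y).injective),
              Nat.card_congr (subgroupOfEquivOfLe hVE₂).toEquiv]
        obtain ⟨v, hv, hvv⟩ := himg.ge hv₁
        exact ⟨w, hV'E hwV', v, hv, by
          rw [hvv, ← commutatorElement_inv, ne_eq, inv_eq_one]; exact hne,
          hvv ▸ d.comm_all w hv₁⟩
    set g' := P.s₂.act y⁻¹ ⟨g, hg⟩ with hg'
    have hpre : (⁅g', v⁆ : E₂).1 ∈ zpowers d.c := d.comm_all (g' : G) hv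
    obtain ⟨k, hk⟩ := mem_zpowers_iff.1 hpre
    have himg : P.s₂.img y ⁅g', v⁆ = ⁅g, P.s₂.img y v⁆ := by
      rw [map_commutatorElement, hg', ← Side.img_mul, mul_inv_cancel, Side.img_one]
    rw [show ⁅g', v⁆ = (⟨d.c, hcE₂⟩ : E₂) ^ k from Subtype.ext hk.symm, map_zpow] at himg
    have hle : zpowers (P.s₂.img y ⟨d.c, hcE₂⟩) ≤ zpowers d.c := by
      refine le_of_card_prime (p := p) (h := ⁅g, P.s₂.img y v⁆) ?_ ?_ hmem hne
      · rw [Nat.card_zpowers]
        refine orderOf_eq_of_pow ?_ fun h => ?_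
        · rw [← map_pow, show (⟨d.c, hcE₂⟩ : E₂) ^ p = 1 from Subtype.ext (d.elem.2 _ d.cM), map_one]
        · exact hne (by rw [← himg, h, one_zpow])
      · rw [← himg]
        exact zpow_mem (mem_zpowers _) k
    obtain ⟨i, hi⟩ := mem_zpowers_iff.1 he
    rw [show e = (⟨d.c, hcE₂⟩ : E₂) ^ i from Subtype.ext hi.symm, map_zpow]
    exact zpow_mem (hle (mem_zpowers _)) i
  obtain ⟨n, -, hn, hnC, hnc, -⟩ := d.exists_negOne hG
  obtain ⟨β, hβ, hβn⟩ := P.s₁.ext n hn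
  have hβc : β d.c = d.c⁻¹ := (hβn ⟨d.c, hcE₁⟩).trans (hnc ⟨d.c, hcE₁⟩ rfl)
  have hβi : ∀ k : ℤ, β⁻¹ (d.c ^ k) = d.c ^ (-k) := fun k => by
    apply β.injective
    rw [MulAut.apply_inv_self, map_zpow, hβc, inv_zpow', neg_neg]
  have hcC : d.c ∉ C := fun h => d.c_ne (eq_one_of_inv_eq P.odd (d.elem.2 _ d.cM)
    (hβc.symm.trans ((hβn ⟨d.c, hcE₁⟩).trans (hnC ⟨d.c, hcE₁⟩ h))))
  have hZgen : C ⊔ zpowers d.c = Z := eq_sup_zpowers (p := p) hCle
    (by rw [hZc, hCc, pow_two]) ⟨hccen, d.elem.2 _ d.cM⟩ hcC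
  have hC₂b : BInv B₂ C := by
    intro γ hγ u hu
    have hγu : γ u ∈ C ⊔ zpowers d.c := by rw [hZgen]; exact omegaCenter_map γ (hCle hu)
    haveI : C.Normal := d.C_inv.normal ((hCle.trans hZ).trans inf_le_left)
    obtain ⟨a, ha, b, hb, hab⟩ := (mem_sup_of_normal_left).1 hγu
    obtain ⟨i, rfl⟩ := mem_zpowers_iff.1 hb
    have hCb : ∀ t ∈ C, β⁻¹ t = t := fun t ht => by
      apply β.injective
      rw [MulAut.apply_inv_self]
      exact ((hβn ⟨t, (hZ (hCle ht)).1⟩).trans (hnC ⟨t, _⟩ ht)).symm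
    obtain ⟨k, hk⟩ := mem_zpowers_iff.1
      ((hline.binv (zpowers_le.2 hcE₂)) γ hγ d.c (mem_zpowers _))
    have hδ : γ⁻¹ * β⁻¹ * γ * β ∈ B₁ ⊔ B₂ := mul_mem (mul_mem (mul_mem
      (inv_mem (mem_sup_right hγ)) (inv_mem (mem_sup_left hβ))) (mem_sup_right hγ)) (mem_sup_left hβ)
    have hδc : (γ⁻¹ * β⁻¹ * γ * β) d.c = d.c := by
      simp only [MulAut.mul_apply]
      rw [hβc, map_inv γ, ← hk, ← zpow_neg, hβi, neg_neg, hk, MulAut.inv_apply_self]
    have hδu : (γ⁻¹ * β⁻¹ * γ * β) u = u * γ⁻¹ (d.c ^ (-(2 * i))) := by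
      simp only [MulAut.mul_apply]
      rw [(hβn ⟨u, (hZ (hCle hu)).1⟩).trans (hnC ⟨u, _⟩ hu)]
      show γ⁻¹ (β⁻¹ (γ u)) = _
      rw [← hab, map_mul β⁻¹, hCb a ha, hβi,
        show a * d.c ^ (-i) = (a * d.c ^ i) * d.c ^ (-(2 * i)) by
          rw [mul_assoc, ← zpow_add]; congr 2; ring,
        hab, map_mul, MulAut.inv_apply_self]
    have hfix := P.cop.fix hδ (d.elem.2 _ d.cM) (hCle hu).1 hδc (by
      rw [hδu, ← mem_center_iff.1 (hCle hu).1 (γ⁻¹ _), mul_inv_cancel_right]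
      exact (hline.binv (zpowers_le.2 hcE₂)) γ⁻¹ (inv_mem hγ) _ (zpow_mem (mem_zpowers _) _))
    rw [hδu, mul_eq_left, map_eq_one_iff _ γ⁻¹.injective] at hfix
    have hi : (p : ℤ) ∣ i := by
      by_contra hi
      exact d.c_ne (RankThree.eq_one_of_zpow (d.elem.2 _ d.cM) (fun h =>
        ((Nat.prime_iff_prime_int.1 hp.out).dvd_or_dvd (dvd_neg.1 h)).elim (not_dvd_two P.odd) hi) hfix)
    rw [← hab, RankThree.zpow_congr (d.elem.2 _ d.cM) (i := i) (j := 0) (by rwa [sub_zero]),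
      zpow_zero, mul_one]
    exact ha
  have hC₂ : P.s₂.Inv C := by
    refine P.s₂.inv_of_K hG hC₂b fun k hk a ha => ?_
    rw [P.s₂.K_fixes i₂ (fun g z hz => mem_center_iff.1 hz.1 g) k hk a (hCle ha)]
    exact ha
  have := P.max C (hCle.trans hZ) d.C_inv hC₂
  rw [this, card_bot] at hCc
  exact hp1.ne hCc

include P in
theorem symp_of_outside (h₁ : ¬ P.s₁.Deg) (h₂ : ¬ P.s₂.Deg)
    (m₁ : ¬ P.s₁.Inv (omegaCenter p G)) (i₂ : P.s₂.Inv (omegaCenter p G))
    (hout : ¬ P.s₁.spanZ ≤ E₁ ⊓ E₂) : P.Symp := by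
  haveI := P.nontrivial
  haveI := P.s₁.normal
  haveI := P.s₂.normal
  have hG := P.hG
  have hp1 := hp.out.one_lt
  set Z := omegaCenter p G with hZdef
  set V := P.s₁.spanZ with hVdef
  set D := E₁ ⊓ E₂ with hD
  haveI := P.inf_normal
  haveI := P.s₁.spanZ_normal
  have hZ : Z ≤ D := P.omega_le_inf h₁ h₂
  have hVE : V ≤ E₁ := P.s₁.span_le _
  obtain ⟨v, hv, hvD⟩ := SetLike.not_le_iff_exists.1 hout
  have hvE₂ : v ∉ E₂ := fun h => hvD (mem_inf.2 ⟨hVE hv, h⟩)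
  have hbad : Nat.card V = p * Nat.card Z → False := fun hc => hvE₂ <|
    P.s₂.mem_of_series hG h₂ i₂ (hZ.trans inf_le_right)
      (fun z hz => mem_center_iff.1 hz.1 v) fun g _ => by
        rw [← commutatorElement_inv g v]
        exact inv_mem (comm_mem_of_card hG (P.s₁.le_spanZ (hZ.trans inf_le_left)) hc hv)
  obtain ⟨hV, hZp⟩ : Nat.card V = p ^ 3 ∧ Nat.card Z = p := by
    rcases P.s₁.card_spanZ hG P.rank (hZ.trans inf_le_left) m₁ with ⟨hc, hc'⟩ | ⟨hc, hc' | hc'⟩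
    · exact (hbad (by rw [hc, hc', pow_two])).elim
    · exact ⟨hc, hc'⟩
    · exact (hbad (by rw [hc, hc']; ring)).elim
  have hnorm := P.binv_fd_normal
  have e₁ := P.fd_eq_inf hout hnorm
  have hFD : FD p E₁ = ⊥ := by
    by_contra hne
    exact hout ((P.s₁.spanZ_le hG hZp (P.s₁.inv_self.fd le_rfl) (FD_le _) hne).trans
      (e₁.le.trans (FD_le _)))
  have hE₁ : Elem p E₁ := elem_of_FD hFD
  have hVE₁ : V = E₁ := eq_of_le_of_card_ge hVE (by rw [hV]; exact hE₁.card_le P.rank)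
  have hc₁ : Nat.card E₁ = p ^ 3 := hVE₁ ▸ hV
  have hDc : Nat.card D = p ^ 2 := by
    have := P.card₁
    rw [hc₁, show p ^ 3 = p * p ^ 2 by ring] at this
    exact (Nat.eq_of_mul_eq_mul_left hp.out.pos this).symm
  have hc₂ : Nat.card E₂ = p ^ 3 := by rw [P.swap.card₁, inf_comm, ← hD, hDc]; ring
  obtain ⟨w, hw, hw₁⟩ := P.exists_mem
  have hwD : w ∉ D := fun hm => hw₁ (mem_inf.1 hm).1
  have hgen₂ : D ⊔ zpowers w = E₂ := by
    have := P.swap.sup_zpowers₁ hw (by rw [inf_comm]; exact hwD)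
    rwa [inf_comm] at this
  have hDcomm : ∀ a ∈ D, ∀ b ∈ D, Commute a b := fun a ha b hb =>
    hE₁.1 a (mem_inf.1 ha).1 b (mem_inf.1 hb).1
  have hcomm₂ : ∀ a ∈ E₂, ∀ b ∈ E₂, ⁅a, b⁆ ∈ Z := fun a ha b hb => by
    have hle := commutator_le_of_gen (E := E₂) (K := Z) hDcomm (a := w)
      (fun d hd => comm_mem_of_card hG hZ (by rw [hDc, hZp, pow_two]) hd) hgen₂.ge
    exact hle (commutator_mem_commutator ha hb)
  -- the elements of order dividing `p`
  let Ω₁ : Subgroup G :=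
    { carrier := {a | a ∈ E₂ ∧ a ^ p = 1}
      one_mem' := ⟨one_mem _, one_pow p⟩
      mul_mem' := fun {a b} ha hb => by
        refine ⟨mul_mem ha.1 hb.1, ?_⟩
        have h := RankThree.mul_pow_mod P.odd (⊥ : Subgroup G) (x := a) (y := b)
          (mem_bot.2 (commutatorElement_eq_one_iff_commute.2
            (mem_center_iff.1 (hcomm₂ b hb.1 a ha.1).1 a).symm))
          (mem_bot.2 (commutatorElement_eq_one_iff_commute.2
            (mem_center_iff.1 (hcomm₂ b hb.1 a ha.1).1 b).symm))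
          (mem_bot.2 (hcomm₂ b hb.1 a ha.1).2)
        rw [ha.2, hb.2, one_mul, map_one] at h
        exact mem_bot.1 ((QuotientGroup.eq_one_iff _).1 h)
      inv_mem' := fun {a} ha => ⟨inv_mem ha.1, by rw [inv_pow, ha.2, inv_one]⟩ }
  have hnot₂ : ¬ P.s₂.Inv D := fun hi => hvE₂ <|
    P.s₂.mem_of_series hG h₂ hi inf_le_right (fun d hd => hE₁.1 v (hVE hv) d (mem_inf.1 hd).1)
      fun g hg => P.comm_mem_inf (hVE hv) hg
  have hexp : ∀ a ∈ E₂, a ^ p = 1 := by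
    have hΩE : Ω₁ ≤ E₂ := fun a ha => ha.1
    have hΩinv : P.s₂.Inv Ω₁ := fun y a ha => ⟨P.s₂.img_mem y a, by
      rw [← map_pow, show a ^ p = 1 from Subtype.ext ha.2, map_one]⟩
    have hDΩ : D ≤ Ω₁ := fun d hd => ⟨(mem_inf.1 hd).2, hE₁.2 d (mem_inf.1 hd).1⟩
    intro a ha
    by_contra hne
    refine hnot₂ ?_
    rcases eq_or_lt_of_le hDΩ with e | hlt
    · exact e ▸ hΩinv
    · exfalso
      have h1 := card_mul_le_of_lt hG hlt
      have h2 : Ω₁ = E₂ := eq_of_le_of_card_ge hΩE (by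
        rw [hc₂]
        rw [hDc, ← pow_succ] at h1
        exact h1)
      exact hne (h2.ge ha).2
  refine ⟨h₁, h₂, by rw [P.card_top_eq, ← hD, hDc]; ring, hE₁, hc₁, hc₂, hZp, ?_, hnot₂, hexp, ?_,
    hcomm₂⟩
  · intro H hH hi hne
    exact le_antisymm hH (hVE₁.ge.trans (P.s₁.spanZ_le hG hZp hi hH hne))
  · intro a ha hac
    by_cases haD : a ∈ D
    · exact ⟨P.mem_center_of_commute (fun g hg => hE₁.1 g hg a (mem_inf.1 haD).1) hac, hexp a ha⟩
    · exfalso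
      have hDZ : D ≤ Z := fun d hd => by
        refine ⟨P.mem_center_of_commute (fun g hg => hE₁.1 g hg d (mem_inf.1 hd).1) ?_,
          hE₁.2 d (mem_inf.1 hd).1⟩
        intro g hg
        have hgen := P.swap.sup_zpowers₁ ha (by rw [inf_comm]; exact haD)
        rw [inf_comm] at hgen
        rw [← hgen] at hg
        have hle' : D ⊔ zpowers a ≤ centralizer {d} := sup_le
          (fun d' hd' => mem_centralizer_singleton_iff.2 (hDcomm d' hd' d hd).eq)
          (zpowers_le.2 (mem_centralizer_singleton_iff.2 (hac d (mem_inf.1 hd).2).symm.eq))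
        exact mem_centralizer_singleton_iff.1 (hle' hg)
      have := Subgroup.card_le_of_le hDZ
      rw [hDc, hZp] at this
      nlinarith

include P in
/-- One side moves the central elements, the other does not. -/
theorem symp_of_one_moved (h₁ : ¬ P.s₁.Deg) (h₂ : ¬ P.s₂.Deg)
    (m₁ : ¬ P.s₁.Inv (omegaCenter p G)) (i₂ : P.s₂.Inv (omegaCenter p G)) : P.Symp := by
  haveI := P.nontrivial
  have hZ := P.omega_le_inf h₁ h₂
  by_cases hle : P.s₁.spanZ ≤ E₁ ⊓ E₂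
  swap
  · exact P.symp_of_outside h₁ h₂ m₁ i₂ hle
  exfalso
  rcases P.s₁.card_spanZ P.hG P.rank (hZ.trans inf_le_left) m₁ with ⟨hc, hz⟩ | ⟨hc, -⟩
  · exact (Small.mk (P := P) h₁ h₂ hZ i₂ hz hc hle).false
  · exact P.false_of_big_inside h₁ h₂ m₁ i₂ hle hc

include P in
theorem classify : E₁ ⊓ E₂ = ⊥ ∨ P.Tri ∨ P.Symp ∨ P.swap.Symp := by
  haveI := P.nontrivial
  have hG := P.hG
  by_cases hD : E₁ ⊓ E₂ = ⊥
  · exact Or.inl hD
  refine Or.inr ?_
  have h₁ : ¬ P.s₁.Deg := fun h => by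
    by_cases h' : P.s₂.Deg
    · haveI := P.cyc₁ h
      haveI := P.cyc₂ h'
      exact hD (P.max _ le_rfl (P.s₁.inv_of_cyclic _) (P.s₂.inv_of_cyclic _))
    · exact hD (P.inf_eq_bot_of_deg h h')
  have h₂ : ¬ P.s₂.Deg := fun h => by
    refine hD ?_
    rw [inf_comm]
    exact P.swap.inf_eq_bot_of_deg h h₁
  have hZ := P.omega_le_inf h₁ h₂
  by_cases m₁ : P.s₁.Inv (omegaCenter p G)
  · by_cases m₂ : P.s₂.Inv (omegaCenter p G)
    · exact absurd (P.max _ hZ m₁ m₂) (omegaCenter_ne_bot hG)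
    · exact Or.inr (Or.inr (P.swap.symp_of_one_moved h₂ h₁ m₂ m₁))
  by_cases m₂ : P.s₂.Inv (omegaCenter p G)
  · exact Or.inr (Or.inl (P.symp_of_one_moved h₁ h₂ m₁ m₂))
  by_cases hle₁ : P.s₁.spanZ ≤ E₁ ⊓ E₂
  · by_cases hle₂ : P.s₂.spanZ ≤ E₁ ⊓ E₂
    · exact (P.false_of_both_inside h₁ h₂ m₁ m₂ hle₁ hle₂).elim
    · refine (P.swap.false_of_mixed h₂ h₁ m₁ ?_ ?_).elim
      · rw [inf_comm]; exact hle₂
      · rw [inf_comm]; exact hle₁
  · by_cases hle₂ : P.s₂.spanZ ≤ E₁ ⊓ E₂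
    · exact (P.false_of_mixed h₁ h₂ m₂ hle₁ hle₂).elim
    · exact Or.inl (P.tri_of_both_outside h₁ h₂ m₁ m₂ hle₁ hle₂)

end Pair

end CfsgLib.Fusion.TwoInvariant
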