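import Cfsg.Agent.Fusion.TwoInvariant.Quotient
import Cfsg.Agent.Fusion.RankThree.Cases

/-!
Normal essential subgroups as sides.
-/

set_option autoImplicit false
set_option linter.unusedSectionVars false
set_option linter.style.haveILetI false
set_option linter.unusedVariables false

open Cfsg Cfsg.FusionSystem Subgroup
open scoped commutatorElement

namespace CfsgLib.Fusion.TwoInvariant

universe u

/-- The elements acting trivially on a section of order `p ^ 2` form a subgroup of index at most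
`p`. -/
theorem exists_plane_kernel {G : Type*} [Group G] [Finite G] {p : ℕ} [hp : Fact p.Prime]
    (hG : IsPGroup p G) {M N : Subgroup G} [M.Normal] [N.Normal] (hNM : N ≤ M)
    (hcard : Nat.card M = p ^ 2 * Nat.card N) :
    ∃ W : Subgroup G, W.index ∣ p ∧ ∀ g ∈ W, ∀ m ∈ M, ⁅g, m⁆ ∈ N := by
  have hp1 := hp.out.one_lt
  set π := QuotientGroup.mk' N
  set M' := M.map π with hM'
  haveI : M'.Normal := Normal.map inferInstance π (QuotientGroup.mk'_surjective N)
  have hGp := hG.to_quotient N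
  have hc : Nat.card M' = p ^ 2 := by
    have h1 : M'.index = M.index :=
      index_map_eq M (QuotientGroup.mk'_surjective N) (by rw [QuotientGroup.ker_mk']; exact hNM)
    have h2 := M'.index_mul_card
    have h3 := M.index_mul_card
    rw [h1, ← Subgroup.index_eq_card] at h2
    have h4 := N.index_mul_card
    rw [← h2, ← h3, hcard, ← mul_assoc, mul_left_inj' Nat.card_pos.ne'] at h4
    exact Nat.eq_of_mul_eq_mul_left (Nat.pos_of_ne_zero M.index_ne_zero_of_finite) h4
  obtain ⟨z, hz, hzc, hz1⟩ := exists_omegaCenter_mem hGp M' fun h => by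
    rw [h, card_bot] at hc
    exact (Nat.one_lt_pow two_ne_zero hp1).ne hc
  haveI : (zpowers z).Normal := ⟨fun n hn g => by
    rw [mem_center_iff.1 (zpowers_le.2 hzc.1 hn) g, mul_inv_cancel_right]; exact hn⟩
  have hzo : orderOf z = p := orderOf_eq_of_pow hzc.2 hz1
  have hLM : zpowers z ≤ M' := zpowers_le.2 hz
  have hcardL : Nat.card M' = p * Nat.card (zpowers z) := by
    rw [hc, Nat.card_zpowers, hzo, pow_two]
  obtain ⟨v, hv, hvz⟩ := SetLike.exists_of_lt (lt_of_le_of_ne hLM fun e => by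
    rw [← e, Nat.card_zpowers, hzo] at hc
    exact (lt_self_pow₀ hp1 one_lt_two).ne hc)
  have hin : ∀ g, ⁅g, v⁆ ∈ zpowers z := fun g => comm_mem_of_card hGp hLM hcardL hv
  have hzcen : ∀ g, ∀ w ∈ zpowers z, Commute g w := fun g w hw =>
    mem_center_iff.1 (zpowers_le.2 hzc.1 hw) g
  let δ : G ⧸ N →* zpowers z := MonoidHom.mk' (fun g => ⟨⁅g, v⁆, hin g⟩) fun g h => Subtype.ext (by
    show ⁅g * h, v⁆ = ⁅g, v⁆ * ⁅h, v⁆
    rw [comm_mul_left_of_central (hzcen g _ (hin h)), (hzcen _ _ (hin g)).eq])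
  refine ⟨(δ.ker).comap π, ?_, fun g hg m hm => ?_⟩
  · rw [index_comap_of_surjective _ (QuotientGroup.mk'_surjective N), index_ker]
    have := Subgroup.card_subgroup_dvd_card δ.range
    rwa [Nat.card_zpowers, hzo] at this
  · have hgv : ⁅π g, v⁆ = 1 := congrArg Subtype.val (MonoidHom.mem_ker.1 (mem_comap.1 hg))
    have hle : zpowers z ⊔ zpowers v ≤ centralizer {π g} := sup_le
      (fun w hw => mem_centralizer_singleton_iff.2 ((hzcen (π g) w hw).symm).eq)
      (zpowers_le.2 (mem_centralizer_singleton_iff.2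
        (commutatorElement_eq_one_iff_commute.1 hgv).symm.eq))
    rw [eq_sup_zpowers hLM hcardL hv hvz] at hle
    have h1 : Commute (π m) (π g) := mem_centralizer_singleton_iff.1 (hle (mem_map_of_mem π hm))
    rw [← QuotientGroup.eq_one_iff]
    show π ⁅g, m⁆ = 1
    rw [map_commutatorElement]
    exact commutatorElement_eq_one_iff_commute.2 h1.symm

variable {Ω : Type u} [Group Ω] {S : Subgroup Ω} [Finite S] {p : ℕ} [hp : Fact p.Prime]
  {F : FusionSystem S}

/-- Normality inside `S` in the form used below. -/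
theorem mem_normIn {E : Subgroup Ω} (hN : S ≤ normalizer (E : Set Ω)) {g : Ω} (hg : g ∈ S) :
    g ∈ normalizerIn S E := ⟨hg, hN hg⟩

variable {E : Subgroup Ω}

/-- A subgroup of `E` as a subgroup of `S`. -/
abbrev inS (hES : E ≤ S) (K : Subgroup E) : Subgroup S := K.map (Subgroup.inclusion hES)

theorem inS_top (hES : E ≤ S) : inS hES ⊤ = E.subgroupOf S := by
  ext x
  constructor
  · rintro ⟨e, -, rfl⟩
    exact e.2
  · exact fun hx => ⟨⟨x, hx⟩, trivial, rfl⟩

theorem card_inS (hES : E ≤ S) (K : Subgroup E) : Nat.card (inS hES K) = Nat.card K :=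
  card_map_of_injective (Subgroup.inclusion_injective hES)

theorem mem_inS (hES : E ≤ S) {K : Subgroup E} {e : E} :
    Subgroup.inclusion hES e ∈ inS hES K ↔ e ∈ K :=
  mem_map_iff_mem (Subgroup.inclusion_injective hES)

theorem inS_normal (hES : E ≤ S) (hN : S ≤ normalizer (E : Set Ω)) {K : Subgroup E}
    (hK : ∀ α ∈ autInducedBy S E, ∀ x ∈ K, α x ∈ K) : (inS hES K).Normal := by
  refine ⟨fun n hn g => ?_⟩
  obtain ⟨e, he, rfl⟩ := hn
  exact ⟨conjAut S E ⟨g, mem_normIn hN g.2⟩ e,
    hK _ (mem_autInducedBy.2 ⟨g, g.2, fun _ => rfl⟩) e he, Subtype.ext rfl⟩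

theorem comm_inS_iff (hES : E ≤ S) (hN : S ≤ normalizer (E : Set Ω)) {N : Subgroup E} (g : S) (e : E) :
    ⁅g, Subgroup.inclusion hES e⁆ ∈ inS hES N ↔
      conjAut S E ⟨g, mem_normIn hN g.2⟩ e * e⁻¹ ∈ N := by
  rw [show ⁅g, Subgroup.inclusion hES e⁆ =
    Subgroup.inclusion hES (conjAut S E ⟨g, mem_normIn hN g.2⟩ e * e⁻¹) from Subtype.ext rfl]
  exact mem_inS hES

/-- A normal essential subgroup has index `p`. -/
theorem index_eq_prime (hS : IsPGroup p S) (hF : F.IsSaturated p) (hp2 : p ≠ 2)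
    (hsr : Cfsg.SectionalPRankLE p 3 S) (hE : F.IsEssential p E)
    (hN : S ≤ normalizer (E : Set Ω)) : (E.subgroupOf S).index = p := by
  classical
  have hES := hE.1.1
  have := finite_of_le hES
  have hEp := isPGroup_of_le hS hES
  have hne : (E.subgroupOf S).index ≠ 1 := fun h => (essential_lt p hS hF hE).not_ge fun x hx => by
    have h2 : (⟨x, hx⟩ : S) ∈ E.subgroupOf S := by
      rw [Subgroup.index_eq_one.1 h]; exact mem_top _
    exact h2
  -- a section of order `p ^ 2` whose centraliser lies in `E` is enough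
  suffices ∃ M N : Subgroup E, (inS hES M).Normal ∧ (inS hES N).Normal ∧ N ≤ M ∧
      Nat.card M = p ^ 2 * Nat.card N ∧
      ∀ g : S, (∀ e ∈ M, ⁅g, Subgroup.inclusion hES e⁆ ∈ inS hES N) → (g : Ω) ∈ E by
    obtain ⟨M, N, hMn, hNn, hNM, hcard, hker⟩ := this
    obtain ⟨W, hW, hWc⟩ := exists_plane_kernel hS (M := inS hES M) (N := inS hES N)
      (Subgroup.map_mono hNM) (by rw [card_inS, card_inS, hcard])
    have hWE : W ≤ E.subgroupOf S := fun g hg =>
      hker g fun e he => hWc g hg _ (mem_map_of_mem _ he)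
    exact ((Nat.dvd_prime hp.out).1 ((index_dvd_of_le hWE).trans hW)).resolve_left hne
  have hΦ : ∀ α ∈ autInducedBy S E, ∀ x ∈ frattini E, α x ∈ frattini E := fun α _ x hx =>
    RankThree.frattini_inv α hx
  have hcardE : Nat.card E = (frattini E).index * Nat.card (frattini E) :=
    (index_mul_card _).symm
  have hΦn := inS_normal hES hN hΦ
  have hEn : (inS hES (⊤ : Subgroup E)).Normal := inS_normal hES hN fun _ _ x _ => mem_top _
  rcases RankThree.index_cases hS hF hE hsr with h2 | h3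
  · refine ⟨⊤, frattini E, hEn, hΦn, le_top, by rw [card_top, hcardE, h2], fun g hg => ?_⟩
    refine RankThree.mem_of_trivial_mod hS hE (mem_normIn hN g.2) fun x => ?_
    have h1 := (comm_inS_iff hES hN g x).1 (hg x trivial)
    exact (inferInstance : (frattini E).Normal).mem_comm h1
  by_cases hirr : RankThree.IsIrredTop F E
  · obtain ⟨V₁, V₂, h01, h12, h2t, hi₁, hi₂, l1, l2, l3⟩ := RankThree.exists_flag hS hES h3
    refine ⟨V₂, frattini E, inS_normal hES hN hi₂, hΦn, h01.le.trans h12.le, ?_, fun g hg => ?_⟩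
    · obtain ⟨a, ha⟩ := IsPGroup.iff_card.1 (hEp.to_subgroup (frattini E))
      obtain ⟨b, hb⟩ := IsPGroup.iff_card.1 (hEp.to_subgroup V₁)
      obtain ⟨c, hc⟩ := IsPGroup.iff_card.1 (hEp.to_subgroup V₂)
      have d1 := CfsgLib.Solvable.card_lt_of_lt h01
      have d2 := CfsgLib.Solvable.card_lt_of_lt h12
      have d3 := CfsgLib.Solvable.card_lt_of_lt h2t
      rw [Subgroup.card_top, hcardE, h3, hc, ha, ← pow_add,
        Nat.pow_lt_pow_iff_right hp.out.one_lt] at d3
      rw [ha, hb, Nat.pow_lt_pow_iff_right hp.out.one_lt] at d1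
      rw [hb, hc, Nat.pow_lt_pow_iff_right hp.out.one_lt] at d2
      rw [hc, ha, ← pow_add, show c = 2 + a by omega]
    · refine RankThree.mem_of_transvection hS hE h3 hirr (mem_normIn hN g.2) V₂
        (h01.le.trans h12.le) h2t.ne (fun a ha => ?_)
        (fun a => l3 _ (mem_autInducedBy.2 ⟨g, g.2, fun _ => rfl⟩) a)
      exact (inferInstance : (frattini E).Normal).mem_comm ((comm_inS_iff hES hN g a).1 (hg a ha))
  · simp only [RankThree.IsIrredTop] at hirr
    push Not at hirr
    obtain ⟨L, hL, hinv, hne', hnt⟩ := hirr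
    have hLn' : ∀ α ∈ autInducedBy S E, ∀ x ∈ L, α x ∈ L := fun α hα =>
      hinv α (autInducedBy_le_autGroup hES hα)
    have hLn := inS_normal hES hN hLn'
    haveI := RankThree.normal_of_frattini_le hEp hL
    have hΦL : frattini E < L := lt_of_le_of_ne hL (Ne.symm hne')
    obtain ⟨a, ha⟩ := IsPGroup.iff_card.1 (hEp.to_subgroup (frattini E))
    obtain ⟨b, hb⟩ := IsPGroup.iff_card.1 (hEp.to_subgroup L)
    have d1 := CfsgLib.Solvable.card_lt_of_lt hΦL
    have d2 := CfsgLib.Solvable.card_lt_of_lt (lt_top_iff_ne_top.2 hnt)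
    rw [Subgroup.card_top, hcardE, h3, hb, ha, ← pow_add,
      Nat.pow_lt_pow_iff_right hp.out.one_lt] at d2
    rw [ha, hb, Nat.pow_lt_pow_iff_right hp.out.one_lt] at d1
    have hchain : ∀ g : S, (∀ e ∈ L, ⁅g, Subgroup.inclusion hES e⁆ ∈ inS hES (frattini E)) →
        (∀ e : E, ⁅g, Subgroup.inclusion hES e⁆ ∈ inS hES L) → (g : Ω) ∈ E := by
      intro g hlo hhi
      refine RankThree.mem_of_frattini_chain hS hE (m := 2) ![frattini E, L, ⊤] rfl rfl
        (fun α hα i x hx => ?_) (mem_normIn hN g.2) fun i x hx => ?_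
      · fin_cases i
        · exact RankThree.frattini_inv α hx
        · exact hinv α hα x hx
        · trivial
      · fin_cases i
        · exact (inferInstance : (frattini E).Normal).mem_comm ((comm_inS_iff hES hN g x).1 (hlo x hx))
        · exact (inferInstance : L.Normal).mem_comm ((comm_inS_iff hES hN g x).1 (hhi x))
    rcases (show b = a + 1 ∨ b = a + 2 by omega) with rfl | rfl
    · refine ⟨⊤, L, hEn, hLn, le_top, by rw [card_top, hcardE, h3, ha, hb]; ring,
        fun g hg => hchain g (fun e he => ?_) fun e => hg e trivial⟩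
      exact comm_mem_of_card hS (M := inS hES L) (L := inS hES (frattini E)) (Subgroup.map_mono hL)
        (by rw [card_inS, card_inS, ha, hb]; ring) (mem_map_of_mem _ he)
    · refine ⟨L, frattini E, hLn, hΦn, hL, by rw [ha, hb]; ring,
        fun g hg => hchain g hg fun e => ?_⟩
      exact comm_mem_of_card hS (M := inS hES ⊤) (L := inS hES L) (Subgroup.map_mono le_top)
        (by rw [card_inS, card_inS, card_top, hcardE, h3, ha, hb]; ring) (mem_map_of_mem _ trivial)

/-- A normal essential subgroup as a side. -/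
noncomputable def sideOf (hS : IsPGroup p S) (hF : F.IsSaturated p) (hp2 : p ≠ 2)
    (hsr : Cfsg.SectionalPRankLE p 3 S) (hE : F.IsEssential p E)
    (hN : S ≤ normalizer (E : Set Ω)) (B : Subgroup (MulAut S)) (hB : B ≤ F.autGroup S)
    (hinner : ∀ g : S, MulAut.conj g ∈ B)
    (hres : ∀ β ∈ B, ∀ x : S, (x : Ω) ∈ E → ((β x : S) : Ω) ∈ E)
    (hext : ∀ β ∈ F.autGroup S, (∀ x : S, (x : Ω) ∈ E → ((β x : S) : Ω) ∈ E) → β ∈ B) :
    Side p B (E.subgroupOf S) (F.autGroup E) where
  act := (MulAut.congr (subgroupOfEquivOfLe hE.1.1).symm).toMonoidHom.comp (F.autGroup E).subtype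
  conj := MonoidHom.mk'
    (fun g => ⟨conjAut S E ⟨g, mem_normIn hN g.2⟩,
      autInducedBy_le_autGroup hE.1.1 (mem_autInducedBy.2 ⟨g, g.2, fun _ => rfl⟩)⟩)
    fun g h => Subtype.ext (map_mul (conjAut S E) ⟨g, mem_normIn hN g.2⟩ ⟨h, mem_normIn hN h.2⟩)
  conj_spec g e := Subtype.ext rfl
  index_eq := index_eq_prime hS hF hp2 hsr hE hN
  normal := ⟨fun n hn g => ((Subgroup.mem_normalizer_iff.1 (hN g.2) (n : Ω)).1 hn)⟩
  sylow := by
    have := finite_of_le hE.1.1
    have : Finite (MulAut E) := finite_mulAut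
    obtain ⟨-, R, hR⟩ := (good_of_fullyNormalized p hS hF hE.2.1).1
    have h := R.not_dvd_index
    rw [hR] at h
    convert h using 3
    ext α
    rw [mem_subgroupOf, mem_autInducedBy]
    constructor
    · rintro ⟨g, rfl⟩
      exact ⟨g, g.2, fun _ => rfl⟩
    · rintro ⟨g, hg, hα⟩
      exact ⟨⟨g, hg⟩, Subtype.ext (MulEquiv.ext fun x => Subtype.ext (hα x).symm)⟩
  ext α hα := by
    have hES := hE.1.1
    have hφ := (autGroup_carrier hES).1 α.2
    have hle : S ≤ extender S E (E.subtype.comp (α : MulAut E).toMonoidHom) := by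
      intro g hg
      obtain ⟨k, hk⟩ := MonoidHom.mem_range.1 ((Subgroup.mem_normalizer_iff.1 hα _).1 ⟨⟨g, hg⟩, rfl⟩)
      refine mem_extender_of (mem_normIn hN hg) k.2 fun x hx => ?_
      have h1 := congrArg (fun γ : F.autGroup E => (((γ : MulAut E) ((α : MulAut E) x) : E) : Ω)) hk
      simp only [Subgroup.coe_mul, Subgroup.coe_inv, MulAut.mul_apply, MulAut.inv_apply_self] at h1
      exact h1.symm
    obtain ⟨ψ, hψ, hψe⟩ := receptive_extend (good_of_fullyNormalized p hS hF hE.2.1).2 hφ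
      (range_subtype_comp _) hle
    have hβ := autOfRange_mem hψ (range_eq_S hψ)
    have hkey : ∀ x : S, (hx : (x : Ω) ∈ E) →
        ((autOfRange ψ (F.injective_of_mem hψ) (range_eq_S hψ) x : S) : Ω) =
          ((α : MulAut E) ⟨x, hx⟩ : E) := fun x hx => by
      rw [coe_autOfRange]
      exact hψe x hx x.2
    refine ⟨_, hext _ hβ fun x hx => by rw [hkey x hx]; exact Subtype.coe_prop _,
      fun e => Subtype.ext ?_⟩
    rw [hkey e e.2]
    rfl
  res β hβ := by
    have hES := hE.1.1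
    let φ : E →* Ω := S.subtype.comp (β.toMonoidHom.comp (Subgroup.inclusion hES))
    have hφ : φ ∈ F.Hom E :=
      restrict_mem_of_eq ((autGroup_carrier le_rfl).1 (hB hβ)) hES fun _ => rfl
    have hr : φ.range = E := eq_of_le_of_card_le hES
      (by rintro _ ⟨x, rfl⟩; exact hres β hβ _ x.2) (card_range hφ).ge
    refine ⟨⟨_, autOfRange_mem hφ hr⟩, fun e => Subtype.ext ?_⟩
    rfl
  conj_mem := hinner

/-- The conjugations are not normal. -/
theorem sideOf_not_deg (hS : IsPGroup p S) (hF : F.IsSaturated p) (hp2 : p ≠ 2)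
    (hsr : Cfsg.SectionalPRankLE p 3 S) (hE : F.IsEssential p E)
    (hN : S ≤ normalizer (E : Set Ω)) (B : Subgroup (MulAut S)) (hB : B ≤ F.autGroup S)
    (hinner : ∀ g : S, MulAut.conj g ∈ B)
    (hres : ∀ β ∈ B, ∀ x : S, (x : Ω) ∈ E → ((β x : S) : Ω) ∈ E)
    (hext : ∀ β ∈ F.autGroup S, (∀ x : S, (x : Ω) ∈ E → ((β x : S) : Ω) ∈ E) → β ∈ B) :
    ¬ (sideOf hS hF hp2 hsr hE hN B hB hinner hres hext).Deg := by
  intro hdeg
  obtain ⟨-, R, hR⟩ := (good_of_fullyNormalized p hS hF hE.2.1).1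
  refine not_essential_of_normal_sylow p hE R ?_
  rw [hR]
  refine ⟨fun a ha x => ?_⟩
  rw [mem_subgroupOf, mem_autInducedBy] at ha
  obtain ⟨g, hg, ha⟩ := ha
  obtain ⟨g', hg'⟩ := hdeg x ⟨g, hg⟩
  have hinj : Function.Injective (sideOf hS hF hp2 hsr hE hN B hB hinner hres hext).act :=
    (MulAut.congr _).injective.comp Subtype.val_injective
  have h2 := congrArg Subtype.val (hinj hg')
  rw [mem_subgroupOf, mem_autInducedBy]
  have h3 : a = (sideOf hS hF hp2 hsr hE hN B hB hinner hres hext).conj ⟨g, hg⟩ :=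
    Subtype.ext (MulEquiv.ext fun y => Subtype.ext (ha y))
  refine ⟨g', g'.2, fun y => ?_⟩
  rw [h3, h2]
  rfl

end CfsgLib.Fusion.TwoInvariant
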