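import Cfsg.Agent.Fusion.TwoInvariant.Reduce
import Cfsg.Agent.Fusion.TwoInvariant.FusionSide

/-!
A central invariant subgroup of two normal essential subgroups contradicts a trivial core.
-/

set_option autoImplicit false
set_option linter.unusedSectionVars false
set_option linter.style.haveILetI false

open Cfsg Cfsg.FusionSystem Subgroup
open scoped commutatorElement

namespace CfsgLib.Fusion.TwoInvariant

universe u

variable {Ω : Type u} [Group Ω] {S : Subgroup Ω} [Finite S] {p : ℕ} [hp : Fact p.Prime]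
  {F : FusionSystem S}

theorem normalizer_of_normal {P : Subgroup Ω} (hP : P ≤ S) [hn : (P.subgroupOf S).Normal] :
    S ≤ normalizer (P : Set Ω) := fun g hg => mem_normalizer_of_conj_mem' hP fun x hx =>
  hn.conj_mem ⟨x, hP hx⟩ hx ⟨g, hg⟩
where
  mem_normalizer_of_conj_mem' {P : Subgroup Ω} (hP : P ≤ S) {g : Ω}
      (h : ∀ x ∈ P, g * x * g⁻¹ ∈ P) : g ∈ normalizer (P : Set Ω) := by
    have := finite_of_le hP
    have : Finite (P : Set Ω) := ‹Finite P›
    exact mem_normalizer_fintype fun n hn => h n hn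

/-- The centre lies in every centric subgroup. -/
theorem center_le_of_essential {P : Subgroup Ω} (hP : F.IsEssential p P) :
    center S ≤ P.subgroupOf S := fun z hz => hP.1.2 P (isConj_refl hP.1.1)
  (mem_inf.2 ⟨z.2, mem_centralizer_iff.2 fun v hv =>
    congrArg Subtype.val (mem_center_iff.1 hz ⟨v, hP.1.1 hv⟩)⟩)

/-- The automorphisms of `S` in the system that fix a subgroup. -/
def stabAut (F : FusionSystem S) (P' : Subgroup S) : Subgroup (MulAut S) where
  carrier := {β | β ∈ F.autGroup S ∧ P'.map β.toMonoidHom = P'}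
  one_mem' := ⟨one_mem _, by
    ext x
    simp⟩
  mul_mem' := fun {a b} ha hb => ⟨mul_mem ha.1 hb.1, by
    rw [show (a * b).toMonoidHom = a.toMonoidHom.comp b.toMonoidHom from rfl, ← Subgroup.map_map,
      hb.2, ha.2]⟩
  inv_mem' := fun {a} ha => ⟨inv_mem ha.1, by
    conv_lhs => rw [← ha.2]
    rw [Subgroup.map_map]
    ext x
    simp⟩

theorem coprimary_autGroup (hS : IsPGroup p S) (hF : F.IsSaturated p) :
    Coprimary p (F.autGroup S) := by
  intro δ hδ
  have : Finite (MulAut S) := finite_mulAut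
  obtain ⟨-, R, hR⟩ := (good_of_fullyNormalized p hS hF isFullyNormalized_S).1
  haveI hn : ((autInducedBy S S).subgroupOf (F.autGroup S)).Normal := by
    refine ⟨fun a ha b => ?_⟩
    rw [mem_subgroupOf, mem_autInducedBy] at ha ⊢
    obtain ⟨g, hg, ha⟩ := ha
    refine ⟨((b : MulAut S) ⟨g, hg⟩ : S), ((b : MulAut S) ⟨g, hg⟩).2, fun x => ?_⟩
    have h : (a : MulAut S) ((b : MulAut S)⁻¹ x) = ⟨g, hg⟩ * (b : MulAut S)⁻¹ x * ⟨g, hg⟩⁻¹ :=
      Subtype.ext (ha _)
    show (((b : MulAut S) ((a : MulAut S) ((b : MulAut S)⁻¹ x)) : S) : Ω) = _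
    rw [h, map_mul, map_mul, map_inv, MulAut.apply_inv_self]
    rfl
  refine ⟨((autInducedBy S S).subgroupOf (F.autGroup S)).index, ?_, ?_⟩
  · rw [← hR]; exact R.not_dvd_index
  · have h := Subgroup.pow_index_mem ((autInducedBy S S).subgroupOf (F.autGroup S)) ⟨δ, hδ⟩
    rw [mem_subgroupOf, mem_autInducedBy] at h
    obtain ⟨g, hg, h⟩ := h
    exact ⟨⟨g, hg⟩, MulEquiv.ext fun x => Subtype.ext (h x).symm⟩

theorem false_of_residue (hS : IsPGroup p S) (hF : F.IsSaturated p) (hp2 : p ≠ 2)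
    (hsr : Cfsg.SectionalPRankLE p 3 S) (hO : F.core = ⊥) {E₁ E₂ : Subgroup S} {X₁ X₂ : Type*}
    [Group X₁] [Group X₂] [Finite X₁] [Finite X₂]
    {B₁ B₂ : Subgroup (MulAut S)} (P : Setup p B₁ B₂ E₁ E₂ X₁ X₂) {T : Subgroup S} (R : P.Residue T)
    (hex : ∃ Q : Subgroup Ω, F.IsEssential p Q) : False := by
  have hp1 := hp.out.one_lt
  have hT₁ : T ≤ E₁ := R.tri.le.trans inf_le_left
  have hTc : T ≤ center S := R.central
  have hTn := R.tri.normal
  set D := E₁ ⊓ E₂ with hD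
  have hDn := P.inf_normal
  -- the powers are trivial
  let W : Subgroup S :=
    { carrier := {v | ∃ t ∈ T, t ^ p = v}
      one_mem' := ⟨1, one_mem _, one_pow _⟩
      mul_mem' := by
        rintro _ _ ⟨a, ha, rfl⟩ ⟨b, hb, rfl⟩
        exact ⟨a * b, mul_mem ha hb, Commute.mul_pow (mem_center_iff.1 (hTc hb) a) p⟩
      inv_mem' := by
        rintro _ ⟨a, ha, rfl⟩
        exact ⟨a⁻¹, inv_mem ha, inv_pow a p⟩ }
  have hW : F.IsNormal (W.map S.subtype) := by
    refine isNormal_of_essential p hS hF (fun Q hQ => ?_) fun Q hQ α hα x hx => ?_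
    · rintro _ ⟨v, ⟨t, ht, rfl⟩, rfl⟩
      rcases hQ with rfl | hQ
      · exact (t ^ p).2
      · exact center_le_of_essential hQ (pow_mem (hTc ht) p)
    · obtain ⟨_, ⟨t, ht, rfl⟩, hx⟩ := hx
      have htQ : (t : Ω) ∈ Q := by
        rcases hQ with rfl | hQ
        · exact t.2
        · exact center_le_of_essential hQ (hTc ht)
      have hQS : Q ≤ S := by
        rcases hQ with rfl | hQ
        exacts [le_rfl, hQ.1.1]
      obtain ⟨u, hu, hue⟩ := R.pow ⟨(α ⟨t, htQ⟩ : Q), hQS (α ⟨t, htQ⟩).2⟩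
      have hxt : x = (⟨t, htQ⟩ : Q) ^ p := Subtype.ext hx.symm
      exact ⟨u ^ p, ⟨u, hu, rfl⟩, by
        rw [hxt, map_pow α, hue]
        rfl⟩
  have hWb : W.map S.subtype = ⊥ := le_bot_iff.1 (hO ▸ le_core hW)
  have hexp : ∀ g : S, g ^ p = 1 := fun g => by
    obtain ⟨t, ht, hte⟩ := R.pow g
    have : ((g ^ p : S) : Ω) ∈ W.map S.subtype := ⟨g ^ p, ⟨t, ht, hte⟩, rfl⟩
    rw [hWb, mem_bot] at this
    exact Subtype.ext this
  -- the orders
  have hgenC : ∀ {v : S}, Elem p (D ⊔ zpowers v) := fun {v} =>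
    Elem.sup (show Elem p D from
      ⟨fun a ha b _ => (mem_center_iff.1 (R.inf_central ha) b).symm, fun a _ => hexp a⟩)
      (elem_zpowers (hexp v)) fun a ha b _ => (mem_center_iff.1 (R.inf_central ha) b).symm
  obtain ⟨v₁, hv₁, hv₁'⟩ := P.swap.exists_mem
  have hTcard : Nat.card T = p := by
    have he : Elem p E₁ := by
      have := hgenC (v := v₁)
      rwa [hD, P.sup_zpowers₁ hv₁ fun h => hv₁' (mem_inf.1 h).2] at this
    have h := he.card_le hsr
    rw [P.card₁, R.tri.cardD] at h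
    refine le_antisymm ?_ (prime_le_card hS R.ne_bot)
    refine (Nat.mul_le_mul_left_iff (Nat.mul_pos hp.out.pos hp.out.pos)).1 ?_
    rw [mul_assoc]
    exact h.trans (by rw [pow_three, mul_assoc])
  have hDcard : Nat.card D = p ^ 2 := by rw [R.tri.cardD, hTcard, pow_two]
  have hGcard : Nat.card S = p ^ 4 := by rw [P.card_top_eq, ← hD, hDcard]; ring
  have hZ : center S = D := le_antisymm
    (le_inf (P.s₁.center_le hS P.nd₁) (P.s₂.center_le hS P.nd₂)) R.inf_central
  -- every essential subgroup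
  set L : Subgroup S := ⁅(⊤ : Subgroup S), ⊤⁆ with hLdef
  have hess : ∀ Q : Subgroup Ω, (hQ : F.IsEssential p Q) → ∃ (C : Subgroup S) (c : S) (β : MulAut S),
      Nat.card C = p ∧ C ≤ D ∧ c ∈ D ∧ c ∉ C ∧ C ⊔ zpowers c = D ∧ L = zpowers c ∧
      β ∈ F.autGroup S ∧ β c = c⁻¹ ∧ (∀ u ∈ C, β u = u) ∧ ∀ α ∈ F.autGroup Q,
      ∀ x : Q, (⟨x, hQ.1.1 x.2⟩ : S) ∈ C → (⟨(α x : Q), hQ.1.1 (α x).2⟩ : S) ∈ C := by
    intro Q hQ
    set Q' := Q.subgroupOf S with hQ'
    have hDQ : D ≤ Q' := hZ.ge.trans (center_le_of_essential hQ)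
    have hQne : D ≠ Q' := by
      intro he
      obtain ⟨g, hg, hg'⟩ := P.exists_mem
      refine P.not_mem_inf₁ hg' ?_
      rw [← hD, he]
      refine hQ.1.2 Q (isConj_refl hQ.1.1) (mem_inf.2 ⟨g.2, mem_centralizer_iff.2 fun v hv => ?_⟩)
      have hvD : (⟨v, hQ.1.1 hv⟩ : S) ∈ center S := hZ.ge (he.ge hv)
      exact congrArg Subtype.val (mem_center_iff.1 hvD g).symm
    have hQtop : Q' ≠ ⊤ := fun h => (essential_lt p hS hF hQ).not_ge fun v hv =>
      h.ge (mem_top (⟨v, hv⟩ : S))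
    have hQcard : Nat.card Q' = p ^ 3 := by
      have h1 := card_mul_le_of_lt hS (lt_of_le_of_ne hDQ hQne)
      have h2 := card_mul_le_of_lt hS (lt_top_iff_ne_top.2 hQtop)
      rw [card_top, hGcard] at h2
      obtain ⟨k, hk⟩ := exists_card hS Q'
      rw [hDcard, hk, ← pow_succ, Nat.pow_le_pow_iff_right hp1] at h1
      rw [hk, ← pow_succ, Nat.pow_le_pow_iff_right hp1] at h2
      rw [hk, show k = 3 by omega]
    have hcomm : ∀ g h : S, ⁅g, h⁆ ∈ Q' := fun g h => hDQ (P.comm_mem g h)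
    haveI : Q'.Normal := ⟨fun n hn g => by
      have := mul_mem (hcomm g n) hn
      rwa [commutatorElement_def, inv_mul_cancel_right] at this⟩
    have hN : S ≤ normalizer (Q : Set Ω) := normalizer_of_normal hQ.1.1
    have hQel : Elem p Q' := by
      obtain ⟨v, hv, hvD⟩ := SetLike.exists_of_lt (lt_of_le_of_ne hDQ hQne)
      have := hgenC (v := v)
      rwa [eq_sup_zpowers hDQ (by rw [hQcard, hDcard]; ring) hv hvD] at this
    have hinner : ∀ g : S, MulAut.conj g ∈ stabAut F Q' := fun g =>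
      ⟨autInducedBy_le_autGroup le_rfl (mem_autInducedBy.2 ⟨g, g.2, fun _ => rfl⟩), by
        refine eq_of_le_of_card_ge ?_ (card_map_of_injective (MulAut.conj g).injective).ge
        rintro _ ⟨v, hv, rfl⟩
        exact (inferInstance : Q'.Normal).conj_mem v hv g⟩
    have hres : ∀ β ∈ stabAut F Q', ∀ v : S, (v : Ω) ∈ Q → ((β v : S) : Ω) ∈ Q :=
      fun β hβ v hv => hβ.2.le ⟨v, hv, rfl⟩
    have hext : ∀ β ∈ F.autGroup S, (∀ v : S, (v : Ω) ∈ Q → ((β v : S) : Ω) ∈ Q) →
        β ∈ stabAut F Q' := fun β hβ h => ⟨hβ, by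
      refine eq_of_le_of_card_ge ?_ (card_map_of_injective β.injective).ge
      rintro _ ⟨v, hv, rfl⟩
      exact h v hv⟩
    have := finite_of_le hQ.1.1
    have : Finite (MulAut Q) := finite_mulAut
    let σ := sideOf hS hF hp2 hsr hQ hN (stabAut F Q') (fun β hβ => hβ.1) hinner hres hext
    have hnd : ¬ σ.Deg := sideOf_not_deg hS hF hp2 hsr hQ hN (stabAut F Q') (fun β hβ => hβ.1)
      hinner hres hext
    obtain ⟨C, hC, hCle, ⟨d⟩⟩ := σ.exists_trans_space hS (M := Q') le_rfl σ.inv_self hQel hQcard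
      (fun e he m hm => hQel.1 e he m hm)
      (by rw [hZ, inf_eq_right.2 hDQ, hDcard]) (by
        rw [hZ, inf_eq_right.2 hDQ]
        intro hi
        obtain ⟨g, hg⟩ : ∃ g : S, g ∉ Q' := by
          by_contra hh
          push Not at hh
          exact hQtop ((eq_top_iff' Q').2 hh)
        exact hg (σ.mem_of_series hS hnd hi hDQ
          (fun h hh => mem_center_iff.1 (R.inf_central hh) g) fun e _ => P.comm_mem g e))
    obtain ⟨n, -, hnN, hnC, hnc, -⟩ := d.exists_negOne hS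
    obtain ⟨β, hβ, hβe⟩ := σ.ext n hnN
    have hcQ : d.c ∈ Q' := d.le d.cM
    have hcD : d.c ∈ D := hZ.le
      (mem_center_of_index σ.index_eq d.gE (fun e he => d.cE e he _ d.cM) d.fixc)
    have hβc : β d.c = d.c⁻¹ := (hβe ⟨d.c, hcQ⟩).trans (hnc ⟨d.c, hcQ⟩ rfl)
    have hβC : ∀ u ∈ C, β u = u := fun u hu =>
      (hβe ⟨u, d.le (d.C_le hu)⟩).trans (hnC ⟨u, d.le (d.C_le hu)⟩ hu)
    have hcC : d.c ∉ C := fun h => d.c_ne
      (eq_one_of_inv_eq hp2 (hexp d.c) (hβc.symm.trans (hβC _ h)))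
    have hCD : C ≤ D := hCle.trans (inf_le_right.trans hZ.le)
    have hgenD : C ⊔ zpowers d.c = D := eq_sup_zpowers hCD (by rw [hDcard, hC, pow_two]) hcD hcC
    have hcn : (zpowers d.c).Normal := ⟨fun v hv w => by
      rw [mem_center_iff.1 (R.inf_central (zpowers_le.2 hcD hv)) w, mul_inv_cancel_right]
      exact hv⟩
    have hle : L ≤ zpowers d.c := commutator_le_of_gen (E := (⊤ : Subgroup S)) (K := zpowers d.c)
      (a := d.g) hQel.1 (fun v hv => d.comm_all d.g hv) (sup_zpowers_eq_top σ.index_eq d.gE).ge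
    have hL : L = zpowers d.c := by
      refine eq_of_le_of_card_ge hle ?_
      rw [Nat.card_zpowers, d.orderOf_c]
      refine prime_le_card hS fun hb => ?_
      obtain ⟨g, h, hgh⟩ := R.tri.nonab
      have := commutator_mem_commutator (H₁ := (⊤ : Subgroup S)) (H₂ := ⊤) (mem_top g) (mem_top h)
      rw [← hLdef, hb, mem_bot] at this
      exact hgh (this ▸ one_mem T)
    refine ⟨C, d.c, β, hC, hCD, hcD, hcC, hgenD, hL, hβ.1, hβc, hβC, fun α hα x hx => ?_⟩
    exact d.C_inv ⟨α, hα⟩ ⟨⟨x, hQ.1.1 x.2⟩, x.2⟩ hx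
  have hcop := coprimary_autGroup hS hF
  -- the fixed line is kept by all automorphisms
  have key : ∀ (C : Subgroup S) (c : S) (β : MulAut S), C ≤ D → c ∈ D → c ∉ C →
      C ⊔ zpowers c = D → L = zpowers c → β ∈ F.autGroup S → β c = c⁻¹ →
      (∀ u ∈ C, β u = u) → ∀ γ ∈ F.autGroup S, ∀ u ∈ C, γ u ∈ C := by
    intro C c β hCD hcD hcC hgen hL hβ hβc hβC γ hγ u hu
    have hDZ : ∀ {v : S}, v ∈ D → ∀ η : MulAut S, η v ∈ D := fun {v} hv η => by
      refine hZ.le (mem_center_iff.2 fun g => ?_)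
      obtain ⟨g, rfl⟩ := η.surjective g
      rw [← map_mul, ← map_mul, mem_center_iff.1 (hZ.ge hv) g]
    haveI : C.Normal := ⟨fun v hv w => by
      rw [mem_center_iff.1 (R.inf_central (hCD hv)) w, mul_inv_cancel_right]; exact hv⟩
    obtain ⟨a, ha, b, hb, hab⟩ := (mem_sup_of_normal_left).1 (hgen.ge (hDZ (hCD hu) γ))
    obtain ⟨i, rfl⟩ := mem_zpowers_iff.1 hb
    have hline : ∀ η : MulAut S, η c ∈ zpowers c := fun η => by
      have hle : L ≤ L.comap η.toMonoidHom := commutator_le.2 fun v _ w _ => by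
        show η ⁅v, w⁆ ∈ L
        rw [map_commutatorElement]
        exact commutator_mem_commutator (mem_top _) (mem_top _)
      exact hL ▸ hle (hL.ge (mem_zpowers c))
    have hβi : ∀ k : ℤ, β⁻¹ (c ^ k) = c ^ (-k) := fun k => by
      apply β.injective
      rw [MulAut.apply_inv_self, map_zpow, hβc, inv_zpow', neg_neg]
    have hCb : ∀ t ∈ C, β⁻¹ t = t := fun t ht => by
      apply β.injective
      rw [MulAut.apply_inv_self]
      exact (hβC t ht).symm
    obtain ⟨k, hk⟩ := mem_zpowers_iff.1 (hline γ)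
    have hδc : (γ⁻¹ * β⁻¹ * γ * β) c = c := by
      simp only [MulAut.mul_apply]
      rw [hβc, map_inv γ, ← hk, ← zpow_neg, hβi, neg_neg, hk, MulAut.inv_apply_self]
    have hδu : (γ⁻¹ * β⁻¹ * γ * β) u = u * γ⁻¹ (c ^ (-(2 * i))) := by
      simp only [MulAut.mul_apply]
      rw [hβC u hu]
      show γ⁻¹ (β⁻¹ (γ u)) = _
      rw [← hab, map_mul β⁻¹, hCb a ha, hβi,
        show a * c ^ (-i) = (a * c ^ i) * c ^ (-(2 * i)) by rw [mul_assoc, ← zpow_add]; congr 2; ring,
        hab, map_mul, MulAut.inv_apply_self]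
    have hfix := hcop.fix (mul_mem (mul_mem (mul_mem (inv_mem hγ) (inv_mem hβ)) hγ) hβ) (hexp c)
      (R.inf_central (hCD hu)) hδc (by
      rw [hδu, ← mem_center_iff.1 (R.inf_central (hCD hu)) (γ⁻¹ _), mul_inv_cancel_right, map_zpow]
      exact zpow_mem (hline γ⁻¹) _)
    rw [hδu, mul_eq_left, map_eq_one_iff _ γ⁻¹.injective] at hfix
    have hi : (p : ℤ) ∣ i := by
      by_contra hi
      exact hcC ((RankThree.eq_one_of_zpow (hexp c) (fun h =>
        ((Nat.prime_iff_prime_int.1 hp.out).dvd_or_dvd (dvd_neg.1 h)).elim (not_dvd_two hp2) hi)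
          hfix).symm ▸ one_mem C)
    rw [← hab, RankThree.zpow_congr (hexp c) (i := i) (j := 0) (by rwa [sub_zero]), zpow_zero, mul_one]
    exact ha
  obtain ⟨Q₀, hQ₀⟩ := hex
  obtain ⟨C₀, c₀, β₀, hC₀, hC₀D, hc₀D, hc₀C, hgen₀, hL₀, hβ₀, hβ₀c, hβ₀C, -⟩ := hess Q₀ hQ₀
  have hC₀AS := key C₀ c₀ β₀ hC₀D hc₀D hc₀C hgen₀ hL₀ hβ₀ hβ₀c hβ₀C
  have hC₀c : C₀ ≤ center S := hC₀D.trans hZ.ge
  have hTn' : F.IsNormal (C₀.map S.subtype) := by
    refine isNormal_of_essential p hS hF (fun Q hQ => ?_) fun Q hQ α hα x hx => ?_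
    · rintro _ ⟨t, ht, rfl⟩
      rcases hQ with rfl | hQ
      · exact t.2
      · exact center_le_of_essential hQ (hC₀c ht)
    · obtain ⟨t, ht, hx⟩ := hx
      rcases hQ with rfl | hQ
      · obtain rfl : t = x := Subtype.ext hx
        exact mem_map_of_mem Q.subtype (hC₀AS α hα t ht)
      · obtain ⟨C, c, β, hC, hCD, hcD, hcC, hgen, hL, hβ, hβc, hβC, hinv⟩ := hess Q hQ
        have hCC : C₀ = C := by
          refine eq_of_le_of_card_ge (fun u hu => ?_) (by rw [hC, hC₀])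
          haveI : C.Normal := ⟨fun v hv w => by
            rw [mem_center_iff.1 (R.inf_central (hCD hv)) w, mul_inv_cancel_right]; exact hv⟩
          obtain ⟨a, ha, b, hb, rfl⟩ := (mem_sup_of_normal_left).1 (hgen.ge (hC₀D hu))
          obtain ⟨i, rfl⟩ := mem_zpowers_iff.1 hb
          have h1 : β (a * c ^ i) ∈ C₀ := hC₀AS β hβ _ hu
          rw [map_mul, map_zpow, hβC a ha, hβc, inv_zpow'] at h1
          have h2 := mul_mem (inv_mem h1) hu
          rw [mul_inv_rev, ← zpow_neg, neg_neg, mul_assoc, inv_mul_cancel_left, ← zpow_add] at h2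
          by_cases hd : (p : ℤ) ∣ i
          · rw [RankThree.zpow_congr (hexp c) (i := i) (j := 0) (by rwa [sub_zero]), zpow_zero, mul_one]
            exact ha
          refine absurd ?_ hc₀C
          obtain ⟨k, hk⟩ := RankThree.solve_mod (a := i + i) (fun h => hd
            (((Nat.prime_iff_prime_int.1 hp.out).dvd_or_dvd (two_mul i ▸ h)).resolve_left
              (not_dvd_two hp2))) 1
          have hc : c ∈ C₀ := by
            rw [← zpow_one c, ← RankThree.zpow_congr (hexp c) hk, zpow_mul]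
            exact zpow_mem h2 k
          exact zpowers_le.2 hc (hL ▸ hL₀.ge (mem_zpowers c₀))
        have hxT : (⟨x, hQ.1.1 x.2⟩ : S) ∈ C := by
          rw [show (⟨x, hQ.1.1 x.2⟩ : S) = t from Subtype.ext hx.symm, ← hCC]
          exact ht
        exact ⟨_, hCC.symm ▸ hinv α hα x hxT, rfl⟩
  have : Finite F.core := finite_of_le core_le_S
  have h := Subgroup.card_le_of_le (le_core hTn')
  rw [hO, card_bot, card_map_of_injective S.subtype_injective, hC₀] at h
  omega

end CfsgLib.Fusion.TwoInvariant
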