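import Cfsg.Agent.Fusion.TwoInvariant.Tools

/-!
Two invariant maximal subgroups without a common invariant subgroup in their intersection.
-/

set_option autoImplicit false
set_option linter.unusedSectionVars false
set_option linter.style.haveILetI false

open Subgroup
open scoped commutatorElement

namespace CfsgLib.Fusion.TwoInvariant

variable {G : Type*} [Group G] [Finite G] {p : ℕ} [hp : Fact p.Prime] {B B₁ B₂ : Subgroup (MulAut G)}

/-- The standing hypotheses. -/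
structure Pair (p : ℕ) (B₁ B₂ : Subgroup (MulAut G)) (E₁ E₂ : Subgroup G) (X₁ X₂ : Type*) [Group X₁]
    [Group X₂] where
  s₁ : Side p B₁ E₁ X₁
  s₂ : Side p B₂ E₂ X₂
  ne : E₁ ≠ E₂
  hG : IsPGroup p G
  odd : p ≠ 2
  rank : Cfsg.SectionalPRankLE p 3 G
  cop : Coprimary p (B₁ ⊔ B₂)
  max : ∀ H : Subgroup G, H ≤ E₁ ⊓ E₂ → s₁.Inv H → s₂.Inv H → H = ⊥
  cyc₁ : s₁.Deg → IsCyclic E₁
  cyc₂ : s₂.Deg → IsCyclic E₂

section span

variable {E : Subgroup G} {X : Type*} [Group X] [Finite X] (s : Side p B E X)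

/-- The subgroup generated by the images of the central elements of order `p`. -/
abbrev Side.spanZ : Subgroup G := s.span (omegaCenter p G)

theorem Side.spanZ_central {e : G} (he : e ∈ E) {v : G} (hv : v ∈ s.spanZ) : Commute e v := by
  have hle : s.spanZ ≤ centralizer {e} := by
    refine (closure_le _).2 ?_
    rintro _ ⟨x, a, ha, rfl⟩
    refine mem_centralizer_singleton_iff.2 ?_
    have h1 : s.act x⁻¹ ⟨e, he⟩ * a = a * s.act x⁻¹ ⟨e, he⟩ :=
      Subtype.ext (mem_center_iff.1 (omegaCenter_le_center ha) _)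
    have h2 := congrArg (s.img x) h1
    rw [map_mul, map_mul, ← Side.img_mul, mul_inv_cancel, Side.img_one] at h2
    exact h2.symm
  exact (mem_centralizer_singleton_iff.1 (hle hv)).symm

theorem Side.spanZ_elem : Elem p s.spanZ := by
  refine elem_closure (fun a ha b hb => ?_) ?_
  · exact (s.spanZ_central (s.span_le _ (subset_closure hb)) (subset_closure ha)).symm
  · rintro _ ⟨x, a, ha, rfl⟩
    rw [← map_pow, show a ^ p = 1 from Subtype.ext ha.2, map_one]

theorem Side.spanZ_inv : s.Inv s.spanZ := s.inv_span _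

theorem Side.spanZ_normal : s.spanZ.Normal := (s.inv_span _).normal (s.span_le _)

theorem Side.le_spanZ (hZ : omegaCenter p G ≤ E) : omegaCenter p G ≤ s.spanZ := s.le_span hZ

theorem Side.spanZ_inf_center (hZ : omegaCenter p G ≤ E) :
    s.spanZ ⊓ center G = omegaCenter p G :=
  le_antisymm (fun _ hz => ⟨(mem_inf.1 hz).2, s.spanZ_elem.2 _ (mem_inf.1 hz).1⟩)
    (le_inf (s.le_spanZ hZ) omegaCenter_le_center)

theorem inf_center_eq {M : Subgroup G} (hM : Elem p M) (hZ : omegaCenter p G ≤ M) :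
    M ⊓ center G = omegaCenter p G :=
  le_antisymm (fun _ hz => ⟨(mem_inf.1 hz).2, hM.2 _ (mem_inf.1 hz).1⟩)
    (le_inf hZ omegaCenter_le_center)

theorem Side.lt_spanZ (hZ : omegaCenter p G ≤ E) (hmove : ¬ s.Inv (omegaCenter p G)) :
    omegaCenter p G < s.spanZ :=
  lt_of_le_of_ne (s.le_spanZ hZ) fun h => hmove (h.symm ▸ s.spanZ_inv)

/-- The possible orders. -/
theorem Side.card_spanZ (hG : IsPGroup p G) [Nontrivial G] (hr : Cfsg.SectionalPRankLE p 3 G)
    (hZ : omegaCenter p G ≤ E) (hmove : ¬ s.Inv (omegaCenter p G)) :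
    (Nat.card s.spanZ = p ^ 2 ∧ Nat.card (omegaCenter p G) = p) ∨
      (Nat.card s.spanZ = p ^ 3 ∧
        (Nat.card (omegaCenter p G) = p ∨ Nat.card (omegaCenter p G) = p ^ 2)) := by
  have hp1 := hp.out.one_lt
  obtain ⟨a, ha⟩ := exists_card hG s.spanZ
  obtain ⟨b, hb⟩ := exists_card hG (omegaCenter p G)
  have h1 := card_mul_le_of_lt hG (s.lt_spanZ hZ hmove)
  have h2 := s.spanZ_elem.card_le hr
  have h3 := prime_le_card hG (omegaCenter_ne_bot (p := p) hG)
  rw [ha] at h2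
  rw [ha, hb, ← pow_succ] at h1
  rw [hb] at h3
  have h1' := (Nat.pow_le_pow_iff_right hp1).1 h1
  have h2' := (Nat.pow_le_pow_iff_right hp1).1 h2
  have h3' : b ≠ 0 := fun h => by rw [h, pow_zero] at h3; omega
  rcases (show (a = 2 ∧ b = 1) ∨ (a = 3 ∧ (b = 1 ∨ b = 2)) by omega) with ⟨rfl, rfl⟩ | ⟨rfl, rfl | rfl⟩
  · exact Or.inl ⟨ha, by rw [hb, pow_one]⟩
  · exact Or.inr ⟨ha, Or.inl (by rw [hb, pow_one])⟩
  · exact Or.inr ⟨ha, Or.inr hb⟩

/-- An invariant nontrivial subgroup contains the span when the central subgroup has order `p`. -/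
theorem Side.spanZ_le (hG : IsPGroup p G) (hZp : Nat.card (omegaCenter p G) = p) {H : Subgroup G}
    (hH : s.Inv H) (hle : H ≤ E) (hne : H ≠ ⊥) : s.spanZ ≤ H := by
  haveI := hH.normal hle
  obtain ⟨z, hz, hzc, hz1⟩ := exists_omegaCenter_mem hG H hne
  exact s.span_le_of_inv (le_of_card_prime hZp hzc hz hz1) hH

/-- An elementary subgroup of order `p ^ 3` over the span with commutators falling into it is
invariant. -/
theorem Side.spread (hG : IsPGroup p G) (hp2 : p ≠ 2) (hr : Cfsg.SectionalPRankLE p 3 G)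
    (hZp : Nat.card (omegaCenter p G) = p) (hV : Nat.card s.spanZ = p ^ 2) {W : Subgroup G}
    (hW : W ≤ E) (hWe : Elem p W) (hWc : Nat.card W = p ^ 3) (hVW : s.spanZ ≤ W)
    (hcom : ∀ e ∈ E, ∀ w ∈ W, ⁅e, w⁆ ∈ s.spanZ) : s.Inv W := by
  haveI := s.spanZ_normal
  set V := s.spanZ
  set U := s.span W with hU
  have hUE : U ≤ E := s.span_le _
  have hUV : ∀ e ∈ E, ∀ u ∈ U, ⁅e, u⁆ ∈ V := by
    refine comm_closure_mem ?_
    rintro e he _ ⟨x, a, ha, rfl⟩
    have h : s.img x ⁅s.act x⁻¹ ⟨e, he⟩, a⁆ ∈ V :=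
      s.spanZ_inv x _ (hcom _ (s.act x⁻¹ ⟨e, he⟩).2 _ ha)
    rw [map_commutatorElement, ← Side.img_mul, mul_inv_cancel, Side.img_one] at h
    exact h
  have hcomU : ∀ a ∈ U, ∀ b ∈ U, ⁅a, b⁆ ∈ V := fun a ha b hb => hUV a (hUE ha) b hb
  have hcen : ∀ a ∈ U, ∀ v ∈ V, Commute a v := fun a ha v hv => s.spanZ_central (hUE ha) hv
  have hexp : ∀ u ∈ U, u ^ p = 1 := by
    refine pow_closure_eq_one hp2 s.spanZ_elem hcomU hcen ?_
    rintro _ ⟨x, a, ha, rfl⟩
    rw [← map_pow, show a ^ p = 1 from Subtype.ext (hWe.2 _ ha), map_one]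
  by_cases hab : ⁅U, U⁆ = ⊥
  · have hUe : Elem p U := ⟨fun a ha b hb => commutatorElement_eq_one_iff_commute.1
      (by rw [← mem_bot, ← hab]; exact commutator_mem_commutator ha hb), hexp⟩
    have : W = U := eq_of_le_of_card_ge (s.le_span hW) (by rw [hWc]; exact hUe.card_le hr)
    rw [this]
    exact s.inv_span W
  · exfalso
    have hle : ⁅U, U⁆ ≤ V := commutator_le.2 hcomU
    have hder : ⁅U, U⁆ = V := le_antisymm hle (s.spanZ_le hG hZp
      ((s.inv_span W).commutator hUE (s.inv_span W) hUE) (hle.trans (s.span_le _)) hab)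
    exact class_two_rank_false hG hr s.spanZ_elem hV (hVW.trans (s.le_span hW))
      (fun c hc u hu => hcen u hu c hc) hder hexp

/-- Everything inside a cyclic group is invariant. -/
theorem Side.inv_of_cyclic [IsCyclic E] (H : Subgroup G) : s.Inv H := by
  intro x e he
  obtain ⟨m, hm⟩ := MonoidHom.map_cyclic (s.act x).toMonoidHom
  rw [Side.img_apply, show s.act x e = e ^ m from hm e]
  exact zpow_mem he m

end span

variable {E₁ E₂ : Subgroup G} {X₁ X₂ : Type*} [Group X₁] [Group X₂] [Finite X₁] [Finite X₂]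
  (P : Pair p B₁ B₂ E₁ E₂ X₁ X₂)

namespace Pair

/-- The sides exchanged. -/
def swap : Pair p B₂ B₁ E₂ E₁ X₂ X₁ where
  s₁ := P.s₂
  s₂ := P.s₁
  ne := P.ne.symm
  hG := P.hG
  odd := P.odd
  rank := P.rank
  cop := by rw [sup_comm]; exact P.cop
  max H hle h₁ h₂ := P.max H (inf_comm E₂ E₁ ▸ hle) h₂ h₁
  cyc₁ := P.cyc₂
  cyc₂ := P.cyc₁

include P in
theorem nontrivial : Nontrivial G := by
  by_contra h
  haveI := not_nontrivial_iff_subsingleton.1 h
  exact P.ne (Subsingleton.elim _ _)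

include P in
theorem not_le : ¬ E₂ ≤ E₁ := fun h => P.ne (eq_of_le_of_card_ge h (by
  have h1 := E₁.index_mul_card
  have h2 := E₂.index_mul_card
  rw [P.s₁.index_eq] at h1
  rw [P.s₂.index_eq, ← h1] at h2
  exact (Nat.eq_of_mul_eq_mul_left hp.out.pos h2).ge)).symm

include P in
theorem exists_mem : ∃ g ∈ E₂, g ∉ E₁ := SetLike.not_le_iff_exists.1 P.not_le

include P in
theorem sup_eq_top : E₁ ⊔ E₂ = ⊤ := by
  obtain ⟨g, hg, hg'⟩ := P.exists_mem
  exact top_le_iff.1 ((sup_zpowers_eq_top P.s₁.index_eq hg').ge.trans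
    (sup_le_sup_left (zpowers_le.2 hg) _))

include P in
theorem card₁ : Nat.card E₁ = p * Nat.card ↥(E₁ ⊓ E₂) := by
  haveI := P.s₁.normal
  haveI := P.s₂.normal
  have h1 := ((E₁ ⊓ E₂).subgroupOf E₁).index_mul_card
  rw [← relIndex, Nat.card_congr (subgroupOfEquivOfLe inf_le_left).toEquiv, inf_relIndex_left,
    ← relIndex_sup_right (K := E₂) (H := E₁), P.sup_eq_top, relIndex_top_right, P.s₂.index_eq] at h1
  exact h1.symm

include P in
theorem card_top_eq : Nat.card G = p ^ 2 * Nat.card ↥(E₁ ⊓ E₂) := by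
  rw [← E₁.index_mul_card, P.s₁.index_eq, P.card₁, pow_two, mul_assoc]

include P in
theorem inf_normal : (E₁ ⊓ E₂).Normal := by
  haveI := P.s₁.normal
  haveI := P.s₂.normal
  exact Subgroup.normal_inf_normal _ _

include P in
theorem comm_mem_inf {a b : G} (ha : a ∈ E₁) (hb : b ∈ E₂) : ⁅a, b⁆ ∈ E₁ ⊓ E₂ := by
  have := P.s₁.normal
  have := P.s₂.normal
  refine mem_inf.2 ⟨?_, ?_⟩
  · rw [commutatorElement_def, mul_assoc, mul_assoc, ← mul_assoc b]
    exact mul_mem ha (Normal.conj_mem ‹E₁.Normal› _ (inv_mem ha) b)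
  · rw [commutatorElement_def]
    exact mul_mem (Normal.conj_mem ‹E₂.Normal› _ hb a) (inv_mem hb)

include P in
/-- Generation of a side by the intersection and one more element. -/
theorem sup_zpowers₁ {v : G} (hv : v ∈ E₁) (hv' : v ∉ E₁ ⊓ E₂) : E₁ ⊓ E₂ ⊔ zpowers v = E₁ :=
  eq_sup_zpowers inf_le_left P.card₁ hv hv'

include P in
theorem mem_center_of_commute {z : G} (h₁ : ∀ a ∈ E₁, Commute a z) (h₂ : ∀ a ∈ E₂, Commute a z) :
    z ∈ center G := by
  obtain ⟨g, hg, hg'⟩ := P.exists_mem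
  exact mem_center_of_index P.s₁.index_eq hg' h₁ (h₂ g hg)

include P in
/-- If one side is degenerate and the other is not, the intersection is trivial. -/
theorem inf_eq_bot_of_deg (h₁ : P.s₁.Deg) (h₂ : ¬ P.s₂.Deg) : E₁ ⊓ E₂ = ⊥ := by
  by_contra hD
  haveI := P.nontrivial
  haveI := P.s₁.normal
  haveI := P.s₂.normal
  have hG := P.hG
  have hp2 := P.odd
  haveI := P.cyc₁ h₁
  set Z := omegaCenter p G with hZdef
  set D := E₁ ⊓ E₂ with hDdef
  have hZ₂ : Z ≤ E₂ := omegaCenter_le_center.trans (P.s₂.center_le hG h₂)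
  have hab : ∀ a ∈ E₁, ∀ b ∈ E₁, Commute a b := fun a ha b hb =>
    congrArg Subtype.val ((IsCyclic.commGroup (α := E₁)).mul_comm ⟨a, ha⟩ ⟨b, hb⟩)
  have hZ₁ : Z ≤ E₁ := by
    intro z hz
    by_contra hz1
    have hcen : ∀ a ∈ E₁, a ∈ center G := fun a ha =>
      mem_center_of_index P.s₁.index_eq hz1 (fun e he => hab e he a ha)
        (mem_center_iff.1 hz.1 a).symm
    have htop : (⊤ : Subgroup G) ≤ center G := by
      rw [← sup_zpowers_eq_top P.s₁.index_eq hz1]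
      exact sup_le hcen (zpowers_le.2 hz.1)
    have h := P.s₂.index_eq
    rw [top_le_iff.1 (htop.trans (P.s₂.center_le hG h₂)), index_top] at h
    exact hp.out.one_lt.ne h
  have hZD : Z ≤ D := le_inf hZ₁ hZ₂
  have hmove : ¬ P.s₂.Inv Z := fun h => omegaCenter_ne_bot (p := p) hG
    (P.max Z hZD (P.s₁.inv_of_cyclic Z) h)
  have hVD : ¬ P.s₂.spanZ ≤ D := fun h => omegaCenter_ne_bot (p := p) hG
    (le_bot_iff.1 ((P.s₂.le_spanZ hZ₂).trans (P.max _ h
      (P.s₁.inv_of_cyclic _) P.s₂.spanZ_inv).le))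
  obtain ⟨v, hv, hvD⟩ := SetLike.not_le_iff_exists.1 hVD
  have hvE : v ∈ E₂ := P.s₂.span_le _ hv
  have hv1 : v ^ p = 1 := P.s₂.spanZ_elem.2 v hv
  have hgen₂ : D ⊔ zpowers v = E₂ := by
    have := P.swap.sup_zpowers₁ hvE (by rw [inf_comm]; exact hvD)
    rwa [inf_comm] at this
  have hvc : ∀ e ∈ E₂, Commute e v := fun e he => P.s₂.spanZ_central he hv
  haveI := P.inf_normal
  -- the Frattini subgroup of the intersection
  have hFD2 : FD p E₂ = FD p D := by
    refine le_antisymm ?_ (FD_mono inf_le_right)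
    haveI : (FD p D).Normal := ((P.s₁.inv_of_cyclic D).fd inf_le_left).normal
      ((FD_le D).trans inf_le_left)
    refine FD_le_of_elem ?_
    rw [← hgen₂, Subgroup.map_sup, MonoidHom.map_zpowers]
    refine (elem_map_FD D le_rfl).sup (elem_zpowers (by rw [← map_pow, hv1, map_one])) ?_
    rintro _ ⟨d, hd, rfl⟩ _ ⟨i, rfl⟩
    exact ((hvc d (mem_inf.1 hd).2).map _).zpow_right i
  have hFD : FD p D = ⊥ := P.max _ (FD_le D)
    ((P.s₁.inv_of_cyclic D).fd inf_le_left)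
    (hFD2 ▸ P.s₂.inv_self.fd le_rfl)
  have hDe : Elem p D := elem_of_FD hFD
  have hDcard : Nat.card D = p := by
    refine le_antisymm ?_ (prime_le_card hG hD)
    haveI : IsCyclic D := isCyclic_of_injective (inclusion (inf_le_left : D ≤ E₁))
      (inclusion_injective _)
    obtain ⟨d, hd⟩ := IsCyclic.exists_generator (α := D)
    rw [← orderOf_eq_card_of_forall_mem_zpowers hd]
    exact Nat.le_of_dvd hp.out.pos (orderOf_dvd_of_pow_eq_one (Subtype.ext (hDe.2 _ d.2)))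
  have hDZ : D = Z := (eq_of_le_of_card_ge hZD (by
    rw [hDcard]; exact prime_le_card hG (omegaCenter_ne_bot (p := p) hG))).symm
  have hE₂e : Elem p E₂ := by
    rw [← hgen₂]
    refine hDe.sup (elem_zpowers hv1) ?_
    rintro d hd _ ⟨i, rfl⟩
    exact (hvc d (mem_inf.1 hd).2).zpow_right i
  have hE₂c : Nat.card E₂ = p ^ 2 := by
    rw [P.swap.card₁, inf_comm, ← hDdef, hDcard, pow_two]
  obtain ⟨d⟩ := P.s₂.exists_trans_plane hG le_rfl P.s₂.inv_self hE₂e hE₂c
    (fun e he m hm => hE₂e.1 e he m hm) (by rwa [inf_center_eq hE₂e hZ₂])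
  obtain ⟨n, -, hn, -, hnc, hnc'⟩ := d.exists_negOne hG
  obtain ⟨β, hβ, hβn⟩ := P.s₂.ext n hn
  -- everything in the second side is inverted
  have hinv : ∀ e ∈ E₂, β e = e⁻¹ := by
    intro e he
    rw [← d.gen, bot_sup_eq] at he
    obtain ⟨i, j, rfl⟩ := exists_zpow_mul (d.elem.1 _ d.cM _ d.c'M) he
    have hc : β d.c = d.c⁻¹ := (hβn ⟨d.c, d.cM⟩).trans (hnc ⟨d.c, d.cM⟩ rfl)
    have hc' : β d.c' = d.c'⁻¹ := (hβn ⟨d.c', d.c'M⟩).trans (hnc' ⟨d.c', d.c'M⟩ rfl)
    rw [map_mul, map_zpow, map_zpow, hc, hc', mul_inv_rev, inv_zpow, inv_zpow,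
      ((d.elem.1 _ d.cM _ d.c'M).zpow_zpow i j).inv_inv.eq]
  obtain ⟨⟨y, hy⟩, hgen⟩ := IsCyclic.exists_generator (α := E₁)
  have hy' : ∀ a ∈ E₁, ∃ i : ℤ, y ^ i = a := fun a ha => by
    obtain ⟨i, hi⟩ := mem_zpowers_iff.1 (hgen ⟨a, ha⟩)
    exact ⟨i, congrArg Subtype.val hi⟩
  have hy₂ : y ∉ E₂ := fun h => P.swap.not_le fun a ha => by
    obtain ⟨i, rfl⟩ := hy' a ha
    exact zpow_mem h i
  obtain ⟨e₀, he₀, f₀, hf₀, hef⟩ := (mem_sup_of_normal_left).1
    ((sup_zpowers_eq_top P.s₂.index_eq hy₂).ge (mem_top (β y)))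
  obtain ⟨j, rfl⟩ := mem_zpowers_iff.1 hf₀
  have hyp : y ^ p ∈ D := by
    have h1 : ⟨y, hy⟩ ^ p ∈ D.subgroupOf E₁ := by
      have h2 := (D.subgroupOf E₁).index_mul_card
      rw [Nat.card_congr (subgroupOfEquivOfLe inf_le_left).toEquiv, P.card₁] at h2
      have h3 : (D.subgroupOf E₁).index = p := Nat.eq_of_mul_eq_mul_right Nat.card_pos h2
      rw [← QuotientGroup.eq_one_iff, QuotientGroup.mk_pow, ← h3, Subgroup.index_eq_card]
      exact pow_card_eq_one'
    exact h1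
  have hyp1 : y ^ p ≠ 1 := by
    intro h
    have h1 : orderOf (⟨y, hy⟩ : E₁) ∣ p := orderOf_dvd_of_pow_eq_one (Subtype.ext h)
    rw [orderOf_eq_card_of_forall_mem_zpowers hgen, P.card₁, hDcard] at h1
    have := Nat.le_of_dvd hp.out.pos h1
    nlinarith [hp.out.one_lt]
  have hz : (y ^ p) ^ p = 1 := hDe.2 _ hyp
  have hz1 : (y ^ p) ^ j = (y ^ p)⁻¹ := by
    have hk : ∀ u : G, ⁅y ^ j, e₀⁆ ∈ D ∧ Commute ⁅y ^ j, e₀⁆ u ∧ ⁅y ^ j, e₀⁆ ^ p = 1 := fun u => by
      have hD' : ⁅y ^ j, e₀⁆ ∈ D := P.comm_mem_inf (zpow_mem hy j) he₀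
      exact ⟨hD', (mem_center_iff.1 (hDZ ▸ hD' : ⁅y ^ j, e₀⁆ ∈ Z).1 u).symm, hDe.2 _ hD'⟩
    have h := RankThree.mul_pow_mod hp2 (⊥ : Subgroup G) (x := e₀) (y := y ^ j)
      (mem_bot.2 (commutatorElement_eq_one_iff_commute.2 (hk e₀).2.1))
      (mem_bot.2 (commutatorElement_eq_one_iff_commute.2 (hk (y ^ j)).2.1))
      (mem_bot.2 (hk 1).2.2)
    have h' := inv_mul_eq_one.1 (mem_bot.1 (QuotientGroup.eq.1 h))
    rw [← hinv _ (mem_inf.1 hyp).2, map_pow, ← hef, h', hE₂e.2 e₀ he₀, one_mul, ← zpow_natCast,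
      ← zpow_natCast, ← zpow_mul, ← zpow_mul, mul_comm]
  set w := ⁅y, v⁆ with hw
  have hwD : w ∈ D := P.comm_mem_inf hy hvE
  have hwc : ∀ g : G, Commute g w := fun g => mem_center_iff.1 ((hDZ ▸ hwD : w ∈ Z)).1 g
  have hw1 : w ≠ 1 := by
    intro h
    refine hvD ?_
    have hvcen : v ∈ center G := P.mem_center_of_commute
      (fun a ha => by
        obtain ⟨i, rfl⟩ := hy' a ha
        exact (commutatorElement_eq_one_iff_commute.1 h).zpow_left i) hvc
    rw [hDZ]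
    exact ⟨hvcen, hv1⟩
  have hwj : w ^ j = w := by
    have h1 := hinv w (mem_inf.1 hwD).2
    have h2 : ⁅y ^ j, v⁻¹⁆ = w ^ (-j) := by
      rw [← zpow_neg_one v, comm_zpow_zpow (hwc y) (hwc v), mul_neg, mul_one]
    rw [show β w = ⁅β y, β v⁆ from map_commutatorElement β y v, ← hef, hinv v hvE,
      comm_mul_left_of_central (by rw [h2]; exact (hwc e₀).zpow_right _), h2,
      commutatorElement_eq_one_iff_commute.2 (hE₂e.1 e₀ he₀ _ (inv_mem hvE)), mul_one, zpow_neg,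
      inv_inj] at h1
    exact h1
  have hwp : w ^ p = 1 := hDe.2 _ hwD
  have h1 : (p : ℤ) ∣ j - 1 := by
    by_contra h
    exact hw1 (RankThree.eq_one_of_zpow hwp h (by rw [zpow_sub, hwj, zpow_one, mul_inv_cancel]))
  refine hyp1 (eq_one_of_inv_eq hp2 hz ?_)
  rw [← hz1, RankThree.zpow_congr hz h1, zpow_one]

end Pair

end CfsgLib.Fusion.TwoInvariant
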