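import Cfsg.Agent.Fusion.TwoInvariant.Side

/-!
Transvections of an invariant elementary abelian section, their common fixed line, and an element
inverting the plane spanned by two centres.
-/

set_option autoImplicit false
set_option linter.unusedSectionVars false
set_option linter.style.haveILetI false

open Subgroup
open scoped commutatorElement

namespace CfsgLib.Fusion.TwoInvariant

variable {G : Type*} [Group G] [Finite G] {p : ℕ} [hp : Fact p.Prime] {B : Subgroup (MulAut G)}
  {E : Subgroup G} {X : Type*} [Group X] [Finite X] (s : Side p B E X)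

/-- Commutators with a normal subgroup fall into a normal subgroup of index `p` in it. -/
theorem comm_mem_of_card (hG : IsPGroup p G) {L M : Subgroup G} [L.Normal] [M.Normal] (hLM : L ≤ M)
    (hcard : Nat.card M = p * Nat.card L) {g h : G} (hh : h ∈ M) : ⁅g, h⁆ ∈ L := by
  let π := QuotientGroup.mk' L
  haveI : (M.map π).Normal := Normal.map inferInstance π (QuotientGroup.mk'_surjective L)
  have hc : Nat.card (M.map π) = p := by
    have h1 : (M.map π).index = M.index :=
      index_map_eq M (QuotientGroup.mk'_surjective L) (by rw [QuotientGroup.ker_mk']; exact hLM)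
    have h2 := (M.map π).index_mul_card
    have h3 := M.index_mul_card
    rw [h1, ← Subgroup.index_eq_card] at h2
    have h4 := L.index_mul_card
    rw [← h2, ← h3, hcard, ← mul_assoc, mul_left_inj' Nat.card_pos.ne'] at h4
    exact Nat.eq_of_mul_eq_mul_left (Nat.pos_of_ne_zero M.index_ne_zero_of_finite) h4
  have hz := omegaCenter_le_center (le_omegaCenter (hG.to_quotient L) hc (mem_map_of_mem π hh))
  rw [← QuotientGroup.eq_one_iff]
  show π ⁅g, h⁆ = 1
  rw [map_commutatorElement, commutatorElement_eq_one_iff_mul_comm]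
  exact mem_center_iff.1 hz (π g)

namespace Side

/-- The action on an invariant subgroup. -/
def restrictAct {H : Subgroup G} (hH : s.Inv H) (hle : H ≤ E) : X →* MulAut H where
  toFun x :=
    { toFun := fun b => ⟨s.img x ⟨b, hle b.2⟩, hH x ⟨b, hle b.2⟩ b.2⟩
      invFun := fun b => ⟨s.img x⁻¹ ⟨b, hle b.2⟩, hH x⁻¹ ⟨b, hle b.2⟩ b.2⟩
      left_inv := fun b => Subtype.ext <| by
        show s.img x⁻¹ (s.act x ⟨b, hle b.2⟩) = b
        rw [← img_mul, inv_mul_cancel, img_one]
      right_inv := fun b => Subtype.ext <| by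
        show s.img x (s.act x⁻¹ ⟨b, hle b.2⟩) = b
        rw [← img_mul, mul_inv_cancel, img_one]
      map_mul' := fun b c => Subtype.ext (map_mul (s.img x) ⟨b, hle b.2⟩ ⟨c, hle c.2⟩) }
  map_one' := MulEquiv.ext fun b => Subtype.ext (s.img_one _)
  map_mul' x y := MulEquiv.ext fun b => Subtype.ext (s.img_mul x y _)

theorem restrictAct_apply {H : Subgroup G} (hH : s.Inv H) (hle : H ≤ E) (x : X) (b : H) :
    ((s.restrictAct hH hle x b : H) : G) = s.img x ⟨b, hle b.2⟩ := rfl

theorem restrictAct_conj {H : Subgroup G} (hH : s.Inv H) (hle : H ≤ E) (g : G) (b : H) :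
    ((s.restrictAct hH hle (s.conj g) b : H) : G) = g * b * g⁻¹ := s.img_conj g _

/-- Two transvections with centres `c` and `c'` generating the plane that they span, fixing `C`. -/
structure Trans (M C : Subgroup G) where
  c : G
  c' : G
  g : G
  x : X
  le : M ≤ E
  inv : s.Inv M
  elem : Elem p M
  cE : ∀ e ∈ E, ∀ m ∈ M, Commute e m
  gE : g ∉ E
  cM : c ∈ M
  c'_eq : ∀ h : c ∈ E, s.img x ⟨c, h⟩ = c'
  c_ne : c ≠ 1
  fixc : Commute g c
  comm : ∀ m ∈ M, ⁅g, m⁆ ∈ zpowers c
  move : ¬ Commute g c'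
  move' : ∀ h : c ∈ E, ¬ Commute g (s.img x⁻¹ ⟨c, h⟩)
  C_le : C ≤ M
  C_center : ∀ u ∈ C, ∀ g : G, Commute g u
  C_inv : s.Inv C
  gen : C ⊔ zpowers c ⊔ zpowers c' = M

namespace Trans

variable {s} {M C : Subgroup G} (d : s.Trans M C)

theorem c'M : d.c' ∈ M := by
  rw [← d.c'_eq (d.le d.cM)]
  exact d.inv _ _ d.cM

theorem orderOf_c : orderOf d.c = p := orderOf_eq_of_pow (d.elem.2 _ d.cM) d.c_ne

/-- The conjugation moves `c'` by a power of `c` prime to `p`. -/
theorem exists_exponent : ∃ i : ℤ, ¬ (p : ℤ) ∣ i ∧ d.g * d.c' * d.g⁻¹ = d.c ^ i * d.c' := by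
  obtain ⟨i, hi⟩ := mem_zpowers_iff.1 (d.comm d.c' d.c'M)
  refine ⟨i, fun hd => d.move ?_, by rw [hi, commutatorElement_def, inv_mul_cancel_right]⟩
  rw [← commutatorElement_eq_one_iff_commute, ← hi,
    RankThree.zpow_congr (d.elem.2 _ d.cM) (i := i) (j := 0) (by rwa [sub_zero]), zpow_zero]

/-- An element of the conjugation closure normalising the conjugations, inverting both centres and
fixing `C`. -/
theorem exists_negOne (hG : IsPGroup p G) :
    ∃ n ∈ s.K, n ∈ normalizer (s.conj.range : Set X) ∧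
      (∀ e : E, (e : G) ∈ C → s.img n e = e) ∧
      (∀ e : E, (e : G) = d.c → s.img n e = d.c⁻¹) ∧
      ∀ e : E, (e : G) = d.c' → s.img n e = d.c'⁻¹ := by
  let ρ := s.restrictAct d.inv d.le
  let c : M := ⟨d.c, d.cM⟩
  let c' : M := ⟨d.c', d.c'M⟩
  have hMc : ∀ a b : M, Commute a b := fun a b => Subtype.ext (d.elem.1 _ a.2 _ b.2)
  have hpow : ∀ a : M, a ^ p = 1 := fun a => Subtype.ext (d.elem.2 _ a.2)
  set a := ρ (s.conj d.g) with ha
  set b := ρ (d.x * s.conj d.g * d.x⁻¹) with hb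
  have hac : a c = c := Subtype.ext (by
    rw [ha, restrictAct_conj]
    show d.g * d.c * d.g⁻¹ = d.c
    rw [d.fixc.eq, mul_inv_cancel_right])
  obtain ⟨i, hi, hi'⟩ := d.exists_exponent
  have hac' : a c' = c ^ i * c' := Subtype.ext (by
    rw [ha, restrictAct_conj, Subgroup.coe_mul, SubgroupClass.coe_zpow]; exact hi')
  have hxc : ρ d.x c = c' := Subtype.ext (d.c'_eq _)
  have hbm : ∀ m, b m = ρ d.x (a ((ρ d.x)⁻¹ m)) := fun m => by
    rw [hb, map_mul, map_mul, map_inv]; rfl
  have hxc' : (ρ d.x)⁻¹ c' = c := by rw [← hxc, MulAut.inv_apply_self]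
  have hbc' : b c' = c' := by rw [hbm, hxc', hac, hxc]
  obtain ⟨j, hj, hbc⟩ : ∃ j : ℤ, ¬ (p : ℤ) ∣ j ∧ b c = c' ^ j * c := by
    set w : M := (ρ d.x)⁻¹ c with hw
    obtain ⟨j, hj⟩ := mem_zpowers_iff.1 (d.comm w w.2)
    have haw : a w = c ^ j * w := Subtype.ext (by
      rw [ha, restrictAct_conj, Subgroup.coe_mul, SubgroupClass.coe_zpow, hj, commutatorElement_def,
        inv_mul_cancel_right])
    refine ⟨j, fun hd => d.move' (d.le d.cM) ?_, ?_⟩
    · have hw' : (w : G) = s.img d.x⁻¹ ⟨d.c, d.le d.cM⟩ := by rw [hw, ← map_inv]; rfl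
      rw [← hw', ← commutatorElement_eq_one_iff_commute, ← hj,
        RankThree.zpow_congr (d.elem.2 _ d.cM) (i := j) (j := 0) (by rwa [sub_zero]), zpow_zero]
    · rw [hbm, haw, map_mul, map_zpow, hxc, hw, MulAut.apply_inv_self]
  have hfixC : ∀ u : M, (u : G) ∈ C → a u = u ∧ b u = u := fun u hu => by
    have h1 : ∀ v : M, (v : G) ∈ C → a v = v := fun v hv => Subtype.ext (by
      rw [ha, restrictAct_conj, (d.C_center _ hv d.g).eq, mul_inv_cancel_right])
    refine ⟨h1 u hu, ?_⟩
    rw [hbm, h1 _ ?_, MulAut.apply_inv_self]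
    rw [← map_inv]
    exact d.C_inv _ _ hu
  -- powers
  have hpows : ∀ (f : MulAut M) (u v : M) (e : ℤ), f u = u → f v = u ^ e * v →
      ∀ k : ℕ, (f ^ k) v = u ^ (e * k) * v := by
    intro f u v e hu hv k
    induction k with
    | zero => simp
    | succ k ih =>
      rw [pow_succ', MulAut.mul_apply, ih, map_mul, map_zpow, hu, hv, ← mul_assoc, ← zpow_add,
        Nat.cast_succ, mul_add, mul_one]
  obtain ⟨k, hk⟩ : ∃ k : ℕ, (p : ℤ) ∣ i * k - 1 := by
    obtain ⟨k, hk⟩ := RankThree.solve_mod hi 1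
    refine ⟨(k % p).toNat, ?_⟩
    rw [Int.toNat_of_nonneg (Int.emod_nonneg _ (by exact_mod_cast hp.out.ne_zero)), Int.emod_def]
    obtain ⟨q, hq⟩ := hk
    exact ⟨q - i * (k / p), by linear_combination hq⟩
  obtain ⟨l, hl⟩ : ∃ l : ℕ, (p : ℤ) ∣ j * l + 1 := by
    obtain ⟨l, hl⟩ := RankThree.solve_mod hj (-1)
    refine ⟨(l % p).toNat, ?_⟩
    rw [Int.toNat_of_nonneg (Int.emod_nonneg _ (by exact_mod_cast hp.out.ne_zero)), Int.emod_def]
    obtain ⟨q, hq⟩ := hl
    exact ⟨q - j * (l / p), by linear_combination hq⟩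
  have hA : (a ^ k) c' = c * c' := by
    rw [hpows a c c' i hac hac' k, RankThree.zpow_congr (hpow c) (j := 1) hk, zpow_one]
  have hB : (b ^ l) c = c'⁻¹ * c := by
    rw [hpows b c' c j hbc' hbc l, RankThree.zpow_congr (hpow c') (j := -1) (by simpa using hl),
      zpow_neg_one]
  have hAc : (a ^ k) c = c := by
    have := hpows a c c 0 hac (by rw [zpow_zero, one_mul, hac]) k
    rwa [zero_mul, zpow_zero, one_mul] at this
  have hBc : (b ^ l) c' = c' := by
    have := hpows b c' c' 0 hbc' (by rw [zpow_zero, one_mul, hbc']) l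
    rwa [zero_mul, zpow_zero, one_mul] at this
  set w := a ^ k * b ^ l * a ^ k with hw
  have hwc : w c = c'⁻¹ := by
    rw [hw, MulAut.mul_apply, MulAut.mul_apply, hAc, hB, map_mul, map_inv, hAc, hA, mul_inv_rev,
      inv_mul_cancel_right]
  have hwc' : w c' = c := by
    rw [hw, MulAut.mul_apply, MulAut.mul_apply, hA, map_mul, hB, hBc, (hMc c'⁻¹ c).eq,
      inv_mul_cancel_right, hAc]
  set y : X := (s.conj d.g ^ k * (d.x * s.conj d.g * d.x⁻¹) ^ l * s.conj d.g ^ k) ^ 2 with hy
  have hxg : d.x * s.conj d.g * d.x⁻¹ ∈ s.K :=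
    Normal.conj_mem inferInstance _ (s.conj_mem_K d.g) _
  have hyK : y ∈ s.K := pow_mem (mul_mem (mul_mem (pow_mem (s.conj_mem_K _) _) (pow_mem hxg _))
    (pow_mem (s.conj_mem_K _) _)) _
  have hρy : ρ y = w * w := by
    rw [hy, map_pow, pow_two, map_mul, map_mul, map_pow, map_pow, ← ha, ← hb]
  have hyc : ρ y c = c⁻¹ := by rw [hρy, MulAut.mul_apply, hwc, map_inv, hwc']
  have hyc' : ρ y c' = c'⁻¹ := by rw [hρy, MulAut.mul_apply, hwc', hwc]
  have hyC : ∀ u : M, (u : G) ∈ C → ρ y u = u := by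
    intro u hu
    let F : Subgroup (MulAut M) :=
      { carrier := {f | f u = u}
        one_mem' := rfl
        mul_mem' := fun {f g} hf hg => by
          show f (g u) = u
          rw [hg, hf]
        inv_mem' := fun {f} hf => by
          show f⁻¹ u = u
          conv_lhs => rw [← hf, MulAut.inv_apply_self] }
    have hwF : w ∈ F := mul_mem (mul_mem (pow_mem (hfixC u hu).1 _) (pow_mem (hfixC u hu).2 _))
      (pow_mem (hfixC u hu).1 _)
    rw [hρy]
    exact mul_mem hwF hwF
  -- generators of the plane and `C`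
  have hext : ∀ f f' : M →* M, (∀ u : M, (u : G) ∈ C → f u = f' u) → f c = f' c → f c' = f' c' →
      ∀ m, f m = f' m := by
    intro f f' h1 h2 h3 m
    have hle : C ⊔ zpowers d.c ⊔ zpowers d.c' ≤ (f.eqLocus f').map M.subtype := by
      refine sup_le (sup_le (fun u hu => ⟨⟨u, d.C_le hu⟩, h1 _ hu, rfl⟩) (zpowers_le.2 ?_))
        (zpowers_le.2 ⟨c', h3, rfl⟩)
      exact ⟨c, h2, rfl⟩
    obtain ⟨v, hv, hvm⟩ := hle (d.gen.ge m.2)
    rw [show m = v from Subtype.ext hvm.symm]
    exact hv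
  -- commutation with the conjugations on `M`
  have hcomm : ∀ (g : G) (m : M), ρ y (ρ (s.conj g) m) = ρ (s.conj g) (ρ y m) := by
    intro g
    let T : Subgroup G :=
      { carrier := {g | Commute (ρ (s.conj g)) (ρ y)}
        one_mem' := by
          show Commute (ρ (s.conj 1)) (ρ y)
          rw [map_one, map_one]
          exact Commute.one_left _
        mul_mem' := fun {g h} hg hh => by
          show Commute (ρ (s.conj (g * h))) (ρ y)
          rw [map_mul, map_mul]
          exact Commute.mul_left hg hh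
        inv_mem' := fun {g} hg => by
          show Commute (ρ (s.conj g⁻¹)) (ρ y)
          rw [map_inv, map_inv]
          exact Commute.inv_left hg }
    have hE : E ≤ T := fun e he => by
      have : ρ (s.conj e) = 1 := MulEquiv.ext fun m => Subtype.ext (by
        rw [restrictAct_conj, (d.cE e he _ m.2).eq, mul_inv_cancel_right]; rfl)
      show Commute (ρ (s.conj e)) (ρ y)
      rw [this]
      exact Commute.one_left _
    have hg : d.g ∈ T := by
      show Commute a (ρ y)
      refine MulEquiv.ext (hext (a * ρ y : MulAut M).toMonoidHom (ρ y * a : MulAut M).toMonoidHom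
        (fun u hu => ?_) ?_ ?_)
      · show a (ρ y u) = ρ y (a u)
        rw [hyC u hu, (hfixC u hu).1, hyC u hu]
      · show a (ρ y c) = ρ y (a c)
        rw [hyc, hac, map_inv, hac, hyc]
      · show a (ρ y c') = ρ y (a c')
        rw [hyc', hac', map_inv, hac', map_mul, map_zpow, hyc, hyc', mul_inv_rev, inv_zpow,
          (hMc _ _).eq]
    have hT : (⊤ : Subgroup G) ≤ T := by
      rw [← sup_zpowers_eq_top s.index_eq d.gE]
      exact sup_le hE (zpowers_le.2 hg)
    intro m
    exact (DFunLike.congr_fun (hT (mem_top g) : Commute _ _).eq m).symm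
  -- correct into the normaliser
  set L := s.conj.range ⊔ (ρ.ker ⊓ s.K) with hL
  haveI : (ρ.ker ⊓ s.K).Normal := inferInstance
  have hyL : y ∈ normalizer (L : Set X) := by
    refine mem_normalizer_of_map_le' ?_
    rw [hL, Subgroup.map_sup]
    refine sup_le ?_ (le_trans ?_ le_sup_right)
    · rintro _ ⟨_, ⟨g, rfl⟩, rfl⟩
      have h1 : (s.conj g)⁻¹ * (y * s.conj g * y⁻¹) ∈ ρ.ker ⊓ s.K := by
        refine mem_inf.2 ⟨?_, mul_mem (inv_mem (s.conj_mem_K g))
          (mul_mem (mul_mem hyK (s.conj_mem_K g)) (inv_mem hyK))⟩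
        rw [MonoidHom.mem_ker, map_mul, map_mul, map_mul, map_inv, map_inv, inv_mul_eq_one,
          eq_mul_inv_iff_mul_eq]
        exact MulEquiv.ext fun m => (hcomm g m).symm
      have h2 := mul_mem (mem_sup_left ⟨g, rfl⟩ : s.conj g ∈ s.conj.range ⊔ (ρ.ker ⊓ s.K))
        (mem_sup_right h1)
      rwa [mul_inv_cancel_left] at h2
    · rintro _ ⟨a, ha, rfl⟩
      exact Normal.conj_mem inferInstance a ha y
  obtain ⟨q, hq, hn⟩ := s.exists_normalizer_factor hG L le_sup_left y hyL
  obtain ⟨q₁, hq₁, q₂, hq₂, rfl⟩ := (mem_sup_of_normal_right).1 hq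
  obtain ⟨hq₂ρ, hq₂K⟩ := mem_inf.1 hq₂
  refine ⟨q₁ * ((q₁ * q₂)⁻¹ * y), mul_mem (s.range_le_K hq₁) (mul_mem (inv_mem
    (mul_mem (s.range_le_K hq₁) hq₂K)) hyK), mul_mem (le_normalizer hq₁) hn, ?_⟩
  have hρ : ρ (q₁ * ((q₁ * q₂)⁻¹ * y)) = ρ y := by
    rw [MonoidHom.mem_ker] at hq₂ρ
    rw [map_mul, map_mul, map_inv, map_mul, hq₂ρ, mul_one, mul_inv_cancel_left]
  refine ⟨fun e he => ?_, fun e he => ?_, fun e he => ?_⟩
  · have := congrArg Subtype.val ((DFunLike.congr_fun hρ ⟨e, d.C_le he⟩).trans (hyC _ he))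
    exact this
  · obtain rfl : e = ⟨d.c, d.le d.cM⟩ := Subtype.ext he
    exact congrArg Subtype.val ((DFunLike.congr_fun hρ c).trans hyc)
  · obtain rfl : e = ⟨d.c', d.le d.c'M⟩ := Subtype.ext he
    exact congrArg Subtype.val ((DFunLike.congr_fun hρ c').trans hyc')

end Trans

/-- An invariant plane with a fixed line that moves. -/
theorem exists_trans_plane (hG : IsPGroup p G) {M : Subgroup G} (hle : M ≤ E) (hinv : s.Inv M)
    (helem : Elem p M) (hcard : Nat.card M = p ^ 2) (hcE : ∀ e ∈ E, ∀ m ∈ M, Commute e m)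
    (hmove : ¬ s.Inv (M ⊓ center G)) : Nonempty (s.Trans M ⊥) := by
  have hp1 := hp.out.one_lt
  haveI := hinv.normal hle
  set L := M ⊓ center G with hLdef
  have hLM : L ≤ M := inf_le_left
  have hLlt : L < M := lt_of_le_of_ne hLM fun h => hmove (h.symm ▸ hinv)
  have hL : Nat.card L = p := by
    obtain ⟨k, hk⟩ := exists_card hG L
    have h1 := card_mul_le_of_lt hG hLlt
    rw [hk, hcard, ← pow_succ] at h1
    have hk1 := (Nat.pow_le_pow_iff_right hp1).1 h1
    obtain ⟨z, hz, hzc, hz1⟩ := exists_omegaCenter_mem hG M fun h => by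
      rw [h, card_bot] at hcard
      exact (Nat.one_lt_pow two_ne_zero hp1).ne hcard
    have h2 : p ≤ Nat.card L := prime_le_card hG fun h => hz1 (by
      rw [← mem_bot, ← h]; exact mem_inf.2 ⟨hz, hzc.1⟩)
    rw [hk] at h2 ⊢
    have hk0 : k ≠ 0 := fun h => by rw [h, pow_zero] at h2; omega
    rw [show k = 1 by omega, pow_one]
  obtain ⟨g, -, hg⟩ : ∃ g ∈ (⊤ : Subgroup G), g ∉ E := by
    refine SetLike.exists_of_lt (lt_top_iff_ne_top.2 fun h => ?_)
    have := s.index_eq
    rw [h, index_top] at this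
    exact hp1.ne this
  haveI : Nontrivial L := Finite.one_lt_card_iff_nontrivial.1 (hL.symm ▸ hp1)
  obtain ⟨⟨c, hc⟩, hc1⟩ := exists_ne (1 : L)
  have hc1' : c ≠ 1 := fun h => hc1 (Subtype.ext h)
  have hzc : zpowers c = L := eq_zpowers_of_card_prime hL hc hc1'
  have hcomm : ∀ m ∈ M, ⁅g, m⁆ ∈ zpowers c := fun m hm => by
    rw [hzc]
    haveI : L.Normal := inferInstance
    exact comm_mem_of_card hG hLM (by rw [hcard, hL, pow_two]) hm
  obtain ⟨x, hx⟩ : ∃ x, s.img x ⟨c, hle (hLM hc)⟩ ∉ L := by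
    by_contra h
    push Not at h
    refine hmove fun x e he => ?_
    obtain ⟨i, hi⟩ := mem_zpowers_iff.1 (hzc.ge he)
    rw [show e = (⟨c, hle (hLM hc)⟩ : E) ^ i from Subtype.ext hi.symm, map_zpow]
    exact zpow_mem (h x) i
  have hcen : ∀ m ∈ M, Commute g m → m ∈ L := fun m hm hgm =>
    mem_inf.2 ⟨hm, mem_center_of_index s.index_eq hg (fun e he => hcE e he m hm) hgm⟩
  have hx' : s.img x⁻¹ ⟨c, hle (hLM hc)⟩ ∉ L := by
    intro h
    obtain ⟨i, hi⟩ := mem_zpowers_iff.1 (hzc.ge h)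
    have h1 : s.img x (⟨c, hle (hLM hc)⟩ ^ i) = c := by
      rw [show (⟨c, hle (hLM hc)⟩ : E) ^ i = s.act x⁻¹ ⟨c, hle (hLM hc)⟩ from Subtype.ext hi,
        ← img_mul, mul_inv_cancel, img_one]
    rw [map_zpow] at h1
    have hdi : ¬ (p : ℤ) ∣ i := fun hd => hc1' (by
      rw [← h1, RankThree.zpow_congr (by rw [← map_pow, show (⟨c, hle (hLM hc)⟩ : E) ^ p = 1 from
        Subtype.ext (helem.2 c (hLM hc)), map_one]) (i := i) (j := 0) (by rwa [sub_zero]), zpow_zero])
    obtain ⟨k, hk⟩ := RankThree.solve_mod hdi 1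
    refine hx ?_
    have hxp : s.img x ⟨c, hle (hLM hc)⟩ ^ p = 1 := by
      rw [← map_pow, show (⟨c, hle (hLM hc)⟩ : E) ^ p = 1 from Subtype.ext (helem.2 c (hLM hc)),
        map_one]
    rw [← zpow_one (s.img x _), ← RankThree.zpow_congr hxp hk, zpow_mul, h1]
    exact zpow_mem hc k
  refine ⟨⟨c, _, g, x, hle, hinv, helem, hcE, hg, hLM hc, fun _ => rfl, hc1',
    mem_center_iff.1 (mem_inf.1 hc).2 g, hcomm,
    fun h => hx (hcen _ (hinv x _ (hLM hc)) h),
    fun _ h => hx' (hcen _ (hinv x⁻¹ _ (hLM hc)) h), bot_le,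
    fun u hu g => by rw [mem_bot.1 hu]; exact Commute.one_right g, s.inv_bot, ?_⟩⟩
  rw [bot_sup_eq]
  refine eq_sup_zpowers (p := p) (zpowers_le.2 (hLM hc)) ?_ (hinv x _ (hLM hc)) (by rwa [hzc])
  rw [hzc, hL, hcard, pow_two]

/-- A third-order elementary section with a fixed plane that moves: all moved planes share a line. -/
theorem exists_trans_space (hG : IsPGroup p G) {M : Subgroup G} (hle : M ≤ E) (hinv : s.Inv M)
    (helem : Elem p M) (hcard : Nat.card M = p ^ 3) (hcE : ∀ e ∈ E, ∀ m ∈ M, Commute e m)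
    (hL : Nat.card ↥(M ⊓ center G) = p ^ 2) (hmove : ¬ s.Inv (M ⊓ center G)) :
    ∃ C : Subgroup G, Nat.card C = p ∧ C ≤ M ⊓ center G ∧ Nonempty (s.Trans M C) := by
  have hp1 := hp.out.one_lt
  haveI := hinv.normal hle
  set L := M ⊓ center G with hLdef
  haveI : L.Normal := inferInstance
  have hLM : L ≤ M := inf_le_left
  let ρ := s.restrictAct hinv hle
  let L₀ : Subgroup M := L.subgroupOf M
  have hL₀card : Nat.card L₀ = p ^ 2 := by
    rw [Nat.card_congr (subgroupOfEquivOfLe hLM).toEquiv, hL]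
  obtain ⟨g, -, hg⟩ : ∃ g ∈ (⊤ : Subgroup G), g ∉ E := by
    refine SetLike.exists_of_lt (lt_top_iff_ne_top.2 fun h => ?_)
    have := s.index_eq
    rw [h, index_top] at this
    exact hp1.ne this
  have hcardLM : Nat.card M = p * Nat.card L := by rw [hcard, hL]; ring
  have hcen : ∀ m ∈ M, Commute g m → m ∈ L := fun m hm hgm =>
    mem_inf.2 ⟨hm, mem_center_of_index s.index_eq hg (fun e he => hcE e he m hm) hgm⟩
  obtain ⟨h₀, hh₀, hh₀L⟩ : ∃ h ∈ M, h ∉ L := SetLike.exists_of_lt (lt_of_le_of_ne hLM fun h => by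
    rw [h, hcard] at hL
    exact absurd (Nat.pow_right_injective hp.out.two_le hL) (by norm_num))
  set c₀ := ⁅g, h₀⁆ with hc₀
  have hc₀L : c₀ ∈ L := comm_mem_of_card hG hLM hcardLM hh₀
  have hc₀ne : c₀ ≠ 1 := fun h => hh₀L (hcen _ hh₀ (commutatorElement_eq_one_iff_commute.1 h))
  have hsup : L ⊔ zpowers h₀ = M := eq_sup_zpowers hLM hcardLM hh₀ hh₀L
  let c : M := ⟨c₀, hLM hc₀L⟩
  have hpow : ∀ a : M, a ^ p = 1 := fun a => Subtype.ext (helem.2 _ a.2)
  have hMc : ∀ a b : M, Commute a b := fun a b => Subtype.ext (helem.1 _ a.2 _ b.2)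
  set a := ρ (s.conj g) with ha
  have hafix : ∀ m : M, a m = m ↔ m ∈ L₀ := fun m => by
    rw [mem_subgroupOf]
    constructor
    · intro h
      refine hcen _ m.2 ?_
      have h2 := congrArg Subtype.val h
      rw [ha, restrictAct_conj] at h2
      exact mul_inv_eq_iff_eq_mul.1 h2
    · intro h
      refine Subtype.ext ?_
      rw [ha, restrictAct_conj, mem_center_iff.1 (mem_inf.1 h).2 g, mul_inv_cancel_right]
  have hadisp : ∀ m : M, a m * m⁻¹ ∈ zpowers c := by
    intro m
    let _ : CommGroup M :=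
      { (inferInstance : Group M) with mul_comm := fun u v => (hMc u v).eq }
    let f : M →* M := MonoidHom.mk' (fun v => a v * v⁻¹) fun u v => by
      rw [map_mul, mul_inv, mul_mul_mul_comm]
    have hle' : L ⊔ zpowers h₀ ≤ ((zpowers c).comap f).map M.subtype := by
      refine sup_le (fun u hu => ⟨⟨u, hLM hu⟩, ?_, rfl⟩) (zpowers_le.2 ⟨⟨h₀, hh₀⟩, ?_, rfl⟩)
      · show a _ * _ ∈ zpowers c
        rw [(hafix ⟨u, hLM hu⟩).2 hu, mul_inv_cancel]
        exact one_mem _
      · show a _ * _ ∈ zpowers c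
        convert mem_zpowers c using 1
        refine Subtype.ext ?_
        rw [Subgroup.coe_mul, ha, restrictAct_conj]
        exact (commutatorElement_def g h₀).symm
    obtain ⟨v, hv, hvm⟩ := hle' (hsup.ge m.2)
    rw [show m = v from Subtype.ext hvm.symm]
    exact hv
  have hcL : c ∈ L₀ := hc₀L
  have hcord : orderOf c = p := orderOf_eq_of_pow (hpow c) fun h => hc₀ne (congrArg Subtype.val h)
  -- the image of the conjugations
  have : Finite (MulAut M) := Finite.of_injective _ DFunLike.coe_injective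
  have hap : a ^ p = 1 := MulEquiv.ext fun m => by
    have hac : a c = c := (hafix c).2 hcL
    obtain ⟨e, he⟩ := mem_zpowers_iff.1 (hadisp m)
    have hm : a m = c ^ e * m := by rw [he, inv_mul_cancel_right]
    have : ∀ k : ℕ, (a ^ k) m = c ^ (e * k) * m := by
      intro k
      induction k with
      | zero => simp
      | succ k ih =>
        rw [pow_succ', MulAut.mul_apply, ih, map_mul, map_zpow, hac, hm, ← mul_assoc, ← zpow_add,
          Nat.cast_succ, mul_add, mul_one]
    rw [this p, RankThree.zpow_congr (hpow c) (j := 0) (by simp), zpow_zero, one_mul, MulAut.one_apply]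
  have hane : a ≠ 1 := fun h => hh₀L ((hafix ⟨h₀, hh₀⟩).1 (by rw [h]; rfl))
  have haord : orderOf a = p := orderOf_eq_of_pow hap hane
  have hP : ∀ Q : Subgroup (MulAut M), IsPGroup p Q → zpowers a ≤ Q → Q ≤ ρ.range → Q = zpowers a := by
    intro Q hQp haQ hQr
    have hPI : s.conj.range.map ρ = zpowers a := by
      refine le_antisymm ?_ (zpowers_le.2 ⟨_, ⟨g, rfl⟩, rfl⟩)
      rintro _ ⟨_, ⟨g', rfl⟩, rfl⟩
      have hle' : E ⊔ zpowers g ≤ (zpowers a).comap (ρ.comp s.conj) := by
        refine sup_le (fun e he => mem_comap.2 ?_) (zpowers_le.2 (mem_zpowers a))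
        have : ρ (s.conj e) = 1 := MulEquiv.ext fun m => Subtype.ext (by
          rw [restrictAct_conj, (hcE e he _ m.2).eq, mul_inv_cancel_right]; rfl)
        show ρ (s.conj e) ∈ zpowers a
        rw [this]
        exact one_mem _
      rw [sup_zpowers_eq_top s.index_eq hg] at hle'
      exact hle' (mem_top g')
    let P0 : Subgroup ρ.range := (zpowers a).subgroupOf ρ.range
    have har : zpowers a ≤ ρ.range := haQ.trans hQr
    have e : P0 = s.conj.range.map ρ.rangeRestrict := by
      ext ⟨v, hv⟩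
      simp [P0, ← hPI, mem_subgroupOf, Subtype.ext_iff]
    have hnd : ¬ p ∣ P0.index := by
      rw [e]
      exact fun hd => s.sylow (hd.trans (index_map_dvd _ ρ.rangeRestrict_surjective))
    have hP0 : IsPGroup p P0 := by
      rw [e, MonoidHom.map_range]
      exact IsPGroup.of_surjective hG _ (MonoidHom.rangeRestrict_surjective _)
    have := (hP0.toSylow hnd).is_maximal' (Q := Q.subgroupOf ρ.range)
      (hQp.of_equiv (subgroupOfEquivOfLe hQr).symm) (fun v hv => haQ hv)
    refine le_antisymm (fun v hv => ?_) haQ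
    have h2 : (⟨v, hQr hv⟩ : ρ.range) ∈ Q.subgroupOf ρ.range := hv
    rw [this] at h2
    exact h2
  -- a moved plane through the centre is the fixed one
  let PL : X → Subgroup M := fun x => L₀.map (ρ x).toMonoidHom
  have hPLcard : ∀ x, Nat.card (PL x) = p ^ 2 := fun x => by
    rw [card_map_of_injective (ρ x).injective, hL₀card]
  have hkey : ∀ x, c ∈ PL x → PL x = L₀ := by
    intro x hcx
    set b := ρ x * a * (ρ x)⁻¹ with hb
    have hbfix : ∀ m, b m = m ↔ m ∈ PL x := fun m => by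
      constructor
      · intro h
        refine ⟨(ρ x)⁻¹ m, (hafix _).1 ?_, MulAut.apply_inv_self M (ρ x) m⟩
        refine (ρ x).injective ?_
        rw [MulAut.apply_inv_self]
        exact h
      · rintro ⟨u, hu, rfl⟩
        show ρ x (a ((ρ x)⁻¹ (ρ x u))) = ρ x u
        rw [MulAut.inv_apply_self, (hafix u).2 hu]
    have hbc : b c = c := (hbfix c).2 hcx
    set a'' := b * a * b⁻¹ with ha''
    have hcc : Commute a a'' := by
      refine MulEquiv.ext fun m => ?_
      have hd : ∀ v : M, a'' v * v⁻¹ ∈ zpowers c := fun v => by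
        obtain ⟨e, he⟩ := mem_zpowers_iff.1 (hadisp (b⁻¹ v))
        refine ⟨e, ?_⟩
        have : a (b⁻¹ v) = c ^ e * b⁻¹ v := by rw [he, inv_mul_cancel_right]
        show c ^ e = b (a (b⁻¹ v)) * v⁻¹
        rw [this, map_mul, map_zpow, hbc, MulAut.apply_inv_self, mul_inv_cancel_right]
      have hfixc : ∀ v ∈ zpowers c, a v = v ∧ a'' v = v := by
        rintro _ ⟨e, rfl⟩
        have h1 : a c = c := (hafix c).2 hcL
        have h2 : b⁻¹ c = c := by conv_lhs => rw [← hbc, MulAut.inv_apply_self]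
        exact ⟨by rw [map_zpow, h1], by
          rw [map_zpow, ha'', MulAut.mul_apply, MulAut.mul_apply, h2, h1, hbc]⟩
      obtain ⟨u, hu, hu'⟩ : ∃ u ∈ zpowers c, a m = u * m := ⟨_, hadisp m, (inv_mul_cancel_right _ _).symm⟩
      obtain ⟨v, hv, hv'⟩ : ∃ v ∈ zpowers c, a'' m = v * m := ⟨_, hd m, (inv_mul_cancel_right _ _).symm⟩
      show a (a'' m) = a'' (a m)
      rw [hv', hu', map_mul, map_mul, (hfixc v hv).1, (hfixc u hu).2, hu', hv', ← mul_assoc,
        ← mul_assoc, (hMc v u).eq]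
    have hpa : IsPGroup p (zpowers a) :=
      IsPGroup.of_card (n := 1) (by rw [Nat.card_zpowers, haord, pow_one])
    have hpa'' : IsPGroup p (zpowers a'') := by
      refine IsPGroup.of_card (n := 1) ?_
      rw [Nat.card_zpowers, ha'', ← MulAut.conj_apply, MulEquiv.orderOf_eq, haord, pow_one]
    have hpb : IsPGroup p (zpowers b) := by
      refine IsPGroup.of_card (n := 1) ?_
      rw [Nat.card_zpowers, hb, ← MulAut.conj_apply, MulEquiv.orderOf_eq, haord, pow_one]
    have haρ : a ∈ ρ.range := ⟨_, rfl⟩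
    have hbρ : b ∈ ρ.range := mul_mem (mul_mem ⟨x, rfl⟩ haρ) (inv_mem ⟨x, rfl⟩)
    have h1 := hP _ (hpa.to_sup_of_normal_left' hpa'' ?_) le_sup_left
      (sup_le (zpowers_le.2 haρ) (zpowers_le.2 (mul_mem (mul_mem hbρ haρ) (inv_mem hbρ))))
    swap
    · refine zpowers_le.2 ?_
      refine mem_normalizer_of_map_le' ?_
      rintro _ ⟨_, ⟨e, rfl⟩, rfl⟩
      refine ⟨e, ?_⟩
      show a ^ e = a'' * a ^ e * a''⁻¹
      rw [(hcc.symm.zpow_right e).eq, mul_inv_cancel_right]
    have ha''mem : a'' ∈ zpowers a := h1 ▸ mem_sup_right (mem_zpowers a'')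
    have h2 := hP _ (hpa.to_sup_of_normal_left' hpb ?_) le_sup_left
      (sup_le (zpowers_le.2 haρ) (zpowers_le.2 hbρ))
    swap
    · refine zpowers_le.2 ?_
      refine mem_normalizer_of_map_le' ?_
      rintro _ ⟨_, ⟨e, rfl⟩, rfl⟩
      rw [map_zpow]
      exact zpow_mem ha''mem e
    obtain ⟨e, he⟩ := mem_zpowers_iff.1 (h2 ▸ mem_sup_right (mem_zpowers b) : b ∈ zpowers a)
    refine (eq_of_le_of_card_ge ?_ (by rw [hL₀card, hPLcard])).symm
    intro u hu
    refine (hbfix u).1 ?_
    rw [← he]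
    let F : Subgroup (MulAut M) :=
      { carrier := {f | f u = u}
        one_mem' := rfl
        mul_mem' := fun {f f'} hf hf' => by
          show f (f' u) = u
          rw [hf', hf]
        inv_mem' := fun {f} hf => by
          show f⁻¹ u = u
          conv_lhs => rw [← hf, MulAut.inv_apply_self] }
    exact zpow_mem (show a ∈ F from (hafix u).2 hu) e
  -- a moved plane
  obtain ⟨x, hx⟩ : ∃ x, PL x ≠ L₀ := by
    by_contra h
    push Not at h
    refine hmove fun x e he => ?_
    have h2 : ρ x ⟨e, hLM he⟩ ∈ L₀ := (h x) ▸ mem_map_of_mem _ he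
    exact h2
  have hPLinv : ∀ x m, m ∈ PL x ↔ (ρ x)⁻¹ m ∈ L₀ := fun x m => by
    constructor
    · rintro ⟨u, hu, rfl⟩
      show (ρ x)⁻¹ (ρ x u) ∈ L₀
      rwa [MulAut.inv_apply_self]
    · exact fun h => ⟨_, h, MulAut.apply_inv_self M (ρ x) m⟩
  set c' := ρ x c with hc'
  have hcx : c ∉ PL x := fun h => hx (hkey x h)
  have hc'L : c' ∉ L₀ := fun h => by
    have h2 : c ∈ PL x⁻¹ := by
      rw [hPLinv, map_inv, inv_inv]; exact h
    have h3 := hkey _ h2
    refine hx (le_antisymm ?_ ?_)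
    · rintro _ ⟨u, hu, rfl⟩
      obtain ⟨v, hv, hvu⟩ := h3.ge hu
      show ρ x u ∈ L₀
      rw [← hvu, show (ρ x⁻¹).toMonoidHom v = (ρ x)⁻¹ v from by rw [map_inv]; rfl,
        MulAut.apply_inv_self]
      exact hv
    · intro u hu
      rw [hPLinv]
      have : ρ x⁻¹ u ∈ L₀ := h3 ▸ mem_map_of_mem _ hu
      rwa [map_inv] at this
  set C₀ := L₀ ⊓ PL x with hC₀
  have hML : Nat.card (⊤ : Subgroup M) = p * Nat.card L₀ := by
    rw [card_top, hL₀card, hcard]; ring
  have htop : L₀ ⊔ PL x = ⊤ := by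
    refine top_le_iff.1 (le_of_eq_of_le (eq_sup_zpowers le_top hML (mem_top c') hc'L).symm
      (sup_le le_sup_left (zpowers_le.2 (mem_sup_right ⟨c, hcL, rfl⟩))))
  have hC₀card : Nat.card C₀ = p := by
    haveI : IsMulCommutative M := ⟨⟨fun u v => (hMc u v).eq⟩⟩
    haveI : (PL x).Normal := inferInstance
    have h1 := relIndex_sup_right L₀ (PL x)
    rw [htop, relIndex_top_right] at h1
    have h2 : (PL x).index = p := by
      have := (PL x).index_mul_card
      rw [hPLcard, hcard, show p ^ 3 = p * p ^ 2 by ring] at this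
      exact Nat.eq_of_mul_eq_mul_right (pow_pos hp.out.pos 2) this
    have h3 := (C₀.subgroupOf L₀).index_mul_card
    rw [← relIndex, hC₀, inf_relIndex_left, ← h1, h2,
      Nat.card_congr (subgroupOfEquivOfLe inf_le_left).toEquiv, hL₀card, pow_two] at h3
    exact Nat.eq_of_mul_eq_mul_left hp.out.pos h3
  -- every moved plane contains the common line
  obtain ⟨i, hi, hi'⟩ : ∃ i : ℤ, ¬ (p : ℤ) ∣ i ∧ a c' = c ^ i * c' := by
    obtain ⟨i, hi⟩ := mem_zpowers_iff.1 (hadisp c')
    refine ⟨i, fun hd => hc'L ((hafix _).1 ?_), by rw [hi, inv_mul_cancel_right]⟩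
    rw [show a c' = c ^ i * c' by rw [hi, inv_mul_cancel_right],
      RankThree.zpow_congr (hpow c) (i := i) (j := 0) (by rwa [sub_zero]), zpow_zero, one_mul]
  have hall : ∀ y, C₀ ≤ PL y := by
    intro y
    set Mp := zpowers c ⊔ zpowers c' with hMp
    obtain ⟨m, hmM, hmy, hm1⟩ : ∃ m, m ∈ Mp ∧ m ∈ PL y ∧ m ≠ 1 := by
      by_contra h
      push Not at h
      have hdisj : Mp ⊓ PL y = ⊥ := (Subgroup.eq_bot_iff_forall _).2 fun m hm =>
        h m (mem_inf.1 hm).1 (mem_inf.1 hm).2
      haveI : IsMulCommutative M := ⟨⟨fun u v => (hMc u v).eq⟩⟩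
      have h2 : p ^ 2 ≤ Nat.card Mp := by
        have := card_mul_le_of_lt ((hG.to_subgroup M)) (lt_of_le_of_ne
          (le_sup_left : zpowers c ≤ Mp) fun e => hc'L (zpowers_le.2 hcL
            (e.ge (mem_sup_right (mem_zpowers c')))))
        rwa [Nat.card_zpowers, hcord, ← pow_two] at this
      have h1 : (PL y).relIndex Mp = Nat.card Mp := by
        rw [← inf_relIndex_left, hdisj, relIndex_bot_left]
      have h3 := Nat.le_of_dvd (Nat.pos_of_ne_zero index_ne_zero_of_finite)
        (relIndex_dvd_index_of_normal (PL y) Mp)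
      have h4 := (PL y).index_mul_card
      rw [hPLcard, hcard, show p ^ 3 = p * p ^ 2 by ring] at h4
      rw [h1, Nat.eq_of_mul_eq_mul_right (pow_pos hp.out.pos 2) h4] at h3
      nlinarith
    obtain ⟨e, f, rfl⟩ := exists_zpow_mul (hMc c c') hmM
    by_cases hf : (p : ℤ) ∣ f
    · rw [RankThree.zpow_congr (hpow c') (i := f) (j := 0) (by rwa [sub_zero]), zpow_zero, mul_one]
        at hmy hm1
      have he : ¬ (p : ℤ) ∣ e := fun h => hm1 (by
        rw [RankThree.zpow_congr (hpow c) (i := e) (j := 0) (by rwa [sub_zero]), zpow_zero])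
      obtain ⟨k, hk⟩ := RankThree.solve_mod he 1
      have : c ∈ PL y := by
        rw [← zpow_one c, ← RankThree.zpow_congr (hpow c) hk, zpow_mul]
        exact zpow_mem hmy k
      rw [hkey y this]
      exact inf_le_left
    · -- the centre of a conjugate under a power of the conjugation
      obtain ⟨k, hk⟩ := RankThree.solve_mod (a := i * f)
        (fun h => ((Nat.prime_iff_prime_int.1 hp.out).dvd_or_dvd h).elim hi hf) e
      set z : X := s.conj (g ^ k) * x with hz
      have hρz : ρ z = a ^ k * ρ x := by rw [hz, map_mul, map_zpow, map_zpow]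
      have hak : ∀ (t : ℤ), (a ^ t) c' = c ^ (i * t) * c' := by
        have hac : a c = c := (hafix c).2 hcL
        have hnat : ∀ n : ℕ, (a ^ n) c' = c ^ (i * n) * c' := by
          intro n
          induction n with
          | zero => simp
          | succ n ih =>
            rw [pow_succ', MulAut.mul_apply, ih, map_mul, map_zpow, hac, hi', ← mul_assoc,
              ← zpow_add, Nat.cast_succ, mul_add, mul_one]
        intro t
        have h1 : a ^ t = a ^ (t % p).toNat := by
          rw [← zpow_natCast, Int.toNat_of_nonneg (Int.emod_nonneg _ (by exact_mod_cast hp.out.ne_zero)),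
            RankThree.zpow_congr hap (Int.ModEq.dvd (Int.mod_modEq t p))]
        rw [h1, hnat, RankThree.zpow_congr (hpow c) (j := i * t)]
        rw [Int.toNat_of_nonneg (Int.emod_nonneg _ (by exact_mod_cast hp.out.ne_zero)), ← mul_sub,
          Int.emod_def]
        exact Dvd.dvd.mul_left ⟨-(t / p), by ring⟩ i
      have hzc : ρ z (c ^ f) = c ^ e * c' ^ f := by
        rw [hρz, map_zpow, MulAut.mul_apply, ← hc', hak, (hMc (c ^ (i * k)) c').mul_zpow, ← zpow_mul,
          RankThree.zpow_congr (hpow c) (i := i * k * f) (j := e)]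
        obtain ⟨q, hq⟩ := hk
        exact ⟨q, by linear_combination hq⟩
      have h2 : c ∈ PL (z⁻¹ * y) := by
        rw [hPLinv, map_mul, map_inv, mul_inv_rev, inv_inv, MulAut.mul_apply]
        have h3 : (ρ y)⁻¹ (ρ z (c ^ f)) ∈ L₀ := by rw [hzc]; exact (hPLinv y _).1 hmy
        rw [map_zpow, map_zpow] at h3
        obtain ⟨k', hk'⟩ := RankThree.solve_mod hf 1
        have hwp : ((ρ y)⁻¹ (ρ z c)) ^ p = 1 := hpow _
        rw [← zpow_one ((ρ y)⁻¹ (ρ z c)), ← RankThree.zpow_congr hwp hk', zpow_mul]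
        exact zpow_mem h3 k'
      have h4 := hkey _ h2
      intro u hu
      obtain ⟨hu1, hu2⟩ := mem_inf.1 hu
      rw [hPLinv]
      have h5 : (ρ z)⁻¹ u ∈ L₀ := by
        rw [hρz, mul_inv_rev, MulAut.mul_apply]
        have : (a ^ k)⁻¹ u = u := by
          let F : Subgroup (MulAut M) :=
            { carrier := {f | f u = u}
              one_mem' := rfl
              mul_mem' := fun {f f'} hf hf' => by
                show f (f' u) = u
                rw [hf', hf]
              inv_mem' := fun {f} hf => by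
                show f⁻¹ u = u
                conv_lhs => rw [← hf, MulAut.inv_apply_self] }
          exact inv_mem (zpow_mem (show a ∈ F from (hafix u).2 hu1) k)
        rw [this]
        exact (hPLinv x u).1 hu2
      rw [← h4, hPLinv, map_mul, map_inv, mul_inv_rev, inv_inv, MulAut.mul_apply,
        MulAut.apply_inv_self] at h5
      exact h5
  -- assemble
  set C := C₀.map M.subtype with hC
  have hCL : C ≤ L := by
    rintro _ ⟨u, hu, rfl⟩
    exact (mem_inf.1 hu).1
  refine ⟨C, ?_, hCL, ⟨⟨c₀, c', g, x, hle, hinv, helem, hcE, hg, hLM hc₀L, fun _ => rfl, hc₀ne,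
    mem_center_iff.1 (mem_inf.1 hc₀L).2 g, ?_, fun h => hc'L (hcen _ c'.2 h), ?_,
    map_subtype_le _, fun u hu g => mem_center_iff.1 (mem_inf.1 (hCL hu)).2 g, ?_, ?_⟩⟩⟩
  · rw [hC, card_map_of_injective M.subtype_injective, hC₀card]
  · intro m hm
    obtain ⟨e, he⟩ := mem_zpowers_iff.1 (hadisp ⟨m, hm⟩)
    refine ⟨e, ?_⟩
    have h2 := congrArg Subtype.val he
    rw [SubgroupClass.coe_zpow, Subgroup.coe_mul, ha, restrictAct_conj] at h2
    exact h2
  · intro h hcomm
    have h2 : ρ x⁻¹ c ∈ L₀ := hcen _ (ρ x⁻¹ c).2 hcomm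
    rw [map_inv, ← hPLinv] at h2
    exact hcx h2
  · rintro y e ⟨u, hu, hue⟩
    have h1 : (ρ y u : M) ∈ C₀ := by
      refine mem_inf.2 ⟨?_, ?_⟩
      · have := (hPLinv y⁻¹ u).1 (hall y⁻¹ hu)
        rwa [map_inv, inv_inv] at this
      · have := (hPLinv (y⁻¹ * x) u).1 (hall _ hu)
        rw [map_mul, map_inv, mul_inv_rev, inv_inv, MulAut.mul_apply] at this
        exact (hPLinv x _).2 this
    refine ⟨ρ y u, h1, ?_⟩
    show s.img y ⟨u, hle u.2⟩ = s.img y e
    exact congrArg (s.img y) (Subtype.ext hue)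
  · have h1 : C₀ ⊔ zpowers c = L₀ := eq_sup_zpowers inf_le_left
      (by rw [hL₀card, hC₀card, pow_two]) hcL fun h => hcx (mem_inf.1 h).2
    have h2 : L₀ ⊔ zpowers c' = ⊤ := eq_sup_zpowers le_top hML (mem_top c') hc'L
    have := congrArg (Subgroup.map M.subtype) (show C₀ ⊔ zpowers c ⊔ zpowers c' = ⊤ by rw [h1, h2])
    rw [Subgroup.map_sup, Subgroup.map_sup, MonoidHom.map_zpowers, MonoidHom.map_zpowers,
      ← MonoidHom.range_eq_map, Subgroup.range_subtype] at this
    exact this

end Side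

end CfsgLib.Fusion.TwoInvariant
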