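import Cfsg.Agent.Fusion.TwoInvariant.Classify
import Cfsg.Agent.Fusion.RankThree.Chain

/-!
Sides modulo an invariant subgroup.
-/

set_option autoImplicit false
set_option linter.unusedSectionVars false
set_option linter.style.haveILetI false

open Subgroup
open scoped commutatorElement

namespace CfsgLib.Fusion.TwoInvariant

variable {G : Type*} [Group G] [Finite G] {p : ℕ} [hp : Fact p.Prime] {B : Subgroup (MulAut G)}

/-- The members of `B` seen modulo a subgroup that they fix. -/
noncomputable def quotHom {T : Subgroup G} [T.Normal] (hT : BInv B T) : B →* MulAut (G ⧸ T) :=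
  MonoidHom.mk' (fun β => QuotientGroup.congr T T (β : MulAut G) (hT.eq β.2))
    fun β γ => MulEquiv.ext fun v => by
      induction v using QuotientGroup.induction_on with
      | H v => rfl

theorem quotHom_apply {T : Subgroup G} [T.Normal] (hT : BInv B T) (β : B) (g : G) :
    quotHom hT β (QuotientGroup.mk' T g) = QuotientGroup.mk' T ((β : MulAut G) g) := rfl

variable {E : Subgroup G} {X : Type*} [Group X] [Finite X] (s : Side p B E X)

namespace Side

variable {T : Subgroup G} [T.Normal]

/-- The projection of `E`. -/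
abbrev projE (E T : Subgroup G) [T.Normal] : E →* G ⧸ T := (QuotientGroup.mk' T).comp E.subtype

theorem projE_range (E T : Subgroup G) [T.Normal] :
    (projE E T).range = E.map (QuotientGroup.mk' T) := by
  rw [MonoidHom.range_comp, Subgroup.range_subtype]

theorem map_ker_eq (hT : s.Inv T) (x : X) :
    (projE E T).ker.map (s.act x).toMonoidHom = (projE E T).ker := by
  have hk : ∀ e : E, e ∈ (projE E T).ker ↔ (e : G) ∈ T := fun e => by
    rw [MonoidHom.mem_ker]; exact QuotientGroup.eq_one_iff _
  ext e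
  constructor
  · rintro ⟨d, hd, rfl⟩
    exact (hk _).2 (hT x d ((hk d).1 hd))
  · intro he
    refine ⟨s.act x⁻¹ e, (hk _).2 (hT x⁻¹ e ((hk e).1 he)), ?_⟩
    show s.act x (s.act x⁻¹ e) = e
    rw [map_inv, MulAut.apply_inv_self]

/-- The action on the image of `E`. -/
noncomputable def quotAct (hT : s.Inv T) : X →* MulAut (projE E T).range :=
  (MulAut.congr (QuotientGroup.quotientKerEquivRange (projE E T))).toMonoidHom.comp
    (MonoidHom.mk' (fun x => QuotientGroup.congr _ _ (s.act x) (s.map_ker_eq hT x)) fun x y =>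
      MulEquiv.ext fun v => by
        induction v using QuotientGroup.induction_on with
        | H v =>
          show QuotientGroup.mk _ = QuotientGroup.mk _
          rw [map_mul]
          rfl)

theorem quotAct_apply (hT : s.Inv T) (x : X) (e : E) :
    ((s.quotAct hT x ⟨projE E T e, e, rfl⟩ : (projE E T).range) : G ⧸ T) = projE E T (s.act x e) := by
  set φ := QuotientGroup.quotientKerEquivRange (projE E T)
  have h : φ (QuotientGroup.mk e) = ⟨projE E T e, e, rfl⟩ := rfl
  rw [← h]
  show ((φ (QuotientGroup.congr _ _ (s.act x) (s.map_ker_eq hT x) (φ.symm (φ (QuotientGroup.mk e)))) :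
    (projE E T).range) : G ⧸ T) = _
  rw [MulEquiv.symm_apply_apply]
  rfl

theorem quotAct_conj (hT : s.Inv T) (g : G) (e : E) :
    ((s.quotAct hT (s.conj g) ⟨projE E T e, e, rfl⟩ : (projE E T).range) : G ⧸ T) =
      QuotientGroup.mk' T g * projE E T e * (QuotientGroup.mk' T g)⁻¹ := by
  rw [quotAct_apply]
  show QuotientGroup.mk' T ((s.act (s.conj g) e : E) : G) = _
  rw [s.conj_spec, map_mul, map_mul, map_inv]
  rfl

/-- The conjugations in the image of the action on the image of `E`. -/
noncomputable def quotConj (hT : s.Inv T) : G ⧸ T →* (s.quotAct hT).range :=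
  QuotientGroup.lift T ((s.quotAct hT).rangeRestrict.comp s.conj) fun t ht => by
    refine MonoidHom.mem_ker.2 (Subtype.ext (MulEquiv.ext fun v => ?_))
    obtain ⟨v, e, rfl⟩ := v
    refine Subtype.ext ?_
    show ((s.quotAct hT (s.conj t) ⟨projE E T e, e, rfl⟩ : (projE E T).range) : G ⧸ T) = projE E T e
    rw [quotAct_conj, show QuotientGroup.mk' T t = 1 from (QuotientGroup.eq_one_iff t).2 ht, one_mul,
      inv_one, mul_one]

theorem quotConj_mk (hT : s.Inv T) (g : G) :
    s.quotConj hT (QuotientGroup.mk' T g) = (s.quotAct hT).rangeRestrict (s.conj g) := rfl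

theorem quotConj_range (hT : s.Inv T) :
    (s.quotConj hT).range = s.conj.range.map (s.quotAct hT).rangeRestrict := by
  rw [MonoidHom.map_range]
  ext v
  constructor
  · rintro ⟨w, rfl⟩
    obtain ⟨g, rfl⟩ := QuotientGroup.mk'_surjective T w
    exact ⟨g, rfl⟩
  · rintro ⟨g, rfl⟩
    exact ⟨QuotientGroup.mk' T g, rfl⟩

/-- A side modulo an invariant subgroup. -/
noncomputable def quot (hG : IsPGroup p G) (hT : s.Inv T) (hle : T ≤ E) :
    Side p (quotHom (hT.binv hle)).range (projE E T).range (s.quotAct hT).range where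
  act := (s.quotAct hT).range.subtype
  conj := s.quotConj hT
  conj_spec v w := by
    obtain ⟨g, rfl⟩ := QuotientGroup.mk'_surjective T v
    obtain ⟨w, e, rfl⟩ := w
    exact s.quotAct_conj hT g e
  index_eq := by
    rw [projE_range, index_map_eq E (QuotientGroup.mk'_surjective T)
      (by rw [QuotientGroup.ker_mk']; exact hle), s.index_eq]
  normal := by
    rw [projE_range]
    exact s.normal.map _ (QuotientGroup.mk'_surjective T)
  sylow := by
    rw [quotConj_range]
    exact fun hd => s.sylow (hd.trans (index_map_dvd _ (MonoidHom.rangeRestrict_surjective _)))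
  ext v hv := by
    obtain ⟨x, rfl⟩ := (s.quotAct hT).rangeRestrict_surjective v
    set f := (s.quotAct hT).rangeRestrict with hf
    set L := s.conj.range ⊔ f.ker
    have hx : x ∈ normalizer (L : Set X) := by
      refine mem_normalizer_of_map_le' ?_
      rintro _ ⟨a, ha, rfl⟩
      have h1 : f (x * a * x⁻¹) ∈ (s.quotConj hT).range := by
        rw [map_mul, map_mul, map_inv]
        refine (mem_normalizer_iff.1 hv _).1 ?_
        rw [quotConj_range]
        obtain ⟨a₁, ha₁, a₂, ha₂, rfl⟩ := (mem_sup_of_normal_right).1 ha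
        refine ⟨a₁, ha₁, ?_⟩
        rw [map_mul, MonoidHom.mem_ker.1 ha₂, mul_one]
      rw [quotConj_range] at h1
      obtain ⟨b, hb, hbe⟩ := h1
      have h2 : b⁻¹ * (x * a * x⁻¹) ∈ f.ker := by
        rw [MonoidHom.mem_ker, map_mul, map_inv, hbe, inv_mul_cancel]
      have h3 := mul_mem (mem_sup_left hb : b ∈ L) (mem_sup_right h2)
      rwa [mul_inv_cancel_left] at h3
    obtain ⟨q, hq, hn⟩ := s.exists_normalizer_factor hG L le_sup_left x hx
    obtain ⟨β, hβ, hβn⟩ := s.ext _ hn
    obtain ⟨a₁, ha₁, a₂, ha₂, rfl⟩ := (mem_sup_of_normal_right).1 hq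
    obtain ⟨g, rfl⟩ := ha₁
    refine ⟨quotHom (hT.binv hle) ⟨MulAut.conj g * β, mul_mem (s.conj_mem g) hβ⟩, ⟨_, rfl⟩, ?_⟩
    rintro ⟨w, e, rfl⟩
    have hfx : f x = f (s.conj g * ((s.conj g * a₂)⁻¹ * x)) := by
      rw [map_mul, map_mul, map_inv, map_mul, MonoidHom.mem_ker.1 ha₂, mul_one, mul_inv_cancel_left]
    show quotHom (hT.binv hle) ⟨MulAut.conj g * β, _⟩ (QuotientGroup.mk' T (e : G)) =
      (((f x : (s.quotAct hT).range) : MulAut (projE E T).range) ⟨projE E T e, e, rfl⟩ :
        (projE E T).range)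
    rw [hfx, quotHom_apply]
    show _ = ((s.quotAct hT (s.conj g * ((s.conj g * a₂)⁻¹ * x)) ⟨projE E T e, e, rfl⟩ :
      (projE E T).range) : G ⧸ T)
    rw [quotAct_apply]
    show QuotientGroup.mk' T (g * β e * g⁻¹) = QuotientGroup.mk' T ((s.act _ e : E) : G)
    rw [map_mul s.act, MulAut.mul_apply, s.conj_spec, hβn]
  res := by
    rintro _ ⟨⟨β, hβ⟩, rfl⟩
    obtain ⟨x, hx⟩ := s.res β hβ
    refine ⟨(s.quotAct hT).rangeRestrict x, ?_⟩
    rintro ⟨w, e, rfl⟩
    show quotHom (hT.binv hle) ⟨β, hβ⟩ (QuotientGroup.mk' T (e : G)) =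
      ((s.quotAct hT x ⟨projE E T e, e, rfl⟩ : (projE E T).range) : G ⧸ T)
    rw [quotHom_apply, quotAct_apply]
    exact congrArg _ (hx e)
  conj_mem v := by
    obtain ⟨g, rfl⟩ := QuotientGroup.mk'_surjective T v
    refine ⟨⟨MulAut.conj g, s.conj_mem g⟩, MulEquiv.ext fun w => ?_⟩
    obtain ⟨h, rfl⟩ := QuotientGroup.mk'_surjective T w
    rfl

theorem quot_img (hG : IsPGroup p G) (hT : s.Inv T) (hle : T ≤ E) (x : X) (e : E) :
    (s.quot hG hT hle).img ((s.quotAct hT).rangeRestrict x) ⟨projE E T e, e, rfl⟩ =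
      QuotientGroup.mk' T (s.img x e) :=
  s.quotAct_apply hT x e

/-- Invariance modulo `T`. -/
theorem quot_inv_iff (hG : IsPGroup p G) (hT : s.Inv T) (hle : T ≤ E) {H : Subgroup G} (hTH : T ≤ H) :
    (s.quot hG hT hle).Inv (H.map (QuotientGroup.mk' T)) ↔ s.Inv H := by
  have hmem : ∀ g : G, QuotientGroup.mk' T g ∈ H.map (QuotientGroup.mk' T) ↔ g ∈ H := fun g => by
    rw [← mem_comap, comap_map_eq, QuotientGroup.ker_mk', sup_eq_left.2 hTH]
  constructor
  · intro h x e he
    have h2 := h ((s.quotAct hT).rangeRestrict x) ⟨projE E T e, e, rfl⟩ ((hmem e).2 he)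
    rw [quot_img] at h2
    exact (hmem _).1 h2
  · intro h v w hw
    obtain ⟨x, rfl⟩ := (s.quotAct hT).rangeRestrict_surjective v
    obtain ⟨w, e, rfl⟩ := w
    rw [quot_img]
    exact (hmem _).2 (h x e ((hmem e).1 hw))

/-- An element of the conjugation closure gives one modulo `T`, and conversely. -/
theorem quot_K (hG : IsPGroup p G) (hT : s.Inv T) (hle : T ≤ E) :
    (s.quot hG hT hle).K = s.K.map (s.quotAct hT).rangeRestrict := by
  have h : (s.quot hG hT hle).conj = s.quotConj hT := rfl
  unfold Side.K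
  rw [h, quotConj_range, Subgroup.coe_map,
    ← map_normalClosure _ _ (MonoidHom.rangeRestrict_surjective (s.quotAct hT))]

end Side

end CfsgLib.Fusion.TwoInvariant
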