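import Cfsg.Agent.Fusion.TwoInvariant.Setup

/-!
An invariant subgroup on which the group of a linear configuration acts trivially modulo the Frattini
subgroup is central.
-/

set_option autoImplicit false
set_option linter.unusedSectionVars false
set_option linter.style.haveILetI false

open Subgroup
open scoped commutatorElement

namespace CfsgLib.Fusion.TwoInvariant

variable {G : Type*} [Group G] [Finite G] {p : ℕ} [hp : Fact p.Prime] {B B₁ B₂ : Subgroup (MulAut G)}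
  {E₁ E₂ : Subgroup G} {X₁ X₂ : Type*} [Group X₁] [Group X₂] [Finite X₁] [Finite X₂]

namespace Side

variable {E : Subgroup G} {X : Type*} [Group X] [Finite X] (s : Side p B E X)

theorem img_congr {e e' : E} (h : (e : G) = e') (x : X) : s.img x e = s.img x e' := by
  rw [Subtype.ext h]

/-- An element fixing `T` and inverting `E` modulo `T`. -/
theorem exists_inverting (hG : IsPGroup p G) (hp2 : p ≠ 2) {T : Subgroup G} [T.Normal] (hTi : s.Inv T)
    (hTE : T ≤ E) (hfd : FD p E ≤ T) (hcard : Nat.card E = p ^ 2 * Nat.card T)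
    (hnot : ¬ s.Inv (central E T)) (hK : ∀ g : G, ∀ t ∈ T, ⁅g, t⁆ ∈ FD p T) :
    ∃ n ∈ normalizer (s.conj.range : Set X), (∀ e : E, (e : G) ∈ T → s.img n e = e) ∧
      ∀ e : E, s.img n e * (e : G) ∈ T := by
  set π := QuotientGroup.mk' T with hπ
  set σ := s.quot hG hTi hTE
  set f := (s.quotAct hTi).rangeRestrict with hf
  set M := (projE E T).range with hM
  have hME : M = E.map π := projE_range E T
  have helem : Elem p M := hME ▸ elem_map_FD E hfd
  have hMc : Nat.card M = p ^ 2 := by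
    have h := card_eq_card_map_mul hTE
    rw [hcard, ← hπ, ← hME] at h
    exact (Nat.eq_of_mul_eq_mul_right Nat.card_pos h).symm
  have hcen : M ⊓ center (G ⧸ T) = (central E T).map π := by
    ext v
    constructor
    · intro hv
      obtain ⟨hv1, hv2⟩ := mem_inf.1 hv
      rw [hME] at hv1
      obtain ⟨e, he, rfl⟩ := hv1
      exact mem_map_of_mem π (mem_inf.2 ⟨he, hv2⟩)
    · rintro ⟨e, he, rfl⟩
      exact mem_inf.2 ⟨hME ▸ mem_map_of_mem π (mem_inf.1 he).1, (mem_inf.1 he).2⟩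
  obtain ⟨d⟩ := σ.exists_trans_plane (hG.to_quotient T) (M := M) le_rfl σ.inv_self helem hMc
    (fun e he m hm => helem.1 e he m hm) (by
      rw [hcen]
      exact fun h => hnot ((s.quot_inv_iff hG hTi hTE (le_central hTE)).1 h))
  obtain ⟨v, hvK, hvN, -, hvc, hvc'⟩ := d.exists_negOne (hG.to_quotient T)
  rw [s.quot_K hG hTi hTE] at hvK
  obtain ⟨k, hkK, rfl⟩ := hvK
  -- a lift in the normaliser and in the conjugation closure
  set L := s.conj.range ⊔ (f.ker ⊓ s.K) with hL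
  haveI : (f.ker ⊓ s.K).Normal := Subgroup.normal_inf_normal _ _
  have hqc : (s.quotConj hTi).range = s.conj.range.map f := s.quotConj_range hTi
  have hkL : k ∈ normalizer (L : Set X) := by
    refine mem_normalizer_of_map_le' ?_
    rintro _ ⟨a, ha, rfl⟩
    obtain ⟨a₁, ha₁, a₂, ha₂, rfl⟩ := (mem_sup_of_normal_right).1 ha
    have haK : a₁ * a₂ ∈ s.K := mul_mem (s.range_le_K ha₁) (mem_inf.1 ha₂).2
    have h1 : f (k * (a₁ * a₂) * k⁻¹) ∈ s.conj.range.map f := by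
      rw [map_mul, map_mul, map_inv, ← hqc]
      refine (mem_normalizer_iff.1 hvN _).1 ?_
      show f (a₁ * a₂) ∈ (s.quotConj hTi).range
      rw [hqc, map_mul, MonoidHom.mem_ker.1 (mem_inf.1 ha₂).1, mul_one]
      exact mem_map_of_mem f ha₁
    obtain ⟨b, hb, hbe⟩ := h1
    have h2 : b⁻¹ * (k * (a₁ * a₂) * k⁻¹) ∈ f.ker ⊓ s.K := mem_inf.2
      ⟨by rw [MonoidHom.mem_ker, map_mul, map_inv, hbe, inv_mul_cancel],
        mul_mem (inv_mem (s.range_le_K hb)) (mul_mem (mul_mem hkK haK) (inv_mem hkK))⟩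
    have h3 := mul_mem (mem_sup_left hb : b ∈ L) (mem_sup_right h2)
    rwa [mul_inv_cancel_left] at h3
  obtain ⟨q, hq, hn⟩ := s.exists_normalizer_factor hG L le_sup_left k hkL
  obtain ⟨q₁, hq₁, q₂, hq₂, rfl⟩ := (mem_sup_of_normal_right).1 hq
  set n := q₁ * ((q₁ * q₂)⁻¹ * k) with hndef
  have hnN : n ∈ normalizer (s.conj.range : Set X) := mul_mem (le_normalizer hq₁) hn
  have hnK : n ∈ s.K := mul_mem (s.range_le_K hq₁)
    (mul_mem (inv_mem (mul_mem (s.range_le_K hq₁) (mem_inf.1 hq₂).2)) hkK)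
  have hfn : f n = f k := by
    rw [hndef, map_mul, map_mul, map_inv, map_mul, MonoidHom.mem_ker.1 (mem_inf.1 hq₂).1, mul_one,
      mul_inv_cancel_left]
  -- inversion modulo `T`
  have hinv : ∀ e : E, s.img n e * (e : G) ∈ T := by
    intro e
    let θ : M →* G ⧸ T := σ.img (f n)
    have hθ : ∀ w : M, θ w = (w : G ⧸ T)⁻¹ := by
      intro w
      let I : Subgroup (G ⧸ T) :=
        { carrier := {u | ∃ h : u ∈ M, θ ⟨u, h⟩ = u⁻¹}
          one_mem' := ⟨one_mem M, by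
            rw [show (⟨1, one_mem M⟩ : M) = 1 from rfl, map_one, inv_one]⟩
          mul_mem' := fun {a b} ha hb => by
            obtain ⟨ha, ea⟩ := ha
            obtain ⟨hb, eb⟩ := hb
            refine ⟨mul_mem ha hb, ?_⟩
            rw [show (⟨a * b, mul_mem ha hb⟩ : M) = ⟨a, ha⟩ * ⟨b, hb⟩ from rfl, map_mul, ea, eb,
              mul_inv_rev]
            exact (helem.1 _ (inv_mem ha) _ (inv_mem hb)).eq
          inv_mem' := fun {a} ha => by
            obtain ⟨ha, ea⟩ := ha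
            refine ⟨inv_mem ha, ?_⟩
            rw [show (⟨a⁻¹, inv_mem ha⟩ : M) = ⟨a, ha⟩⁻¹ from rfl, map_inv, ea] }
      have hle : M ≤ I := by
        rw [← d.gen, bot_sup_eq]
        refine sup_le (zpowers_le.2 ⟨d.cM, ?_⟩) (zpowers_le.2 ⟨d.c'M, ?_⟩)
        · show σ.img (f n) ⟨d.c, d.cM⟩ = d.c⁻¹
          rw [hfn]; exact hvc _ rfl
        · show σ.img (f n) ⟨d.c', d.c'M⟩ = d.c'⁻¹
          rw [hfn]; exact hvc' _ rfl
      obtain ⟨_, hw⟩ := hle w.2
      exact hw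
    have h := hθ ⟨projE E T e, e, rfl⟩
    have h2 : θ ⟨projE E T e, e, rfl⟩ = π (s.img n e) := s.quot_img hG hTi hTE n e
    rw [h2] at h
    rw [← QuotientGroup.eq_one_iff]
    show π (s.img n e * (e : G)) = 1
    rw [map_mul, h]
    exact inv_mul_cancel _
  -- on `T` it is trivial modulo the Frattini subgroup
  set N := FD p T with hNdef
  have hNi : s.Inv N := hTi.fd hTE
  have hNE : N ≤ E := (FD_le T).trans hTE
  haveI := hNi.normal hNE
  set τ := s.quot hG hNi hNE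
  have hfix : ∀ e : E, (e : G) ∈ T → s.img n e * (e : G)⁻¹ ∈ N := by
    intro e he
    have hk' : (s.quotAct hNi).rangeRestrict n ∈ τ.K := by
      rw [s.quot_K hG hNi hNE]; exact mem_map_of_mem _ hnK
    have h := τ.K_fixes ((s.quot_inv_iff hG hNi hNE (FD_le T)).2 hTi) (fun w u hu => by
      obtain ⟨g, rfl⟩ := QuotientGroup.mk'_surjective N w
      obtain ⟨t, ht, rfl⟩ := hu
      rw [← commutatorElement_eq_one_iff_commute, ← map_commutatorElement]
      exact (QuotientGroup.eq_one_iff _).2 (hK g t ht)) _ hk' ⟨projE E N e, e, rfl⟩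
      (mem_map_of_mem (QuotientGroup.mk' N) he)
    rw [s.quot_img hG hNi hNE] at h
    rw [← QuotientGroup.eq_one_iff]
    show QuotientGroup.mk' N (s.img n e * (e : G)⁻¹) = 1
    rw [map_mul, h, map_inv]
    exact mul_inv_cancel _
  set ρ := s.restrictAct hTi hTE with hρ
  have hTp := hG.to_subgroup T
  have hmem : ρ n ∈ CfsgLib.MetacyclicAut.frattiniKernel T := fun t => by
    have h := hfix ⟨t, hTE t.2⟩ t.2
    rw [hNdef, ← map_frattini_eq_FD hG] at h
    obtain ⟨w, hw, hwe⟩ := h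
    rwa [show ρ n t * t⁻¹ = w from Subtype.ext hwe.symm]
  obtain ⟨j, hj⟩ := CfsgLib.MetacyclicAut.isPGroup_frattiniKernel hTp ⟨_, hmem⟩
  have hj' : ρ (n ^ p ^ j) = 1 := by
    rw [map_pow]; exact congrArg Subtype.val hj
  have hodd : Odd (p ^ j) := (hp.out.eq_two_or_odd'.resolve_left hp2).pow
  refine ⟨n ^ p ^ j, pow_mem hnN _, fun e he => ?_, fun e => ?_⟩
  · exact congrArg (fun t : T => (t : G)) (DFunLike.congr_fun hj' ⟨e, he⟩)
  · have key : ∀ m : ℕ, ∀ w : E, π (s.img (n ^ m) w) = π (w : G) ^ ((-1 : ℤ) ^ m) := by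
      intro m
      induction m with
      | zero => intro w; rw [pow_zero, Side.img_one, pow_zero, zpow_one]
      | succ m ih =>
        intro w
        have h1 : π (s.img n w) = (π (w : G))⁻¹ := eq_inv_of_mul_eq_one_left (by
          rw [← map_mul]; exact (QuotientGroup.eq_one_iff _).2 (hinv w))
        rw [pow_succ, Side.img_mul, ih]
        show π (s.img n w) ^ ((-1 : ℤ) ^ m) = _
        rw [h1, inv_zpow, ← zpow_neg, pow_succ, mul_neg_one]
    rw [← QuotientGroup.eq_one_iff]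
    show π (s.img (n ^ p ^ j) e * (e : G)) = 1
    rw [map_mul, key, hodd.neg_one_pow, zpow_neg_one]
    exact inv_mul_cancel _

end Side

namespace Setup

variable (P : Setup p B₁ B₂ E₁ E₂ X₁ X₂)

include P in
theorem mem_center_of_commute' {z : G} (h₁ : ∀ a ∈ E₁, Commute a z) (h₂ : ∀ a ∈ E₂, Commute a z) :
    z ∈ Subgroup.center G := by
  obtain ⟨g, hg, hg'⟩ := P.exists_mem
  exact mem_center_of_index P.s₁.index_eq hg' h₁ (h₂ g hg)

/-- The data of a linear configuration over an invariant subgroup. -/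
structure TriTop (T : Subgroup G) : Prop where
  le : T ≤ E₁ ⊓ E₂
  inv₁ : P.s₁.Inv T
  inv₂ : P.s₂.Inv T
  cardD : Nat.card ↥(E₁ ⊓ E₂) = p * Nat.card T
  fd₁ : FD p E₁ ≤ T
  fd₂ : FD p E₂ ≤ T
  cent : ∀ g : G, ∀ d ∈ E₁ ⊓ E₂, ⁅g, d⁆ ∈ T
  nonab : ∃ g h : G, ⁅g, h⁆ ∉ T
  not_inv₁ : ¬ P.s₁.Inv (E₁ ⊓ E₂)
  not_inv₂ : ¬ P.s₂.Inv (E₁ ⊓ E₂)

variable {P} {T : Subgroup G} (d : P.TriTop T)

namespace TriTop

include d in
theorem swap : P.swap.TriTop T where
  le := by rw [inf_comm]; exact d.le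
  inv₁ := d.inv₂
  inv₂ := d.inv₁
  cardD := by rw [inf_comm]; exact d.cardD
  fd₁ := d.fd₂
  fd₂ := d.fd₁
  cent := by rw [inf_comm]; exact d.cent
  nonab := d.nonab
  not_inv₁ := by rw [inf_comm]; exact d.not_inv₂
  not_inv₂ := by rw [inf_comm]; exact d.not_inv₁

include d in
theorem normal : T.Normal := d.inv₁.normal (d.le.trans inf_le_left)

include d in
theorem nonab' {a b : G} (ha : a ∈ E₁) (ha' : a ∉ E₁ ⊓ E₂) (hb : b ∈ E₂) (hb' : b ∉ E₁ ⊓ E₂) :
    ⁅b, a⁆ ∉ T := by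
  intro hba
  haveI := d.normal
  obtain ⟨g, h, hgh⟩ := d.nonab
  refine hgh ?_
  set π := QuotientGroup.mk' T
  have hcm : ∀ {u v : G}, ⁅u, v⁆ ∈ T → Commute (π u) (π v) := fun huv => by
    rw [← commutatorElement_eq_one_iff_commute, ← map_commutatorElement]
    exact (QuotientGroup.eq_one_iff _).2 huv
  have hgen : ∀ u ∈ ((E₁ ⊓ E₂ : Subgroup G) : Set G) ∪ {a, b},
      ∀ v ∈ ((E₁ ⊓ E₂ : Subgroup G) : Set G) ∪ {a, b}, Commute (π u) (π v) := by
    rintro u (hu | rfl | rfl) v (hv | rfl | rfl)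
    all_goals first
      | exact Commute.refl _
      | exact hcm (d.cent _ _ ‹_ ∈ ((E₁ ⊓ E₂ : Subgroup G) : Set G)›)
      | exact (hcm (d.cent _ _ ‹_ ∈ ((E₁ ⊓ E₂ : Subgroup G) : Set G)›)).symm
      | exact hcm hba
      | exact (hcm hba).symm
  have htop : closure (((E₁ ⊓ E₂ : Subgroup G) : Set G) ∪ {a, b}) = ⊤ := by
    refine top_le_iff.1 (P.sup_eq_top.ge.trans (sup_le ?_ ?_))
    · exact (P.sup_zpowers₁ ha ha').ge.trans (sup_le (fun u hu => Subgroup.subset_closure (Or.inl hu))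
        (zpowers_le.2 (subset_closure (Or.inr (Or.inl rfl)))))
    · exact (P.sup_zpowers₂ hb hb').ge.trans (sup_le (fun u hu => Subgroup.subset_closure (Or.inl hu))
        (zpowers_le.2 (subset_closure (Or.inr (Or.inr rfl)))))
  have hle : (⊤ : Subgroup G).map π ≤ centralizer ((⊤ : Subgroup G).map π : Set (G ⧸ T)) := by
    rw [← htop, MonoidHom.map_closure, centralizer_closure, closure_le]
    rintro _ ⟨v, hv, rfl⟩
    rw [SetLike.mem_coe, mem_centralizer_iff]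
    rintro _ ⟨u, hu, rfl⟩
    exact (hgen u hu v hv).eq
  have h1 := mem_centralizer_iff.1 (hle (mem_map_of_mem π (mem_top g))) _
    (mem_map_of_mem π (mem_top h))
  rw [eq_comm, ← commutatorElement_eq_one_iff_mul_comm, ← map_commutatorElement] at h1
  exact (QuotientGroup.eq_one_iff _).1 h1

include d in
theorem card₁ : Nat.card E₁ = p ^ 2 * Nat.card T := by rw [P.card₁, d.cardD, pow_two, mul_assoc]

include d in
theorem exists_inverting₁ (hK : ∀ g : G, ∀ t ∈ T, ⁅g, t⁆ ∈ FD p T) :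
    ∃ n ∈ normalizer (P.s₁.conj.range : Set X₁), (∀ e : E₁, (e : G) ∈ T → P.s₁.img n e = e) ∧
      ∀ e : E₁, P.s₁.img n e * (e : G) ∈ T := by
  haveI := d.normal
  refine P.s₁.exists_inverting P.hG P.odd d.inv₁ (d.le.trans inf_le_left) d.fd₁ d.card₁ ?_ hK
  have he : Side.central E₁ T = E₁ ⊓ E₂ := by
    have hle : E₁ ⊓ E₂ ≤ Side.central E₁ T := fun v hv =>
      Side.mem_central.2 ⟨(mem_inf.1 hv).1, fun g => d.cent g v hv⟩
    by_contra hne
    obtain ⟨v, hv, hvD⟩ := SetLike.exists_of_lt (lt_of_le_of_ne hle (Ne.symm hne))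
    obtain ⟨w, hw, hw'⟩ := P.exists_mem
    exact d.nonab' (Side.mem_central.1 hv).1 hvD hw (P.not_mem_inf₁ hw')
      ((Side.mem_central.1 hv).2 w)
  rw [he]
  exact d.not_inv₁

include d in
/-- The first side is the product of `T` and its centraliser, and `T` commutes with it. -/
theorem commute₁ (hK : ∀ g : G, ∀ t ∈ T, ⁅g, t⁆ ∈ FD p T) : ∀ e ∈ E₁, ∀ t ∈ T, Commute e t := by
  have hp1 := hp.out.one_lt
  have hG := P.hG
  haveI := d.normal
  haveI := P.s₁.normal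
  have hTE : T ≤ E₁ := d.le.trans inf_le_left
  obtain ⟨n, hnN, hfix, hinv⟩ := d.exists_inverting₁ hK
  set Cz := E₁ ⊓ centralizer (T : Set G) with hCz
  set M := T ⊔ Cz with hM
  have hsq : ∀ e ∈ E₁, e * e ∈ M := by
    intro e he
    obtain ⟨t₀, ht₀, hne⟩ : ∃ t₀ ∈ T, P.s₁.img n ⟨e, he⟩ = t₀ * e⁻¹ :=
      ⟨_, hinv ⟨e, he⟩, by rw [mul_inv_cancel_right]⟩
    have hC : e⁻¹ * (t₀ * e⁻¹) ∈ Cz := by
      refine mem_inf.2 ⟨mul_mem (inv_mem he) (mul_mem (hTE ht₀) (inv_mem he)),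
        mem_centralizer_iff.2 fun t ht => ?_⟩
      have het : e * t * e⁻¹ ∈ T := Normal.conj_mem inferInstance t ht e
      have h1 := hfix (⟨e, he⟩ * ⟨t, hTE ht⟩ * ⟨e, he⟩⁻¹) het
      rw [map_mul, map_mul, map_inv, hne, hfix ⟨t, hTE ht⟩ ht] at h1
      simp only [Subgroup.coe_mul, Subgroup.coe_inv] at h1
      calc t * (e⁻¹ * (t₀ * e⁻¹)) = e⁻¹ * (e * t * e⁻¹) * (t₀ * e⁻¹) := by group
        _ = e⁻¹ * ((t₀ * e⁻¹) * t * (t₀ * e⁻¹)⁻¹) * (t₀ * e⁻¹) := by rw [h1]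
        _ = e⁻¹ * (t₀ * e⁻¹) * t := by group
    have ht : e⁻¹ * t₀ * e ∈ T := by
      have := Normal.conj_mem (inferInstance : T.Normal) t₀ ht₀ e⁻¹
      rwa [inv_inv] at this
    have h2 := mul_mem (inv_mem (mem_sup_right hC : _ ∈ M)) (mem_sup_left ht : _ ∈ M)
    rwa [show (e⁻¹ * (t₀ * e⁻¹))⁻¹ * (e⁻¹ * t₀ * e) = e * e by group] at h2
  have hEM : E₁ ≤ M := by
    intro e he
    have hp' : e ^ p ∈ M := mem_sup_left (d.fd₁ (mem_sup_right (subset_closure ⟨e, he, rfl⟩)))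
    obtain ⟨k, hk⟩ := hp.out.eq_two_or_odd'.resolve_left P.odd
    have h1 : (e * e) ^ k ∈ M := pow_mem (hsq e he) k
    have h2 := mul_mem (inv_mem h1) hp'
    rwa [hk, pow_succ, pow_mul, pow_two, inv_mul_cancel_left] at h2
  -- `T` is commutative
  set Zt := T ⊓ centralizer (T : Set G) with hZt
  have hTab : ∀ u ∈ T, ∀ v ∈ T, Commute u v := by
    set N := Zt ⊔ FD p T
    have hFn : (FD p T).Normal := (d.inv₁.fd hTE).normal ((FD_le T).trans hTE)
    haveI : Zt.Normal := Subgroup.normal_inf_normal _ _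
    haveI : N.Normal := Subgroup.sup_normal _ _
    have hNT : N ≤ T := sup_le inf_le_left (FD_le T)
    have hel : FD p E₁ ≤ N := by
      refine FD_le_of_elem ?_
      have e : E₁ = M := le_antisymm hEM (sup_le hTE inf_le_left)
      rw [e, hM, Subgroup.map_sup]
      refine (elem_map_FD T le_sup_right).sup ⟨?_, ?_⟩ ?_
      · rintro _ ⟨u, hu, rfl⟩ _ ⟨v, hv, rfl⟩
        rw [← commutatorElement_eq_one_iff_commute, ← map_commutatorElement]
        refine (QuotientGroup.eq_one_iff _).2 (mem_sup_left (mem_inf.2 ⟨?_, ?_⟩))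
        · exact d.fd₁ (mem_sup_left (commutator_mem_commutator (mem_inf.1 hu).1 (mem_inf.1 hv).1))
        · rw [commutatorElement_def]
          exact mul_mem (mul_mem (mul_mem (mem_inf.1 hu).2 (mem_inf.1 hv).2) (inv_mem (mem_inf.1 hu).2))
            (inv_mem (mem_inf.1 hv).2)
      · rintro _ ⟨u, hu, rfl⟩
        rw [← map_pow]
        exact (QuotientGroup.eq_one_iff _).2 (mem_sup_left (mem_inf.2
          ⟨d.fd₁ (mem_sup_right (subset_closure ⟨u, (mem_inf.1 hu).1, rfl⟩)),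
            pow_mem (mem_inf.1 hu).2 p⟩))
      · rintro _ ⟨t, ht, rfl⟩ _ ⟨u, hu, rfl⟩
        exact (show Commute t u from mem_centralizer_iff.1 (mem_inf.1 hu).2 t ht).map _
    have hle := card_le_of_FD_le P.rank (hNT.trans hTE) hel
    rw [d.card₁] at hle
    have hsm : Nat.card T ≤ p * Nat.card N := by
      refine Nat.le_of_mul_le_mul_left ?_ (pow_pos hp.out.pos 2)
      rw [← mul_assoc, ← pow_succ]
      exact hle
    obtain ⟨v, hv, hgen⟩ : ∃ v ∈ T, T ≤ N ⊔ zpowers v := by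
      by_cases hTN : T ≤ N
      · exact ⟨1, one_mem _, hTN.trans le_sup_left⟩
      obtain ⟨v, hv, hvN⟩ := SetLike.not_le_iff_exists.1 hTN
      refine ⟨v, hv, ?_⟩
      have h1 := card_mul_le_of_lt hG (lt_of_le_of_ne hNT fun h => hTN h.ge)
      rw [eq_sup_zpowers hNT (le_antisymm hsm (by rwa [mul_comm] at h1)) hv hvN]
    have hT : Zt ⊔ zpowers v = T := eq_of_sup_FD hG (sup_le inf_le_left (zpowers_le.2 hv))
      (hgen.trans (by rw [show N = Zt ⊔ FD p T from rfl, sup_comm Zt, sup_assoc]))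
    have hle' : Zt ⊔ zpowers v ≤ centralizer ((Zt ⊔ zpowers v : Subgroup G) : Set G) := by
      have e : Zt ⊔ zpowers v = closure ((Zt : Set G) ∪ {v}) := by
        rw [Subgroup.closure_union, closure_eq, ← zpowers_eq_closure]
      rw [e, centralizer_closure, closure_le]
      rintro u hu
      rw [SetLike.mem_coe, mem_centralizer_iff]
      rintro w hw
      have hTm : ∀ {w : G}, w ∈ (Zt : Set G) ∪ {v} → w ∈ T := by
        rintro w (hw | hw)
        exacts [(mem_inf.1 hw).1, (Set.mem_singleton_iff.1 hw).symm ▸ hv]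
      rcases hu with hu | hu
      · exact mem_centralizer_iff.1 (mem_inf.1 hu).2 w (hTm hw)
      rcases hw with hw | hw
      · exact (mem_centralizer_iff.1 (mem_inf.1 hw).2 u (hTm (Or.inr hu))).symm
      · rw [Set.mem_singleton_iff.1 hu, Set.mem_singleton_iff.1 hw]
    rw [hT] at hle'
    exact fun u hu w hw => (mem_centralizer_iff.1 (hle' hu) w hw).symm
  have hMc : M ≤ centralizer (T : Set G) :=
    sup_le (fun u hu => mem_centralizer_iff.2 fun w hw => (hTab w hw u hu).eq) inf_le_right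
  exact fun e he t ht => (mem_centralizer_iff.1 (hMc (hEM he)) t ht).symm

include d in
theorem central (hK : ∀ g : G, ∀ t ∈ T, ⁅g, t⁆ ∈ FD p T) : T ≤ center G := fun t ht =>
  P.mem_center_of_commute' (fun e he => d.commute₁ hK e he t ht)
    (fun e he => d.swap.commute₁ hK e he t ht)

include d in
theorem inf_comm' (hK : ∀ g : G, ∀ t ∈ T, ⁅g, t⁆ ∈ FD p T) :
    ∀ u ∈ E₁ ⊓ E₂, ∀ v ∈ E₁ ⊓ E₂, Commute u v := by
  have hp1 := hp.out.one_lt
  haveI := d.normal
  have hTc := d.central hK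
  obtain ⟨a, ha, haT⟩ : ∃ a ∈ E₁ ⊓ E₂, a ∉ T := by
    by_contra h
    push Not at h
    have := Subgroup.card_le_of_le (show E₁ ⊓ E₂ ≤ T from h)
    rw [d.cardD] at this
    nlinarith [Nat.card_pos (α := T)]
  have hle : T ⊔ zpowers a ≤ centralizer ((T ⊔ zpowers a : Subgroup G) : Set G) := by
    have e : T ⊔ zpowers a = closure ((T : Set G) ∪ {a}) := by
      rw [Subgroup.closure_union, closure_eq, ← zpowers_eq_closure]
    rw [e, centralizer_closure, closure_le]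
    rintro u hu
    rw [SetLike.mem_coe, mem_centralizer_iff]
    rintro w hw
    rcases hu with hu | hu
    · exact mem_center_iff.1 (hTc hu) w
    rcases hw with hw | hw
    · exact (mem_center_iff.1 (hTc hw) u).symm
    · rw [Set.mem_singleton_iff.1 hu, Set.mem_singleton_iff.1 hw]
  rw [eq_sup_zpowers d.le d.cardD ha haT] at hle
  exact fun u hu v hv => (mem_centralizer_iff.1 (hle hu) v hv).symm

include d in
/-- An element outside the first side commuting with the intersection and fixed modulo `T`. -/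
theorem exists_axis (hK : ∀ g : G, ∀ t ∈ T, ⁅g, t⁆ ∈ FD p T) :
    ∃ β ∈ B₁, ∃ x₀ : G, x₀ ∉ E₁ ∧ (∀ u ∈ E₁ ⊓ E₂, Commute u x₀) ∧ β x₀ * x₀⁻¹ ∈ T ∧
      ∀ e ∈ E₁, β e * e ∈ T := by
  have hp1 := hp.out.one_lt
  haveI := d.normal
  haveI := P.s₁.normal
  haveI := P.s₂.normal
  set π := QuotientGroup.mk' T with hπ
  have hTc := d.central hK
  obtain ⟨n, hnN, hfix, hinv⟩ := d.exists_inverting₁ hK
  obtain ⟨β, hβ, hβe⟩ := P.s₁.ext n hnN
  have hβT : ∀ t ∈ T, β t = t := fun t ht =>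
    (hβe ⟨t, (d.le.trans inf_le_left) ht⟩).trans (hfix _ ht)
  have hβE : ∀ e ∈ E₁, π (β e) = (π e)⁻¹ := fun e he => eq_inv_of_mul_eq_one_left (by
    rw [← map_mul]
    refine (QuotientGroup.eq_one_iff _).2 ?_
    rw [show β e = P.s₁.img n ⟨e, he⟩ from hβe ⟨e, he⟩]
    exact hinv ⟨e, he⟩)
  -- `β` fixes the outer side modulo the intersection
  obtain ⟨b, hb, hb₂⟩ := P.swap.exists_mem
  have hbD : b ∉ E₁ ⊓ E₂ := fun h => hb₂ (mem_inf.1 h).2
  obtain ⟨x, hx, hx₁⟩ := P.exists_mem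
  have hxD := P.not_mem_inf₁ hx₁
  have hE₁c : ∀ e ∈ E₁, ∀ e' ∈ E₁, Commute (π e) (π e') := fun e he e' he' => by
    rw [← commutatorElement_eq_one_iff_commute, ← map_commutatorElement]
    exact (QuotientGroup.eq_one_iff _).2 (d.fd₁ (mem_sup_left (commutator_mem_commutator he he')))
  obtain ⟨v, hv, w, hw, hvw⟩ := (mem_sup_of_normal_left).1
    ((sup_zpowers_eq_top P.s₁.index_eq hx₁).ge (mem_top (β x)))
  obtain ⟨i, rfl⟩ := mem_zpowers_iff.1 hw
  -- the exponent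
  have hbx : ⁅x, b⁆ ∈ E₁ ⊓ E₂ := by
    rw [← commutatorElement_inv b x]; exact inv_mem (P.comm_mem_inf hb hx)
  have hcen : ∀ q : G, ∀ r ∈ E₁ ⊓ E₂, Commute (π q) (π r) := fun q r hr => by
    rw [← commutatorElement_eq_one_iff_commute, ← map_commutatorElement]
    exact (QuotientGroup.eq_one_iff _).2 (d.cent q r hr)
  set z := ⁅π x, π b⁆ with hz
  have hzz : z = π ⁅x, b⁆ := (map_commutatorElement π x b).symm
  have hzp : z ^ p = 1 := by
    rw [hzz, ← map_pow]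
    exact (QuotientGroup.eq_one_iff _).2
      (d.fd₁ (mem_sup_right (subset_closure ⟨_, (mem_inf.1 hbx).1, rfl⟩)))
  have hz1 : z ≠ 1 := fun h => d.nonab' hb hbD hx hxD
    ((QuotientGroup.eq_one_iff _).1 (hzz.symm.trans h))
  have hi : (p : ℤ) ∣ i - 1 := by
    have hzc : ∀ q : G, Commute (π q) z := fun q => hzz ▸ hcen q _ hbx
    have e1 : z⁻¹ = z ^ (-i) := by
      calc z⁻¹ = π (β ⁅x, b⁆) := by rw [hzz]; exact (hβE _ (mem_inf.1 hbx).1).symm
        _ = ⁅π v * π x ^ i, (π b)⁻¹⁆ := by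
          rw [map_commutatorElement, map_commutatorElement, hβE b hb, ← hvw, map_mul, map_zpow]
        _ = z ^ (-i) := by
          have h1 : ⁅π x ^ i, (π b)⁻¹⁆ = z ^ (-i) := by
            rw [← zpow_neg_one, comm_zpow_zpow (hzc x) (hzc b)]
            congr 1
            ring
          rw [comm_mul_left_of_central (by rw [h1]; exact (hzc v).zpow_right _), h1,
            commutatorElement_eq_one_iff_commute.2 (hE₁c v hv b hb).inv_right, mul_one]
    have h2 : z ^ (i - 1) = 1 := by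
      rw [zpow_sub, zpow_one]
      have := congrArg Inv.inv e1
      rw [inv_inv, zpow_neg, inv_inv] at this
      rw [← this, mul_inv_cancel]
    rw [← orderOf_eq_of_pow hzp hz1, orderOf_dvd_iff_zpow_eq_one]
    exact h2
  have hxT : x ^ i * x⁻¹ ∈ T := by
    obtain ⟨k, hk⟩ := hi
    rw [← zpow_neg_one, ← zpow_add, show i + -1 = (p : ℤ) * k by linarith, zpow_mul, zpow_natCast]
    exact zpow_mem (d.fd₂ (mem_sup_right (subset_closure ⟨x, hx, rfl⟩))) k
  obtain ⟨r, hr, hrx⟩ : ∃ r ∈ E₁, β x = r * x :=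
    ⟨v * (x ^ i * x⁻¹), mul_mem hv ((d.le.trans inf_le_left) hxT), by rw [← hvw]; group⟩
  obtain ⟨h, hh⟩ := exists_half (p := p) P.odd
  refine ⟨β, hβ, r ^ h * x, fun hm => hx₁ ?_, fun u hu => ?_, ?_, fun e he => ?_⟩
  · have := mul_mem (inv_mem (zpow_mem hr h)) hm
    rwa [inv_mul_cancel_left] at this
  · have hux : ∀ g : G, ⁅u, g⁆ ∈ T := fun g => by
      rw [← commutatorElement_inv g u]; exact inv_mem (d.cent g u hu)
    have huc : ∀ g q : G, Commute q ⁅u, g⁆ := fun g q => mem_center_iff.1 (hTc (hux g)) q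
    have hinv' : ∀ g : G, ⁅u⁻¹, g⁆ = ⁅u, g⁆⁻¹ := fun g => by
      have := comm_zpow_zpow (huc g u) (huc g g) (-1) 1
      rwa [zpow_neg_one, zpow_one, mul_one, zpow_neg_one] at this
    have hvu : β u * u ∈ T := by
      rw [show β u = P.s₁.img n ⟨u, (mem_inf.1 hu).1⟩ from hβe ⟨u, (mem_inf.1 hu).1⟩]
      exact hinv ⟨u, (mem_inf.1 hu).1⟩
    have e2 : ⁅u, x⁆ = ⁅u, r⁆⁻¹ * ⁅u, x⁆⁻¹ := by
      calc ⁅u, x⁆ = β ⁅u, x⁆ := (hβT _ (hux x)).symm
        _ = ⁅(β u * u) * u⁻¹, r * x⁆ := by rw [map_commutatorElement, hrx, mul_inv_cancel_right]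
        _ = ⁅u⁻¹, r * x⁆ := by
          rw [comm_mul_left_of_central (by
            rw [comm_mul_of_central (by rw [hinv']; exact (huc x r).inv_right), hinv', hinv']
            exact (huc r _).inv_right.mul_right (huc x _).inv_right),
            commutatorElement_eq_one_iff_commute.2 (mem_center_iff.1 (hTc hvu) (r * x)).symm, mul_one]
        _ = ⁅u, r⁆⁻¹ * ⁅u, x⁆⁻¹ := by
          rw [comm_mul_of_central (by rw [hinv']; exact (huc x r).inv_right), hinv', hinv']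
    have hr2 : ⁅u, r⁆ = ⁅u, x⁆ ^ (-2 : ℤ) := by
      have h1 : ⁅u, r⁆⁻¹ = ⁅u, x⁆ * ⁅u, x⁆ := mul_inv_eq_iff_eq_mul.1 e2.symm
      rw [← inv_inv ⁅u, r⁆, h1, zpow_neg, zpow_two]
    have hpow : ⁅u, x⁆ ^ p = 1 := by
      have h1 := comm_zpow_zpow (huc x u) (huc x x) 1 p
      rw [zpow_one, one_mul, zpow_natCast, zpow_natCast] at h1
      rw [← h1]
      exact commutatorElement_eq_one_iff_commute.2
        (mem_center_iff.1 (hTc (d.fd₂ (mem_sup_right (subset_closure ⟨x, hx, rfl⟩)))) u)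
    rw [← commutatorElement_eq_one_iff_commute, comm_mul_of_central (huc x _)]
    have h3 := comm_zpow_zpow (huc r u) (huc r r) 1 h
    rw [zpow_one, one_mul] at h3
    rw [h3, hr2, ← zpow_mul, ← zpow_add_one,
      RankThree.zpow_congr hpow (i := -2 * h + 1) (j := 0) (by
        rw [sub_zero, show -2 * h + 1 = -(2 * h - 1) by ring]; exact dvd_neg.2 hh), zpow_zero]
  · rw [← QuotientGroup.eq_one_iff]
    show π (β (r ^ h * x) * (r ^ h * x)⁻¹) = 1
    rw [map_mul β, map_zpow β, hrx, map_mul π, map_mul π, map_zpow π, hβE r hr, map_inv, map_mul π,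
      map_mul π, map_zpow π, inv_zpow', mul_inv_rev, ← zpow_neg]
    have hrp : π r ^ p = 1 := by
      rw [← map_pow]
      exact (QuotientGroup.eq_one_iff _).2 (d.fd₁ (mem_sup_right (subset_closure ⟨r, hr, rfl⟩)))
    calc π r ^ (-h) * (π r * π x) * ((π x)⁻¹ * π r ^ (-h))
        = π r ^ (-h) * π r * π r ^ (-h) := by group
      _ = π r ^ (-h + 1 + -h) := by rw [zpow_add, zpow_add_one]
      _ = 1 := by
        rw [RankThree.zpow_congr hrp (j := 0) (by
          rw [sub_zero, show -h + 1 + -h = -(2 * h - 1) by ring]; exact dvd_neg.2 hh), zpow_zero]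
  · rw [show β e = P.s₁.img n ⟨e, he⟩ from hβe ⟨e, he⟩]
    exact hinv ⟨e, he⟩

include d in
theorem inf_central (hK : ∀ g : G, ∀ t ∈ T, ⁅g, t⁆ ∈ FD p T) : E₁ ⊓ E₂ ≤ center G := by
  have hp1 := hp.out.one_lt
  haveI := d.normal
  haveI := P.s₁.normal
  haveI := P.s₂.normal
  haveI := P.inf_normal
  have hDc := d.inf_comm' hK
  obtain ⟨β₁, hβ₁, x₀, hx₀, hxc, hx₀T, hβ₁E⟩ := d.exists_axis hK
  obtain ⟨β₂, hβ₂, y₀, hy₀, hyc, hy₀T, hβ₂E⟩ := d.swap.exists_axis hK
  set D := E₁ ⊓ E₂ with hD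
  set C := centralizer (D : Set G) with hC
  have hDC : D ≤ C := fun v hv => mem_centralizer_iff.2 fun u hu => (hDc u hu v hv).eq
  have hx₀C : x₀ ∈ C := mem_centralizer_iff.2 fun u hu => (hxc u hu).eq
  have hy₀C : y₀ ∈ C := mem_centralizer_iff.2 fun u hu => (hyc u (by rw [inf_comm]; exact hu)).eq
  have hy₀D : y₀ ∉ D := fun h => hy₀ (mem_inf.1 h).2
  rcases eq_or_ne C ⊤ with hCt | hCt
  · intro u hu
    exact mem_center_iff.2 fun g => (mem_centralizer_iff.1 (hCt.ge (mem_top g)) u hu).symm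
  exfalso
  obtain ⟨j, hj⟩ := exists_card P.hG D
  obtain ⟨k, hk⟩ := exists_card P.hG C
  have hG2 := P.card_top_eq
  have h1 := card_mul_le_of_lt P.hG (lt_of_le_of_ne hDC fun h => hy₀D (h.ge hy₀C))
  have h2 := card_mul_le_of_lt P.hG (lt_top_iff_ne_top.2 hCt)
  rw [card_top, hG2, ← hD, hj, hk, ← pow_succ, ← pow_add, Nat.pow_le_pow_iff_right hp1] at h2
  rw [hj, hk, ← pow_succ, Nat.pow_le_pow_iff_right hp1] at h1
  have hCc : Nat.card C = p * Nat.card D := by rw [hj, hk, show k = j + 1 by omega, pow_succ']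
  have hgy : D ⊔ zpowers y₀ = C := eq_sup_zpowers hDC hCc hy₀C hy₀D
  -- computations modulo the intersection
  set f := QuotientGroup.mk' D with hf
  have hT : ∀ {g : G}, g ∈ T → f g = 1 := fun hg => (QuotientGroup.eq_one_iff _).2 (d.le hg)
  have hDp₁ : ∀ v ∈ D, β₁ v ∈ D := fun v hv => by
    have := mul_mem (d.le (hβ₁E v (mem_inf.1 hv).1)) (inv_mem hv)
    rwa [mul_inv_cancel_right] at this
  have hDp₂ : ∀ v ∈ D, β₂ v ∈ D := fun v hv => by
    have := mul_mem (d.le (hβ₂E v (mem_inf.1 hv).2)) (inv_mem hv)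
    rwa [mul_inv_cancel_right] at this
  have hwd : ∀ γ : MulAut G, (∀ v ∈ D, γ v ∈ D) → ∀ a b : G, f a = f b → f (γ a) = f (γ b) := by
    intro γ hγ a b hab
    have h := hγ _ (QuotientGroup.eq.1 hab)
    rw [map_mul, map_inv] at h
    exact QuotientGroup.eq.2 h
  have i₁ : ∀ e ∈ E₁, f (β₁ e) = f e⁻¹ := fun e he => by
    rw [map_inv, eq_inv_iff_mul_eq_one, ← map_mul]; exact hT (hβ₁E e he)
  have i₂ : ∀ e ∈ E₂, f (β₂ e) = f e⁻¹ := fun e he => by
    rw [map_inv, eq_inv_iff_mul_eq_one, ← map_mul]; exact hT (hβ₂E e he)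
  have y₂ : f (β₂ y₀) = f y₀ := by
    rw [← mul_inv_eq_one, ← map_inv, ← map_mul]; exact hT hy₀T
  have y₁ : f (β₁ y₀) = f y₀ := by
    have hx' : f (β₁ x₀) = f x₀ := by
      rw [← mul_inv_eq_one, ← map_inv, ← map_mul]; exact hT hx₀T
    have hgx : D ⊔ zpowers x₀ = C :=
      eq_sup_zpowers hDC hCc hx₀C fun h => hx₀ (mem_inf.1 h).1
    obtain ⟨v, hv, w, hw, hvw⟩ := (mem_sup_of_normal_left).1 (hgx.ge hy₀C)
    obtain ⟨m, rfl⟩ := mem_zpowers_iff.1 hw
    rw [← hvw, map_mul β₁, map_zpow β₁, map_mul, map_mul, map_zpow, map_zpow, hx',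
      (QuotientGroup.eq_one_iff _).2 (hDp₁ v hv) |> fun h => (show f (β₁ v) = 1 from h),
      show f v = 1 from (QuotientGroup.eq_one_iff _).2 hv]
  obtain ⟨b, hb, hb₂⟩ := P.swap.exists_mem
  obtain ⟨u, hu, w, hw, hbe⟩ := (mem_sup_of_normal_left).1
    ((sup_zpowers_eq_top P.s₂.index_eq hy₀).ge (mem_top b))
  obtain ⟨m, rfl⟩ := mem_zpowers_iff.1 hw
  have hab : ∀ a c : G, Commute (f a) (f c) := fun a c => by
    rw [← commutatorElement_eq_one_iff_commute, ← map_commutatorElement]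
    refine (QuotientGroup.eq_one_iff _).2 ?_
    haveI := P.s₁.normal
    haveI := P.s₂.normal
    exact mem_inf.2 ⟨comm_mem_of_card P.hG (le_top : E₁ ≤ ⊤)
        (by rw [card_top, ← E₁.index_mul_card, P.s₁.index_eq]) (mem_top c),
      comm_mem_of_card P.hG (le_top : E₂ ≤ ⊤)
        (by rw [card_top, ← E₂.index_mul_card, P.s₂.index_eq]) (mem_top c)⟩
  set Y := f y₀ with hY
  have hbf : f b = f u * Y ^ m := by rw [← hbe, map_mul, map_zpow]
  -- the two maps on the translates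
  have r₁ : ∀ l : ℤ, f (β₁ (b * y₀ ^ l)) = (f b)⁻¹ * Y ^ l := fun l => by
    rw [map_mul β₁, map_zpow β₁, map_mul, map_zpow, y₁, i₁ b hb, map_inv]
  have r₂ : ∀ l : ℤ, f (β₂ (b * y₀ ^ l)) = (f b)⁻¹ * Y ^ (l + 2 * m) := fun l => by
    rw [← hbe, mul_assoc, ← zpow_add, map_mul β₂, map_zpow β₂, map_mul, map_zpow, y₂, i₂ u hu, map_inv,
      hbe, hbf, mul_inv_rev, ((hab y₀ u).zpow_left m).inv_inv.eq, mul_assoc, ← zpow_neg, ← zpow_add]
    congr 2
    ring
  have hD₁' : ∀ v ∈ D, β₁⁻¹ v ∈ D := by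
    intro v hv
    have he : D.map β₁.toMonoidHom = D := eq_of_le_of_card_ge
      (map_le_iff_le_comap.2 hDp₁) (card_map_of_injective β₁.injective).ge
    obtain ⟨v', hv', rfl⟩ := he.ge hv
    show β₁⁻¹ (β₁ v') ∈ D
    rwa [MulAut.inv_apply_self]
  have hD₂' : ∀ v ∈ D, β₂⁻¹ v ∈ D := by
    intro v hv
    have he : D.map β₂.toMonoidHom = D := eq_of_le_of_card_ge
      (map_le_iff_le_comap.2 hDp₂) (card_map_of_injective β₂.injective).ge
    obtain ⟨v', hv', rfl⟩ := he.ge hv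
    show β₂⁻¹ (β₂ v') ∈ D
    rwa [MulAut.inv_apply_self]
  set δ := β₂⁻¹ * β₁⁻¹ * β₂ * β₁ with hδdef
  have hδ : δ ∈ B₁ ⊔ B₂ := mul_mem (mul_mem (mul_mem
    (inv_mem (mem_sup_right hβ₂)) (inv_mem (mem_sup_left hβ₁))) (mem_sup_right hβ₂)) (mem_sup_left hβ₁)
  have hval : ∀ l : ℤ, f (δ (b * y₀ ^ l)) = f (b * y₀ ^ (l + (-4 * m))) := by
    intro l
    have e1 : f (β₁ (b * y₀ ^ l)) = f ((b * y₀ ^ (-l))⁻¹) := by
      rw [r₁, map_inv, map_mul, map_zpow, mul_inv_rev, ← zpow_neg, neg_neg]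
      exact ((hab b (y₀ ^ l)).inv_left.eq).trans (by rw [map_zpow])
    have e2 : f (β₂ (β₁ (b * y₀ ^ l))) = f (b * y₀ ^ (l + -2 * m)) := by
      rw [hwd β₂ hDp₂ _ _ e1, map_inv β₂, map_inv, r₂, mul_inv_rev, inv_inv, ← zpow_neg,
        map_mul, map_zpow]
      rw [((hab y₀ b).zpow_left _).eq]
      congr 2
      ring
    have e3 : f (β₁⁻¹ (β₂ (β₁ (b * y₀ ^ l)))) = f ((b * y₀ ^ (-(l + -2 * m)))⁻¹) := by
      rw [hwd β₁⁻¹ hD₁' _ _ e2]
      refine hwd β₁⁻¹ hD₁' _ (β₁ ((b * y₀ ^ (-(l + -2 * m)))⁻¹)) ?_ |>.trans ?_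
      · rw [map_inv β₁, map_inv, r₁, mul_inv_rev, inv_inv, ← zpow_neg, neg_neg, map_mul, map_zpow]
        exact (((hab y₀ b).zpow_left _).eq).symm
      · rw [MulAut.inv_apply_self]
    rw [hδdef, MulAut.mul_apply, MulAut.mul_apply, MulAut.mul_apply, hwd β₂⁻¹ hD₂' _ _ e3]
    refine hwd β₂⁻¹ hD₂' _ (β₂ (b * y₀ ^ (l + (-4 * m)))) ?_ |>.trans ?_
    · rw [r₂, map_inv, map_mul, map_zpow, mul_inv_rev, ← zpow_neg, neg_neg,
        (((hab b y₀).inv_left).zpow_right _).eq]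
      congr 2
      ring
    · rw [MulAut.inv_apply_self]
  have hn : ∀ n : ℕ, f ((δ ^ n) b) = f (b * y₀ ^ ((n : ℤ) * (-4 * m))) := by
    intro n
    induction n with
    | zero => simp
    | succ n ih =>
      have hδD : ∀ v ∈ D, δ v ∈ D := fun v hv => by
        simp only [hδdef, MulAut.mul_apply]
        exact hD₂' _ (hD₁' _ (hDp₂ _ (hDp₁ v hv)))
      rw [pow_succ', MulAut.mul_apply, hwd δ hδD _ _ ih, hval]
      congr 3
      push_cast
      ring
  obtain ⟨q, hq, g, hg⟩ := P.cop δ hδ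
  have h3 := hn q
  rw [← hg, MulAut.conj_apply, map_mul, map_mul, map_inv, (hab g b).eq, mul_inv_cancel_right, map_mul,
    map_zpow, left_eq_mul, ← hY] at h3
  have hYp : Y ^ p = 1 := by
    rw [hY, ← map_pow]
    refine (QuotientGroup.eq_one_iff _).2 ?_
    have h4 := (D.subgroupOf C).index_mul_card
    rw [Nat.card_congr (subgroupOfEquivOfLe hDC).toEquiv, hCc] at h4
    haveI : (D.subgroupOf C).Normal := inferInstance
    have h5 := pow_card_eq_one' (x := (QuotientGroup.mk ⟨y₀, hy₀C⟩ : C ⧸ D.subgroupOf C))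
    rw [← Subgroup.index_eq_card, Nat.eq_of_mul_eq_mul_right Nat.card_pos h4, ← QuotientGroup.mk_pow,
      QuotientGroup.eq_one_iff] at h5
    exact h5
  have hY1 : Y ≠ 1 := fun h => hy₀D ((QuotientGroup.eq_one_iff _).1 h)
  have hdiv : ¬ (p : ℤ) ∣ (q : ℤ) * (-4 * m) := by
    intro hd
    have hP := Nat.prime_iff_prime_int.1 hp.out
    rcases hP.dvd_or_dvd hd with h | h
    · exact hq (Int.natCast_dvd_natCast.1 h)
    rcases hP.dvd_or_dvd h with h | h
    · rw [dvd_neg, show (4 : ℤ) = 2 * 2 from rfl] at h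
      exact (hP.dvd_or_dvd h).elim (not_dvd_two P.odd) (not_dvd_two P.odd)
    refine hb₂ ?_
    rw [← hbe]
    obtain ⟨c', hc'⟩ := h
    refine mul_mem hu ?_
    rw [hc', zpow_mul, zpow_natCast]
    exact zpow_mem (mem_inf.1 ((QuotientGroup.eq_one_iff _).1 (by rw [← hYp, hY, ← map_pow]; rfl :
      ((y₀ ^ p : G) : G ⧸ D) = 1))).2 c'
  exact hY1 (RankThree.eq_one_of_zpow hYp hdiv h3)

include d in
/-- Powers on the first side. -/
theorem pow₁ (hK : ∀ g : G, ∀ t ∈ T, ⁅g, t⁆ ∈ FD p T) :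
    ∀ e ∈ E₁, ∃ t ∈ T, t ^ p = e ^ p := by
  intro e he
  obtain ⟨n, -, hfix, hinv⟩ := d.exists_inverting₁ hK
  have hTc := d.central hK
  obtain ⟨t, ht, hne⟩ : ∃ t ∈ T, P.s₁.img n ⟨e, he⟩ = t * e⁻¹ :=
    ⟨_, hinv ⟨e, he⟩, by rw [mul_inv_cancel_right]⟩
  have hep : e ^ p ∈ T := d.fd₁ (mem_sup_right (subset_closure ⟨e, he, rfl⟩))
  have h1 : e ^ p = t ^ p * (e ^ p)⁻¹ := by
    have h := hfix (⟨e, he⟩ ^ p) hep
    rw [map_pow, hne, Commute.mul_pow (mem_center_iff.1 (hTc ht) e⁻¹).symm, inv_pow] at h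
    exact h.symm
  obtain ⟨k, hk⟩ := hp.out.eq_two_or_odd'.resolve_left P.odd
  obtain ⟨j, hj⟩ := P.hG (e ^ p)
  obtain ⟨l, hl⟩ : ∃ l, p ^ j = 2 * l + 1 := (hp.out.eq_two_or_odd'.resolve_left P.odd).pow
  refine ⟨t ^ (l + 1), pow_mem ht _, ?_⟩
  have h2 : t ^ p = e ^ p * e ^ p := eq_mul_of_mul_inv_eq h1.symm
  rw [← pow_mul, mul_comm, pow_mul, h2, ← pow_two, ← pow_mul,
    show 2 * (l + 1) = p ^ j + 1 by omega, pow_succ, hj, one_mul]

include d in
theorem pow_all (hK : ∀ g : G, ∀ t ∈ T, ⁅g, t⁆ ∈ FD p T) : ∀ g : G, ∃ t ∈ T, t ^ p = g ^ p := by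
  intro g
  haveI := P.s₁.normal
  obtain ⟨a, ha, b, hb, rfl⟩ := (mem_sup_of_normal_left).1 (P.sup_eq_top.ge (mem_top g))
  obtain ⟨t, ht, het⟩ := d.pow₁ hK a ha
  obtain ⟨u, hu, hfu⟩ := d.swap.pow₁ hK b hb
  have hc : ⁅b, a⁆ ∈ center G := d.inf_central hK (by
    rw [← commutatorElement_inv a b]; exact inv_mem (P.comm_mem_inf ha hb))
  have hcp : ⁅b, a⁆ ^ p = 1 := by
    have h := comm_zpow_zpow (mem_center_iff.1 hc b) (mem_center_iff.1 hc a) 1 p
    rw [zpow_one, one_mul, zpow_natCast, zpow_natCast] at h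
    rw [← h]
    exact commutatorElement_eq_one_iff_commute.2
      (mem_center_iff.1 (d.central hK (d.fd₁ (mem_sup_right (subset_closure ⟨a, ha, rfl⟩)))) b)
  refine ⟨t * u, mul_mem ht hu, ?_⟩
  rw [Commute.mul_pow (mem_center_iff.1 (d.central hK ht) u).symm, het, hfu]
  have h := RankThree.mul_pow_mod P.odd (⊥ : Subgroup G) (x := a) (y := b)
    (mem_bot.2 (commutatorElement_eq_one_iff_commute.2 (mem_center_iff.1 hc a).symm))
    (mem_bot.2 (commutatorElement_eq_one_iff_commute.2 (mem_center_iff.1 hc b).symm))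
    (mem_bot.2 hcp)
  exact (inv_mul_eq_one.1 (mem_bot.1 (QuotientGroup.eq.1 h))).symm

end TriTop

end Setup

end CfsgLib.Fusion.TwoInvariant
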