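import Cfsg.Agent.Fusion.TwoInvariant.Setup
import Cfsg.Agent.Fusion.RankThree.Basic

/-!
An elementary abelian subgroup on which the group of order `p ^ 3` of a linear configuration acts
faithfully.
-/

set_option autoImplicit false
set_option linter.unusedSectionVars false
set_option linter.style.haveILetI false

open Subgroup
open scoped commutatorElement

namespace CfsgLib.Fusion.TwoInvariant

variable {G : Type*} [Group G] [Finite G] {p : ℕ} [hp : Fact p.Prime] {B B₁ B₂ : Subgroup (MulAut G)}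
  {E₁ E₂ : Subgroup G} {X₁ X₂ : Type*} [Group X₁] [Group X₂] [Finite X₁] [Finite X₂]

/-- An element with all commutators with `t` central commutes up to commutators. -/
theorem commute_comm {W : Type*} [Group W] {t : W} (h : ∀ g : W, ⁅g, t⁆ ∈ center W) (g k : W) :
    Commute ⁅g, k⁆ t := by
  have e : ∀ a b : W, (a * b) * t * (a * b)⁻¹ = (b * a) * t * (b * a)⁻¹ := fun a b => by
    have h1 : ⁅a * b, t⁆ = ⁅b * a, t⁆ := by
      rw [comm_mul_left_of_central (mem_center_iff.1 (h b) a),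
        comm_mul_left_of_central (mem_center_iff.1 (h a) b)]
      exact (mem_center_iff.1 (h a) _).symm.symm
    rw [commutatorElement_def, commutatorElement_def] at h1
    exact mul_right_cancel h1
  have h2 := e g⁻¹ k⁻¹
  show ⁅g, k⁆ * t = t * ⁅g, k⁆
  calc ⁅g, k⁆ * t
      = g * k * ((g⁻¹ * k⁻¹) * t * (g⁻¹ * k⁻¹)⁻¹) * (g⁻¹ * k⁻¹) := by
        rw [commutatorElement_def]; group
    _ = g * k * ((k⁻¹ * g⁻¹) * t * (k⁻¹ * g⁻¹)⁻¹) * (g⁻¹ * k⁻¹) := by rw [h2]
    _ = t * ⁅g, k⁆ := by rw [commutatorElement_def]; group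

/-- A side with `D` not invariant lies on one of the two series. -/
theorem side_cases {E D : Subgroup G} {X : Type*} [Group X] [Finite X] (s : Side p B E X)
    {T c H A : Subgroup G} [c.Normal] (hTel : Elem p T) (hc : Nat.card c = p) (hcT : c ≤ T)
    (hHT : H ≤ T) (hHc : ∀ h ∈ H, ∀ g : G, ⁅g, h⁆ ∈ c)
    (hA : ∀ g : G, (∀ t ∈ T, ⁅g, t⁆ ∈ c) → g ∈ A)
    (hD : ∀ g ∈ D, (∀ t ∈ T, ⁅g, t⁆ ∈ c) ∧ ∀ h ∈ H, Commute g h)
    (hTD : T ≤ D) (hDE : D ≤ E) (hTi : s.Inv T) (hnot : ¬ s.Inv D)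
    (hEc : Nat.card E = p * Nat.card D) : E ≤ A ∨ E ≤ centralizer (H : Set G) := by
  have hp1 := hp.out.one_lt
  obtain ⟨z, a, ha, hb⟩ : ∃ (z : X) (a : E), (a : G) ∈ D ∧ s.img z a ∉ D := by
    by_contra h
    push Not at h
    exact hnot h
  have hgen := eq_sup_zpowers hDE hEc (s.img_mem z a) hb
  rw [← hgen]
  by_cases hax : ∀ h ∈ H, Commute (s.img z a) h
  · exact Or.inr (sup_le (fun v hv => mem_centralizer_iff.2 fun h hh => ((hD v hv).2 h hh).symm)
      (zpowers_le.2 (mem_centralizer_iff.2 fun h hh => (hax h hh).symm)))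
  · left
    refine sup_le (fun v hv => hA v (hD v hv).1) (zpowers_le.2 (hA _ ?_))
    push Not at hax
    obtain ⟨h, hh, hnc⟩ := hax
    have hTE : T ≤ E := hTD.trans hDE
    have hcE : c ≤ E := hcT.trans hTE
    obtain ⟨c₀, hc₀, hc₀1⟩ : ∃ v ∈ c, v ≠ 1 := (bot_or_exists_ne_one c).resolve_left fun e => by
      rw [e, card_bot] at hc; omega
    set L := zpowers (s.img z ⟨c₀, hcE hc₀⟩) with hL
    have hline : ∀ t ∈ T, ⁅s.img z a, t⁆ ∈ L := by
      intro t ht
      obtain ⟨i', hi'⟩ := mem_zpowers_iff.1 ((eq_zpowers_of_card_prime hc hc₀ hc₀1).ge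
        ((hD _ ha).1 _ (hTi z⁻¹ ⟨t, hTE ht⟩ ht)))
      have h1 : s.img z ⁅a, s.act z⁻¹ ⟨t, hTE ht⟩⁆ = s.img z (⟨c₀, hcE hc₀⟩ ^ i') :=
        congrArg (s.img z) (Subtype.ext hi'.symm)
      rw [map_commutatorElement, ← Side.img_mul, mul_inv_cancel, Side.img_one, map_zpow] at h1
      exact h1 ▸ zpow_mem (mem_zpowers _) i'
    have hcL : L ≤ c := by
      have h1 := hline h (hHT hh)
      have h2 : ⁅s.img z a, h⁆ ∈ c := hHc h hh _
      have h3 : ⁅s.img z a, h⁆ ≠ 1 := fun e => hnc (commutatorElement_eq_one_iff_commute.1 e)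
      have hLc : Nat.card L = p := by
        rw [hL, Nat.card_zpowers]
        refine orderOf_eq_of_pow ?_ ?_
        · rw [← map_pow, show (⟨c₀, hcE hc₀⟩ : E) ^ p = 1 from
            Subtype.ext (hTel.2 c₀ (hcT hc₀)), map_one]
        · intro e
          exact hc₀1 (congrArg Subtype.val
            ((s.act z).injective (Subtype.ext e |>.trans (map_one (s.act z)).symm)) :)
      exact le_of_card_prime hLc h1 h2 h3
    exact fun t ht => hcL (hline t ht)

/-- The data of a linear configuration over an elementary abelian invariant subgroup. -/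
structure TriData (s₁ : Side p B₁ E₁ X₁) (s₂ : Side p B₂ E₂ X₂) (T : Subgroup G) : Prop where
  hG : IsPGroup p G
  odd : p ≠ 2
  rank : Cfsg.SectionalPRankLE p 3 G
  top : E₁ ⊔ E₂ = ⊤
  elem : Elem p T
  le : T ≤ E₁ ⊓ E₂
  inv₁ : s₁.Inv T
  inv₂ : s₂.Inv T
  cardD : Nat.card ↥(E₁ ⊓ E₂) = p * Nat.card T
  card₁ : Nat.card E₁ = p * Nat.card ↥(E₁ ⊓ E₂)
  card₂ : Nat.card E₂ = p * Nat.card ↥(E₁ ⊓ E₂)
  fd₁ : FD p E₁ ≤ T
  fd₂ : FD p E₂ ≤ T
  comm : ∀ g h : G, ⁅g, h⁆ ∈ E₁ ⊓ E₂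
  cent : ∀ g : G, ∀ d ∈ E₁ ⊓ E₂, ⁅g, d⁆ ∈ T
  nonab : ∃ g h : G, ⁅g, h⁆ ∉ T
  not_inv₁ : ¬ s₁.Inv (E₁ ⊓ E₂)
  not_inv₂ : ¬ s₂.Inv (E₁ ⊓ E₂)

namespace TriData

variable {s₁ : Side p B₁ E₁ X₁} {s₂ : Side p B₂ E₂ X₂} {T : Subgroup G} (d : TriData s₁ s₂ T)

include d in
theorem swap : TriData s₂ s₁ T where
  hG := d.hG
  odd := d.odd
  rank := d.rank
  top := by rw [sup_comm]; exact d.top
  elem := d.elem
  le := by rw [inf_comm]; exact d.le
  inv₁ := d.inv₂
  inv₂ := d.inv₁
  cardD := by rw [inf_comm]; exact d.cardD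
  card₁ := by rw [inf_comm]; exact d.card₂
  card₂ := by rw [inf_comm]; exact d.card₁
  fd₁ := d.fd₂
  fd₂ := d.fd₁
  comm := by rw [inf_comm]; exact d.comm
  cent := by rw [inf_comm]; exact d.cent
  nonab := d.nonab
  not_inv₁ := by rw [inf_comm]; exact d.not_inv₂
  not_inv₂ := by rw [inf_comm]; exact d.not_inv₁

include d in
/-- The side acting with a fixed centre cannot exist. -/
theorem false_of_centre (hTc : Nat.card T = p ^ 3) {c H : Subgroup G} [c.Normal] [H.Normal]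
    (hc : Nat.card c = p) (hcT : c ≤ T) (hcdef : ∀ t, t ∈ c ↔ t ∈ T ∧ ∀ g : G, Commute g t)
    (hHc : Nat.card H = p ^ 2) (hcH : c ≤ H) (hHdef : ∀ t, t ∈ H ↔ t ∈ T ∧ ∀ g : G, ⁅g, t⁆ ∈ c)
    (hK : ∀ g : G, (∀ t ∈ T, ⁅g, t⁆ ∈ c) → (∀ h ∈ H, Commute g h) → g ∈ E₁ ⊓ E₂)
    (hDK : ∀ g ∈ E₁ ⊓ E₂, (∀ t ∈ T, ⁅g, t⁆ ∈ c) ∧ ∀ h ∈ H, Commute g h)
    (hTK : ∀ g : G, (∀ t ∈ T, Commute g t) → g ∈ T)
    (hA : ∀ e ∈ E₁, ∀ t ∈ T, ⁅e, t⁆ ∈ c) : False := by
  have hp1 := hp.out.one_lt
  have hG := d.hG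
  haveI := s₁.normal
  have hTn : T.Normal := d.inv₁.normal (d.le.trans inf_le_left)
  have hTE : T ≤ E₁ := d.le.trans inf_le_left
  have hHT : H ≤ T := fun t ht => ((hHdef t).1 ht).1
  set D := E₁ ⊓ E₂ with hD
  have hDn : D.Normal := by
    haveI := s₂.normal
    exact Subgroup.normal_inf_normal _ _
  obtain ⟨b, hb, hbD⟩ : ∃ b ∈ E₁, b ∉ D := by
    by_contra h
    push Not at h
    have := Subgroup.card_le_of_le (show E₁ ≤ D from h)
    rw [d.card₁] at this
    nlinarith [Nat.card_pos (α := D)]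
  -- the centre line is invariant
  have hcinv : s₁.Inv c := by
    have hle : ⁅E₁, T⁆ ≤ c := commutator_le.2 hA
    have hne : ⁅E₁, T⁆ ≠ ⊥ := fun h => hbD (d.le (hTK b fun t ht =>
      commutatorElement_eq_one_iff_commute.1 (by
        rw [← mem_bot, ← h]; exact commutator_mem_commutator hb ht)))
    have : ⁅E₁, T⁆ = c := eq_of_le_of_card_ge hle (by
      rw [hc]; exact prime_le_card hG hne)
    rw [← this]
    exact s₁.inv_self.commutator le_rfl d.inv₁ hTE
  obtain ⟨a, ha, haT⟩ : ∃ a ∈ D, a ∉ T := by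
    by_contra h
    push Not at h
    have := Subgroup.card_le_of_le (show D ≤ T from h)
    rw [d.cardD] at this
    nlinarith [Nat.card_pos (α := T)]
  have hgenD : T ⊔ zpowers a = D := eq_sup_zpowers d.le d.cardD ha haT
  -- powers
  have hap : a ^ p ∈ c := by
    have haT' : a ^ p ∈ T := d.fd₁ (mem_sup_right (subset_closure ⟨a, (mem_inf.1 ha).1, rfl⟩))
    refine (hcdef _).2 ⟨haT', fun g => ?_⟩
    have ht : ⁅g, a⁆ ∈ T := d.cent g a ha
    have hz : ⁅a, ⁅g, a⁆⁆ ∈ c := (hDK a ha).1 _ ht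
    have hcz : ∀ w : G, Commute w ⁅a, ⁅g, a⁆⁆ := ((hcdef _).1 hz).2
    have h1 := RankThree.mul_pow_mod d.odd (⊥ : Subgroup G) (x := ⁅g, a⁆) (y := a)
      (mem_bot.2 (commutatorElement_eq_one_iff_commute.2 (hcz _).symm))
      (mem_bot.2 (commutatorElement_eq_one_iff_commute.2 (hcz _).symm))
      (mem_bot.2 (d.elem.2 _ (hcT hz)))
    have h2 : (⁅g, a⁆ * a) ^ p = a ^ p := by
      have h3 := mem_bot.1 (QuotientGroup.eq.1 h1)
      rw [inv_mul_eq_one, d.elem.2 _ ht, one_mul] at h3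
      exact h3
    rw [commutatorElement_def, inv_mul_cancel_right, conj_pow] at h2
    exact mul_inv_eq_iff_eq_mul.1 h2
  let P₁ : Subgroup G :=
    { carrier := {e | e ∈ E₁ ∧ e ^ p ∈ c}
      one_mem' := ⟨one_mem _, by rw [one_pow]; exact one_mem _⟩
      mul_mem' := fun {u v} hu hv => by
        refine ⟨mul_mem hu.1 hv.1, ?_⟩
        have ht : ⁅v, u⁆ ∈ T := d.fd₁ (mem_sup_left (commutator_mem_commutator hv.1 hu.1))
        have hswap : ∀ e ∈ E₁, ⁅⁅v, u⁆, e⁆ ∈ c := fun e he => by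
          rw [← commutatorElement_inv]; exact inv_mem (hA e he _ ht)
        have h1 := RankThree.mul_pow_mod d.odd c (x := u) (y := v) (hswap u hu.1) (hswap v hv.1)
          (by rw [d.elem.2 _ ht]; exact one_mem _)
        rw [← QuotientGroup.eq_one_iff]
        show QuotientGroup.mk' c ((u * v) ^ p) = 1
        rw [h1]
        exact (QuotientGroup.eq_one_iff _).2 (mul_mem hu.2 hv.2)
      inv_mem' := fun {u} hu => ⟨inv_mem hu.1, by rw [inv_pow]; exact inv_mem hu.2⟩ }
  have hP₁ : P₁ = E₁ := by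
    have hDP : D ≤ P₁ := by
      rw [← hgenD]
      refine sup_le (fun t ht => ⟨hTE ht, by rw [d.elem.2 t ht]; exact one_mem _⟩) (zpowers_le.2 ?_)
      exact ⟨(mem_inf.1 ha).1, hap⟩
    by_contra hne
    refine d.not_inv₁ (?_ : s₁.Inv D)
    have : P₁ = D := by
      by_contra hne'
      obtain ⟨v, hv, hvD⟩ := SetLike.exists_of_lt (lt_of_le_of_ne hDP (Ne.symm hne'))
      refine hne (le_antisymm (fun e he => he.1) ?_)
      rw [← eq_sup_zpowers (inf_le_left : D ≤ E₁) d.card₁ hv.1 hvD]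
      exact sup_le hDP (zpowers_le.2 hv)
    intro z e he
    rw [← this] at he ⊢
    exact ⟨s₁.img_mem z e, by
      rw [← map_pow]; exact hcinv z (e ^ p) he.2⟩
  -- the derived subgroup
  set π := QuotientGroup.mk' c with hπ
  have hmod : ∀ {v : G}, v ∈ c → π v = 1 := fun hv => (QuotientGroup.eq_one_iff _).2 hv
  have hcomm : ∀ e ∈ E₁, ∀ t ∈ T, Commute (π e) (π t) := fun e he t ht => by
    rw [← commutatorElement_eq_one_iff_commute, ← map_commutatorElement]
    exact hmod (hA e he t ht)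
  have hDab : ∀ u ∈ D, ∀ v ∈ D, Commute (π u) (π v) := by
    have hle : (T ⊔ zpowers a).map π ≤ centralizer ((T ⊔ zpowers a).map π : Set (G ⧸ c)) := by
      have hgen : ∀ u ∈ (T : Set G) ∪ {a}, ∀ v ∈ (T : Set G) ∪ {a}, Commute (π u) (π v) := by
        rintro u hu v (hv | hv)
        · rcases hu with hu | hu
          · exact hcomm u (hTE hu) v hv
          · rw [Set.mem_singleton_iff.1 hu]; exact hcomm a (mem_inf.1 ha).1 v hv
        · rw [Set.mem_singleton_iff.1 hv]
          rcases hu with hu | hu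
          · exact (hcomm a (mem_inf.1 ha).1 u hu).symm
          · rw [Set.mem_singleton_iff.1 hu]
      have e : T ⊔ zpowers a = closure ((T : Set G) ∪ {a}) := by
        rw [Subgroup.closure_union, closure_eq, ← zpowers_eq_closure]
      rw [e, MonoidHom.map_closure, centralizer_closure, closure_le]
      rintro _ ⟨v, hv, rfl⟩
      rw [SetLike.mem_coe, mem_centralizer_iff]
      rintro _ ⟨u, hu, rfl⟩
      exact (hgen u hu v hv).eq
    rw [hgenD] at hle
    exact fun u hu v hv => (mem_centralizer_iff.1 (hle (mem_map_of_mem π hu)) _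
      (mem_map_of_mem π hv)).symm
  have hderH : ⁅E₁, E₁⁆ ≤ H := by
    haveI : c.Normal := inferInstance
    have hgen' : ∀ v ∈ D, ⁅b, v⁆ ∈ H := by
      intro v hv
      have hbv : ⁅b, v⁆ ∈ T := d.cent b v hv
      refine (hHdef _).2 ⟨hbv, fun g => ?_⟩
      have hle : (⊤ : Subgroup G) ≤ (centralizer {π ⁅b, v⁆}).comap π := by
        rw [← d.top]
        refine sup_le (fun e he => mem_centralizer_singleton_iff.2 (hcomm e he _ hbv).eq) fun x hx => ?_
        refine mem_centralizer_singleton_iff.2 ?_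
        show π x * π ⁅b, v⁆ = π ⁅b, v⁆ * π x
        rw [← mul_inv_eq_iff_eq_mul, ← map_inv, ← map_mul, ← map_mul,
          show x * ⁅b, v⁆ * x⁻¹ = ⁅⁅x, b⁆ * b, ⁅x, v⁆ * v⁆ by
            simp only [commutatorElement_def]; group]
        have hd : ⁅x, b⁆ ∈ D := d.comm x b
        have ht : ⁅x, v⁆ ∈ T := d.cent x v hv
        rw [map_commutatorElement, map_mul π ⁅x, b⁆, map_mul π ⁅x, v⁆]
        have c1 : Commute (π b) (π ⁅x, v⁆) := hcomm b hb _ ht
        have c2 : Commute (π ⁅x, b⁆) (π ⁅x, v⁆) := hDab _ hd _ (d.le ht)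
        have c3 : Commute (π ⁅x, b⁆) (π v) := hDab _ hd _ hv
        have c4 : Commute (π ⁅x, b⁆) (π ⁅b, v⁆) := hDab _ hd _ (d.le hbv)
        have e1 : ⁅π b, π ⁅x, v⁆ * π v⁆ = ⁅π b, π v⁆ := by
          rw [comm_mul_of_central (by
            rw [← map_commutatorElement]
            exact hDab _ (d.le ht) _ (d.le hbv)), commutatorElement_eq_one_iff_commute.2 c1, one_mul]
        rw [map_commutatorElement π b v] at c4
        rw [comm_mul_left_of_central (by rw [e1]; exact c4), e1,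
          commutatorElement_eq_one_iff_commute.2 (c2.mul_right c3), mul_one, map_commutatorElement]
      have h1 := mem_centralizer_singleton_iff.1 (mem_comap.1 (hle (mem_top g)))
      rw [← commutatorElement_eq_one_iff_mul_comm, ← map_commutatorElement] at h1
      exact (QuotientGroup.eq_one_iff _).1 h1
    -- generated modulo `c` by the intersection and `b`
    have hH' : ∀ u ∈ D, ∀ v ∈ D, ⁅u, v⁆ ∈ H := fun u hu v hv => hcH (by
      rw [← QuotientGroup.eq_one_iff]
      show π ⁅u, v⁆ = 1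
      rw [map_commutatorElement, commutatorElement_eq_one_iff_commute]
      exact hDab u hu v hv)
    set ρ := QuotientGroup.mk' H
    refine commutator_le.2 fun u hu v hv => ?_
    have hgen : E₁.map ρ ≤ centralizer (E₁.map ρ : Set (G ⧸ H)) := by
      have e : E₁ = closure ((D : Set G) ∪ {b}) := by
        rw [Subgroup.closure_union, closure_eq, ← zpowers_eq_closure]
        exact (eq_sup_zpowers inf_le_left d.card₁ hb hbD).symm
      rw [e, MonoidHom.map_closure, centralizer_closure, closure_le]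
      rintro _ ⟨q, hq, rfl⟩
      rw [SetLike.mem_coe, mem_centralizer_iff]
      rintro _ ⟨r, hr, rfl⟩
      rw [← commutatorElement_eq_one_iff_mul_comm, ← map_commutatorElement]
      refine (QuotientGroup.eq_one_iff _).2 ?_
      rcases hr with hr | hr <;> rcases hq with hq | hq
      · exact hH' r hr q hq
      · rw [Set.mem_singleton_iff.1 hq, ← commutatorElement_inv]; exact inv_mem (hgen' r hr)
      · rw [Set.mem_singleton_iff.1 hr]; exact hgen' q hq
      · rw [Set.mem_singleton_iff.1 hr, Set.mem_singleton_iff.1 hq, commutatorElement_self]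
        exact one_mem _
    have h1 := mem_centralizer_iff.1 (hgen (mem_map_of_mem ρ hu)) _ (mem_map_of_mem ρ hv)
    rw [eq_comm, ← commutatorElement_eq_one_iff_mul_comm, ← map_commutatorElement] at h1
    exact (QuotientGroup.eq_one_iff _).1 h1
  have hder : ⁅E₁, E₁⁆ ≤ c := by
    by_contra hnot
    set J := c ⊔ ⁅E₁, E₁⁆
    have hJH : J = H := by
      refine eq_of_le_of_card_ge (sup_le hcH hderH) ?_
      have h1 := card_mul_le_of_lt hG
        (lt_of_le_of_ne (le_sup_left : c ≤ J) fun h => hnot (le_sup_right.trans h.ge))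
      rw [hc] at h1
      rw [hHc, pow_two]
      exact h1
    have hHi : s₁.Inv H := by
      rw [← hJH]
      exact hcinv.sup (hcT.trans hTE) (s₁.inv_self.commutator le_rfl s₁.inv_self le_rfl)
        (commutator_le.2 fun u hu v hv => mul_mem (mul_mem (mul_mem hu hv) (inv_mem hu)) (inv_mem hv))
    let C : Subgroup G := E₁ ⊓ centralizer (H : Set G)
    have hC : C = D := by
      refine le_antisymm (fun e he => hK e (hA e (mem_inf.1 he).1) fun h hh => ?_) fun e he => ?_
      · exact ((mem_centralizer_iff.1 (mem_inf.1 he).2) h hh).symm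
      · exact mem_inf.2 ⟨(mem_inf.1 he).1,
          mem_centralizer_iff.2 fun h hh => ((hDK e he).2 h hh).symm⟩
    refine d.not_inv₁ (hC ▸ ?_ : s₁.Inv D)
    intro z e he
    refine mem_inf.2 ⟨s₁.img_mem z e, mem_centralizer_iff.2 fun h hh => ?_⟩
    have hhE : h ∈ E₁ := hTE (hHT hh)
    have h1 : Commute (s₁.act z⁻¹ ⟨h, hhE⟩) e := Subtype.ext
      (mem_centralizer_iff.1 (mem_inf.1 he).2 _ (hHi z⁻¹ ⟨h, hhE⟩ hh))
    have h2 := h1.map (s₁.img z)
    rwa [← Side.img_mul, mul_inv_cancel, Side.img_one] at h2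
  have hFD : FD p E₁ ≤ c := sup_le hder ((closure_le _).2 (by
    rintro _ ⟨e, he, rfl⟩
    exact (hP₁.ge he).2))
  have hle := card_le_of_FD_le d.rank (hcT.trans hTE) hFD
  rw [d.card₁, d.cardD, hTc, hc] at hle
  have : p ^ 5 ≤ p ^ 4 := by
    calc p ^ 5 = p * (p * p ^ 3) := by ring
      _ ≤ p ^ 3 * p := hle
      _ = p ^ 4 := by ring
  have := (Nat.pow_le_pow_iff_right hp1).1 this
  omega

include d in
/-- A faithful action on the elementary abelian subgroup is impossible. -/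
theorem false_of_faithful (hTK : ∀ g : G, (∀ t ∈ T, Commute g t) → g ∈ T) : False := by
  have hp1 := hp.out.one_lt
  have hG := d.hG
  haveI := s₁.normal
  haveI := s₂.normal
  have hTn : T.Normal := d.inv₁.normal (d.le.trans inf_le_left)
  obtain ⟨g₀, h₀, hgh⟩ := d.nonab
  set c := T ⊓ center G with hcdef
  haveI : c.Normal := inferInstance
  have hc_mem : ∀ t, t ∈ c ↔ t ∈ T ∧ ∀ g : G, Commute g t := fun t =>
    and_congr_right fun _ => mem_center_iff
  set H := Side.central T c with hH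
  have hH_mem : ∀ t, t ∈ H ↔ t ∈ T ∧ ∀ g : G, ⁅g, t⁆ ∈ c := fun t => Side.mem_central
  have hHn : H.Normal := by
    refine ⟨fun n hn g => ?_⟩
    obtain ⟨hn1, hn2⟩ := (hH_mem n).1 hn
    have : g * n * g⁻¹ = ⁅g, n⁆ * n := by rw [commutatorElement_def, inv_mul_cancel_right]
    rw [this]
    refine mul_mem ?_ hn
    exact Side.le_central inf_le_left (hn2 g)
  have hcH : c ≤ H := Side.le_central inf_le_left
  have hHT : H ≤ T := inf_le_left
  have hHne : H ≠ T := fun h => hgh (hTK _ fun t ht =>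
    commute_comm (fun g => (mem_inf.1 (((hH_mem t).1 (h.ge ht)).2 g)).2) g₀ h₀)
  have hTne : T ≠ ⊥ := fun h => hHne (le_antisymm hHT (h.le.trans bot_le))
  obtain ⟨z, hz, hzc, hz1⟩ := exists_omegaCenter_mem hG T hTne
  have hcne : c ≠ ⊥ := fun h => hz1 (by rw [← mem_bot, ← h]; exact mem_inf.2 ⟨hz, hzc.1⟩)
  have hclt : c < T := lt_of_le_of_lt hcH (lt_of_le_of_ne hHT hHne)
  have hlt : c < H := Side.lt_central hG hclt
  have e1 := card_mul_le_of_lt hG hlt
  have e2 := card_mul_le_of_lt hG (lt_of_le_of_ne hHT hHne)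
  have e3 := d.elem.card_le d.rank
  have e0 := prime_le_card hG hcne
  obtain ⟨i, hi⟩ := exists_card hG c
  obtain ⟨j, hj⟩ := exists_card hG H
  obtain ⟨k, hk⟩ := exists_card hG T
  rw [hi, hj, ← pow_succ, Nat.pow_le_pow_iff_right hp1] at e1
  rw [hj, hk, ← pow_succ, Nat.pow_le_pow_iff_right hp1] at e2
  rw [hk, Nat.pow_le_pow_iff_right hp1] at e3
  have hi0 : i ≠ 0 := fun h => by rw [hi, h, pow_zero] at e0; omega
  have hc : Nat.card c = p := by rw [hi, show i = 1 by omega, pow_one]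
  have hHc : Nat.card H = p ^ 2 := by rw [hj, show j = 2 by omega]
  have hTc : Nat.card T = p ^ 3 := by rw [hk, show k = 3 by omega]
  -- the transvections with centre `c` and axis `H`
  set π := QuotientGroup.mk' c with hπ
  let A : Subgroup G := (centralizer (T.map π : Set (G ⧸ c))).comap π
  have hAmem : ∀ {g : G}, g ∈ A ↔ ∀ t ∈ T, ⁅g, t⁆ ∈ c := by
    intro g
    show π g ∈ centralizer (T.map π : Set (G ⧸ c)) ↔ _
    rw [mem_centralizer_iff]
    constructor
    · intro h t ht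
      rw [← QuotientGroup.eq_one_iff]
      show π ⁅g, t⁆ = 1
      rw [map_commutatorElement, commutatorElement_eq_one_iff_mul_comm]
      exact (h _ (mem_map_of_mem π ht)).symm
    · rintro h _ ⟨t, ht, rfl⟩
      rw [eq_comm, ← commutatorElement_eq_one_iff_mul_comm, ← map_commutatorElement]
      exact (QuotientGroup.eq_one_iff _).2 (h t ht)
  let K : Subgroup G := A ⊓ centralizer (H : Set G)
  have hKmem : ∀ {g : G}, g ∈ K ↔ (∀ t ∈ T, ⁅g, t⁆ ∈ c) ∧ ∀ h ∈ H, Commute g h := fun {g} =>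
    ⟨fun hg => ⟨hAmem.1 (mem_inf.1 hg).1,
      fun h hh => (mem_centralizer_iff.1 (mem_inf.1 hg).2 h hh).symm⟩,
      fun hg => mem_inf.2 ⟨hAmem.2 hg.1, mem_centralizer_iff.2 fun h hh => (hg.2 h hh).symm⟩⟩
  have hTK' : T ≤ K := fun v hv => hKmem.2 ⟨fun t ht => by
    rw [commutatorElement_eq_one_iff_commute.2 (d.elem.1 v hv t ht)]; exact one_mem _,
    fun h hh => d.elem.1 v hv h (hHT hh)⟩
  obtain ⟨w, hw, hwH⟩ := SetLike.exists_of_lt (lt_of_le_of_ne hHT hHne)
  have hgenT : H ⊔ zpowers w = T := eq_sup_zpowers hHT (by rw [hTc, hHc]; ring) hw hwH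
  have hKcard : Nat.card K ≤ p * Nat.card T := by
    let f : K →* c := MonoidHom.mk' (fun v => ⟨⁅(v : G), w⁆, (hKmem.1 v.2).1 w hw⟩)
      fun u v => Subtype.ext (by
        show ⁅(u : G) * v, w⁆ = ⁅(u : G), w⁆ * ⁅(v : G), w⁆
        rw [comm_mul_left_of_central (((hc_mem _).1 ((hKmem.1 v.2).1 w hw)).2 _),
          (((hc_mem _).1 ((hKmem.1 v.2).1 w hw)).2 _).eq.symm])
    have hker : Nat.card f.ker ≤ Nat.card T := by
      refine Nat.card_le_card_of_injective (fun v => ⟨((v : K) : G), hTK _ fun t ht => ?_⟩) ?_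
      · have h1 : Commute ((v : K) : G) w :=
          commutatorElement_eq_one_iff_commute.1 (congrArg Subtype.val v.2)
        have hle : H ⊔ zpowers w ≤ centralizer {((v : K) : G)} := sup_le
          (fun h hh => mem_centralizer_singleton_iff.2 (((hKmem.1 (v : K).2).2 h hh).symm.eq))
          (zpowers_le.2 (mem_centralizer_singleton_iff.2 h1.symm.eq))
        exact (mem_centralizer_singleton_iff.1 (hle (hgenT.ge ht))).symm
      · intro u v h
        exact Subtype.ext (Subtype.ext (congrArg Subtype.val h :))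
    have h3 := Subgroup.card_le_of_le (le_top : f.range ≤ ⊤)
    rw [card_top, hc] at h3
    rw [← f.ker.index_mul_card, index_ker]
    exact Nat.mul_le_mul h3 hker
  have hcomK : ∀ g h : G, ⁅g, h⁆ ∈ K := fun g h => by
    refine hKmem.2 ⟨fun t ht => ?_, fun v hv => commute_comm
      (fun u => (mem_inf.1 (((hH_mem v).1 hv).2 u)).2) g h⟩
    rw [← QuotientGroup.eq_one_iff]
    show π ⁅⁅g, h⁆, t⁆ = 1
    rw [map_commutatorElement, map_commutatorElement, commutatorElement_eq_one_iff_commute]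
    refine commute_comm (fun u => ?_) _ _
    obtain ⟨u, rfl⟩ := QuotientGroup.mk'_surjective c u
    rw [← map_commutatorElement, mem_center_iff]
    intro v
    obtain ⟨v, rfl⟩ := QuotientGroup.mk'_surjective c v
    rw [← commutatorElement_eq_one_iff_mul_comm, ← map_commutatorElement]
    refine (QuotientGroup.eq_one_iff _).2 (((hH_mem _).1 ?_).2 v)
    exact comm_mem_of_card hG hHT (by rw [hTc, hHc]; ring) ht
  have hDK : K = E₁ ⊓ E₂ := by
    have hDle : E₁ ⊓ E₂ ≤ K := by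
      rw [← eq_sup_zpowers d.le d.cardD (d.comm g₀ h₀) hgh]
      exact sup_le hTK' (zpowers_le.2 (hcomK g₀ h₀))
    exact (eq_of_le_of_card_ge hDle (hKcard.trans d.cardD.ge)).symm
  have hsd : ∀ g ∈ E₁ ⊓ E₂, (∀ t ∈ T, ⁅g, t⁆ ∈ c) ∧ ∀ h ∈ H, Commute g h :=
    fun g hg => hKmem.1 (hDK.ge hg)
  have hA₁ := side_cases s₁ d.elem hc inf_le_left hHT (fun h hh g => ((hH_mem h).1 hh).2 g)
    (fun g hg => hAmem.2 hg) hsd d.le inf_le_left d.inv₁ d.not_inv₁ d.card₁
  have hA₂ := side_cases s₂ d.elem hc inf_le_left hHT (fun h hh g => ((hH_mem h).1 hh).2 g)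
    (fun g hg => hAmem.2 hg) hsd d.le inf_le_right d.inv₂ d.not_inv₂ d.card₂
  rcases hA₁ with h₁ | h₁
  · exact d.false_of_centre hTc hc inf_le_left hc_mem hHc hcH hH_mem
      (fun g hg hg' => hDK.le (hKmem.2 ⟨hg, hg'⟩)) (fun g hg => hKmem.1 (hDK.ge hg)) hTK
      fun e he => hAmem.1 (h₁ he)
  rcases hA₂ with h₂ | h₂
  · refine d.swap.false_of_centre hTc hc inf_le_left hc_mem hHc hcH hH_mem
      (fun g hg hg' => ?_) (fun g hg => ?_) hTK fun e he => hAmem.1 (h₂ he)
    · rw [inf_comm]; exact hDK.le (hKmem.2 ⟨hg, hg'⟩)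
    · rw [inf_comm] at hg; exact hKmem.1 (hDK.ge hg)
  refine absurd (Subgroup.card_le_of_le (?_ : H ≤ c)) (by rw [hHc, hc, not_le, pow_two]; nlinarith)
  intro v hv
  refine (hc_mem v).2 ⟨hHT hv, fun g => ?_⟩
  have hg : g ∈ centralizer (H : Set G) := (d.top.ge.trans (sup_le h₁ h₂)) (mem_top g)
  exact (mem_centralizer_iff.1 hg v hv).symm

end TriData

end CfsgLib.Fusion.TwoInvariant
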