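import Cfsg.Agent.Fusion.TwoInvariant.SympTop
import Cfsg.Agent.Fusion.TwoInvariant.TriFaithful
import Cfsg.Agent.Fusion.TwoInvariant.TriCentral

/-!
Reduction of two sides to the symplectic configuration or to a central invariant subgroup.
-/

set_option autoImplicit false
set_option linter.unusedSectionVars false
set_option linter.style.haveILetI false

open Subgroup
open scoped commutatorElement

namespace CfsgLib.Fusion.TwoInvariant

variable {G : Type*} [Group G] [Finite G] {p : ℕ} [hp : Fact p.Prime] {B B₁ B₂ : Subgroup (MulAut G)}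
  {E₁ E₂ : Subgroup G} {X₁ X₂ : Type*} [Group X₁] [Group X₂] [Finite X₁] [Finite X₂]

/-- Images of two subgroups containing the kernel meet in the image of their meet. -/
theorem map_inf_mk {N : Subgroup G} [N.Normal] {H K : Subgroup G} (hK : N ≤ K) :
    H.map (QuotientGroup.mk' N) ⊓ K.map (QuotientGroup.mk' N) =
      (H ⊓ K).map (QuotientGroup.mk' N) := by
  refine le_antisymm ?_ (Subgroup.map_inf_le H K _)
  rintro _ ⟨⟨a, ha, rfl⟩, hb⟩
  refine mem_map_of_mem _ (mem_inf.2 ⟨ha, ?_⟩)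
  obtain ⟨b, hb, hba⟩ := hb
  have h : b⁻¹ * a ∈ N := QuotientGroup.eq.1 hba
  have := mul_mem hb (hK h)
  rwa [mul_inv_cancel_left] at this

theorem mem_map_mk {N H : Subgroup G} [N.Normal] (hN : N ≤ H) {g : G} :
    QuotientGroup.mk' N g ∈ H.map (QuotientGroup.mk' N) ↔ g ∈ H := by
  rw [← mem_comap, comap_map_eq, QuotientGroup.ker_mk', sup_eq_left.2 hN]

theorem binv_sup {T : Subgroup G} (h₁ : BInv B₁ T) (h₂ : BInv B₂ T) : BInv (B₁ ⊔ B₂) T := by
  let St : Subgroup (MulAut G) :=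
    { carrier := {β | T.map β.toMonoidHom = T}
      one_mem' := by ext x; simp
      mul_mem' := fun {a b} ha hb => by
        show T.map (a * b).toMonoidHom = T
        rw [show (a * b).toMonoidHom = a.toMonoidHom.comp b.toMonoidHom from rfl, ← Subgroup.map_map,
          hb, ha]
      inv_mem' := fun {a} ha => by
        show T.map a⁻¹.toMonoidHom = T
        conv_lhs => rw [← ha]
        rw [Subgroup.map_map]
        ext x
        simp }
  have hle : B₁ ⊔ B₂ ≤ St := sup_le (fun β hβ => h₁.eq hβ) (fun β hβ => h₂.eq hβ)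
  exact fun β hβ t ht => (hle hβ).le ⟨t, ht, rfl⟩

theorem coprimary_quot {T : Subgroup G} [T.Normal] (h₁ : BInv B₁ T) (h₂ : BInv B₂ T)
    (hA : Coprimary p (B₁ ⊔ B₂)) :
    Coprimary p ((quotHom h₁).range ⊔ (quotHom h₂).range) := by
  have h := binv_sup h₁ h₂
  have hle : (quotHom h₁).range ⊔ (quotHom h₂).range ≤ (quotHom h).range := sup_le
    (by rintro _ ⟨β, rfl⟩; exact ⟨⟨β, mem_sup_left β.2⟩, rfl⟩)
    (by rintro _ ⟨β, rfl⟩; exact ⟨⟨β, mem_sup_right β.2⟩, rfl⟩)
  intro v hv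
  obtain ⟨δ, rfl⟩ := hle hv
  obtain ⟨m, hm, g, hg⟩ := hA δ δ.2
  refine ⟨m, hm, QuotientGroup.mk' T g, ?_⟩
  rw [← map_pow]
  refine MulEquiv.ext fun w => ?_
  obtain ⟨w, rfl⟩ := QuotientGroup.mk'_surjective T w
  rw [quotHom_apply, SubgroupClass.coe_pow, ← hg]
  rfl

theorem FD_map_le {W : Type*} [Group W] (f : G →* W) (E : Subgroup G) :
    FD p (E.map f) ≤ (FD p E).map f := by
  refine sup_le ?_ ((closure_le _).2 ?_)
  · rw [← Subgroup.map_commutator]
    exact Subgroup.map_mono le_sup_left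
  · rintro _ ⟨_, ⟨a, ha, rfl⟩, rfl⟩
    exact ⟨a ^ p, mem_sup_right (subset_closure ⟨a, ha, rfl⟩), map_pow f a p⟩

namespace Setup

variable (P : Setup p B₁ B₂ E₁ E₂ X₁ X₂)

include P in
theorem comm_mem (g h : G) : ⁅g, h⁆ ∈ E₁ ⊓ E₂ := by
  haveI := P.s₁.normal
  haveI := P.s₂.normal
  have key : ∀ {E : Subgroup G} [E.Normal], E.index = p → ⁅g, h⁆ ∈ E := fun {E} _ hE =>
    comm_mem_of_card P.hG (le_top : E ≤ ⊤) (by rw [card_top, ← E.index_mul_card, hE]) (mem_top h)
  exact mem_inf.2 ⟨key P.s₁.index_eq, key P.s₂.index_eq⟩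

/-- A pair with no nontrivial common invariant subgroup in the intersection. -/
def pairOfMax (hmax : ∀ H : Subgroup G, H ≤ E₁ ⊓ E₂ → P.s₁.Inv H → P.s₂.Inv H → H = ⊥) :
    Pair p B₁ B₂ E₁ E₂ X₁ X₂ where
  s₁ := P.s₁
  s₂ := P.s₂
  ne := P.ne
  hG := P.hG
  odd := P.odd
  rank := P.rank
  cop := P.cop
  max := hmax
  cyc₁ h := absurd h P.nd₁
  cyc₂ h := absurd h P.nd₂

/-- The pair modulo the largest common invariant subgroup. -/
noncomputable def pairQuot {T : Subgroup G} [T.Normal] (hT : T ≤ E₁ ⊓ E₂) (i₁ : P.s₁.Inv T)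
    (i₂ : P.s₂.Inv T)
    (hmax : ∀ H : Subgroup G, T ≤ H → H ≤ E₁ ⊓ E₂ → P.s₁.Inv H → P.s₂.Inv H → H = T) :
    Pair p (quotHom (i₁.binv (hT.trans inf_le_left))).range
      (quotHom (i₂.binv (hT.trans inf_le_right))).range (Side.projE E₁ T).range
      (Side.projE E₂ T).range (P.s₁.quotAct i₁).range (P.s₂.quotAct i₂).range where
  s₁ := P.s₁.quot P.hG i₁ (hT.trans inf_le_left)
  s₂ := P.s₂.quot P.hG i₂ (hT.trans inf_le_right)
  ne := fun h => P.ne (by
    rw [Side.projE_range, Side.projE_range] at h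
    have := congrArg (Subgroup.comap (QuotientGroup.mk' T)) h
    rwa [comap_map_eq, comap_map_eq, QuotientGroup.ker_mk', sup_eq_left.2 (hT.trans inf_le_left),
      sup_eq_left.2 (hT.trans inf_le_right)] at this)
  hG := P.hG.to_quotient T
  odd := P.odd
  rank := CfsgLib.TwoMetacyclic.sectional_quotient P.rank T
  cop := coprimary_quot _ _ P.cop
  max H hH h₁ h₂ := by
    set π := QuotientGroup.mk' T
    have hsurj : (H.comap π).map π = H :=
      map_comap_eq_self_of_surjective (QuotientGroup.mk'_surjective T) H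
    have hTH : T ≤ H.comap π := fun t ht => by
      rw [mem_comap, show π t = 1 from (QuotientGroup.eq_one_iff t).2 ht]; exact one_mem H
    have hle : H.comap π ≤ E₁ ⊓ E₂ := fun v hv => by
      have h := hH (mem_comap.1 hv)
      rw [Side.projE_range, Side.projE_range] at h
      exact mem_inf.2 ⟨(mem_map_mk (hT.trans inf_le_left)).1 (mem_inf.1 h).1,
        (mem_map_mk (hT.trans inf_le_right)).1 (mem_inf.1 h).2⟩
    rw [← hsurj] at h₁ h₂ ⊢
    rw [hmax _ hTH hle ((P.s₁.quot_inv_iff P.hG i₁ (hT.trans inf_le_left) hTH).1 h₁)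
      ((P.s₂.quot_inv_iff P.hG i₂ (hT.trans inf_le_right) hTH).1 h₂)]
    exact (Subgroup.map_eq_bot_iff T).2 (by rw [QuotientGroup.ker_mk'])
  cyc₁ h := P.s₁.isCyclic_of_quot_deg P.hG P.rank P.nd₁ i₁ (hT.trans inf_le_left) h
  cyc₂ h := P.s₂.isCyclic_of_quot_deg P.hG P.rank P.nd₂ i₂ (hT.trans inf_le_right) h

/-- The linear configuration has rank two. -/
theorem rank_two_of_tri {Q : Pair p B₁ B₂ E₁ E₂ X₁ X₂} (h : Q.Tri) : Cfsg.SectionalPRankLE p 2 G := by
  have hp1 := hp.out.one_lt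
  intro H N _ A hA hAp
  have hA1 : Nat.card A ≤ N.index := by
    rw [Subgroup.index_eq_card]; exact Nat.card_le_card_of_injective _ A.subtype_injective
  have hH : Nat.card H ≤ p ^ 3 := h.cardG ▸ Nat.card_le_card_of_injective _ H.subtype_injective
  have hHN := N.index_mul_card
  obtain ⟨n, hn⟩ := exists_card Q.hG (N.map H.subtype)
  rw [card_map_of_injective H.subtype_injective] at hn
  obtain ⟨a, ha⟩ := IsPGroup.iff_card.1 (((Q.hG.to_subgroup H).to_quotient N).to_subgroup A)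
  rw [ha]
  refine Nat.pow_le_pow_right hp.out.pos (not_lt.1 fun hlt => ?_)
  have h3 : p ^ 3 ≤ p ^ a := Nat.pow_le_pow_right hp.out.pos hlt
  have h1 : p ^ 3 * Nat.card N ≤ p ^ 3 := by
    refine le_trans ?_ hH
    rw [← hHN]
    exact Nat.mul_le_mul_right _ (h3.trans (ha ▸ hA1))
  have hN1 : N = ⊥ := Subgroup.card_eq_one.1 (le_antisymm
    (Nat.le_of_mul_le_mul_left (by rwa [mul_one]) (pow_pos hp.out.pos 3)) Nat.card_pos)
  have hHt : H = ⊤ := by
    refine eq_of_le_of_card_ge le_top ?_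
    rw [card_top, h.cardG, ← hHN, hN1, card_bot, mul_one]
    exact h3.trans (ha ▸ (hN1 ▸ hA1))
  have hAt : A = ⊤ := by
    refine eq_of_le_of_card_ge le_top ?_
    rw [card_top, ha, ← Subgroup.index_eq_card]
    refine le_trans ?_ h3
    rw [← Nat.mul_le_mul_right_iff (Nat.card_pos (α := N)), hHN, hN1, card_bot, mul_one]
    exact hH
  have hab : ∀ u v : G, Commute u v := by
    intro u v
    have h1 := hA.is_comm.comm ⟨QuotientGroup.mk' N ⟨u, hHt ▸ mem_top u⟩, hAt ▸ mem_top _⟩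
      ⟨QuotientGroup.mk' N ⟨v, hHt ▸ mem_top v⟩, hAt ▸ mem_top _⟩
    have h2 : QuotientGroup.mk' N ⟨u * v, hHt ▸ mem_top _⟩ =
        QuotientGroup.mk' N ⟨v * u, hHt ▸ mem_top _⟩ := congrArg Subtype.val h1
    have h3 := QuotientGroup.eq.1 h2
    rw [hN1, mem_bot, inv_mul_eq_one] at h3
    exact congrArg Subtype.val h3
  have hZ : E₁ ⊓ E₂ = ⊤ := by
    rw [h.inf_eq]
    exact top_le_iff.1 fun u _ => mem_center_iff.2 fun v => (hab v u).eq
  have hc := h.card_inf
  rw [hZ, card_top, h.cardG] at hc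
  exact (lt_self_pow₀ hp1 (by norm_num)).ne hc.symm

variable {P}

/-- The linear configuration over a subgroup is faithful or central. -/
theorem TriTop.dichotomy {T : Subgroup G} (d : P.TriTop T) :
    ∀ g : G, ∀ t ∈ T, ⁅g, t⁆ ∈ FD p T := by
  haveI := d.normal
  have hp1 := hp.out.one_lt
  have hG := P.hG
  have hT₁ : T ≤ E₁ := d.le.trans inf_le_left
  have hT₂ : T ≤ E₂ := d.le.trans inf_le_right
  set N := FD p T with hN
  have hNT : N ≤ T := FD_le T
  have j₁ : P.s₁.Inv N := d.inv₁.fd hT₁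
  have j₂ : P.s₂.Inv N := d.inv₂.fd hT₂
  haveI := j₁.normal (hNT.trans hT₁)
  set π := QuotientGroup.mk' N with hπ
  let C : Subgroup G := (centralizer (T.map π : Set (G ⧸ N))).comap π
  have hC : ∀ {g : G}, g ∈ C ↔ ∀ t ∈ T, ⁅g, t⁆ ∈ N := by
    intro g
    show π g ∈ centralizer (T.map π : Set (G ⧸ N)) ↔ _
    rw [mem_centralizer_iff]
    constructor
    · intro h t ht
      rw [← QuotientGroup.eq_one_iff]
      show π ⁅g, t⁆ = 1
      rw [map_commutatorElement, commutatorElement_eq_one_iff_mul_comm]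
      exact (h _ (mem_map_of_mem π ht)).symm
    · rintro h _ ⟨t, ht, rfl⟩
      rw [eq_comm, ← commutatorElement_eq_one_iff_mul_comm, ← map_commutatorElement]
      exact (QuotientGroup.eq_one_iff _).2 (h t ht)
  by_contra hnot
  have hTC : T ≤ C := fun v hv => hC.2 fun t ht =>
    mem_sup_left (commutator_mem_commutator hv ht)
  haveI : C.Normal := inferInstance
  have key : ∀ {E : Subgroup G} {X : Type _} [Group X] [Finite X] (s : Side p B₁ E X),
      s.Inv T → T ≤ E → s.Inv (C ⊓ E) := by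
    intro E X _ _ s hi hTE z e he
    refine mem_inf.2 ⟨hC.2 fun t ht => ?_, s.img_mem z e⟩
    have h1 : ⁅(e : G), s.img z⁻¹ ⟨t, hTE ht⟩⁆ ∈ N :=
      hC.1 (mem_inf.1 he).1 _ (hi z⁻¹ ⟨t, hTE ht⟩ ht)
    have h2 := hi.fd hTE z ⁅e, s.act z⁻¹ ⟨t, hTE ht⟩⁆ h1
    rwa [map_commutatorElement, ← Side.img_mul, mul_inv_cancel, Side.img_one] at h2
  have hCT : C = T := by
    by_contra hne
    refine hnot fun g t ht => ?_
    have hlt : T < C := lt_of_le_of_ne hTC (Ne.symm hne)
    have := hG.isNilpotent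
    obtain ⟨v, hvC, hvT, hvc⟩ := CfsgLib.PGroupBasic.exists_central_mod T C hlt
    obtain ⟨b, hb, hb₂⟩ := P.swap.exists_mem
    obtain ⟨x, hx, hx₁⟩ := P.exists_mem
    have hvD : v ∈ E₁ ⊓ E₂ := by
      have hxD := P.not_mem_inf₁ hx₁
      have hbD : b ∉ E₁ ⊓ E₂ := fun h => hb₂ (mem_inf.1 h).2
      haveI := P.s₁.normal
      haveI := P.inf_normal
      obtain ⟨e, he, w, hw, rfl⟩ := (mem_sup_of_normal_left).1
        ((sup_zpowers_eq_top P.s₁.index_eq hx₁).ge (mem_top v))
      obtain ⟨i, rfl⟩ := mem_zpowers_iff.1 hw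
      by_contra hvD
      have hcm : ∀ g : G, Commute (QuotientGroup.mk' T g) (QuotientGroup.mk' T (e * x ^ i)) :=
        fun g => Commute.symm (by
          rw [← commutatorElement_eq_one_iff_commute, ← map_commutatorElement]
          exact (QuotientGroup.eq_one_iff _).2 (by rw [commutatorElement_def]; exact hvc g))
      by_cases hxi : x ^ i ∈ E₁ ⊓ E₂
      · have heE : e * x ^ i ∈ E₁ := mul_mem he (mem_inf.1 hxi).1
        refine d.nonab' heE hvD hx hxD ?_
        rw [← QuotientGroup.eq_one_iff]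
        show QuotientGroup.mk' T ⁅x, e * x ^ i⁆ = 1
        rw [map_commutatorElement, commutatorElement_eq_one_iff_commute]
        exact hcm x
      · have hxiE : x ^ i ∈ E₂ := zpow_mem hx i
        refine d.nonab' hb hbD hxiE hxi ?_
        rw [← commutatorElement_inv b (x ^ i)]
        refine inv_mem ?_
        rw [← QuotientGroup.eq_one_iff]
        show QuotientGroup.mk' T ⁅b, x ^ i⁆ = 1
        rw [map_commutatorElement, commutatorElement_eq_one_iff_commute]
        have hbe : Commute (QuotientGroup.mk' T b) (QuotientGroup.mk' T e) := by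
          rw [← commutatorElement_eq_one_iff_commute, ← map_commutatorElement]
          exact (QuotientGroup.eq_one_iff _).2
            (d.fd₁ (mem_sup_left (commutator_mem_commutator hb he)))
        have h3 := (hbe.inv_right).mul_right (hcm b)
        rwa [← map_inv, ← map_mul, inv_mul_cancel_left] at h3
    have hDC : E₁ ⊓ E₂ ≤ C := by
      rw [← eq_sup_zpowers d.le d.cardD hvD hvT]
      exact sup_le hTC (zpowers_le.2 hvC)
    have h₁ : E₁ ≤ C := by
      obtain ⟨u, hu, huD⟩ := SetLike.exists_of_lt (lt_of_le_of_ne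
        (le_inf hDC inf_le_left : E₁ ⊓ E₂ ≤ C ⊓ E₁)
        fun h => d.not_inv₁ (h ▸ key P.s₁ d.inv₁ hT₁))
      rw [← P.sup_zpowers₁ (mem_inf.1 hu).2 huD]
      exact sup_le hDC (zpowers_le.2 (mem_inf.1 hu).1)
    have h₂ : E₂ ≤ C := by
      have hkey : P.s₂.Inv (C ⊓ E₂) := by
        intro z e he
        refine mem_inf.2 ⟨hC.2 fun t ht => ?_, P.s₂.img_mem z e⟩
        have h1 : ⁅(e : G), P.s₂.img z⁻¹ ⟨t, hT₂ ht⟩⁆ ∈ N :=
          hC.1 (mem_inf.1 he).1 _ (d.inv₂ z⁻¹ ⟨t, hT₂ ht⟩ ht)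
        have h2 := j₂ z ⁅e, P.s₂.act z⁻¹ ⟨t, hT₂ ht⟩⁆ h1
        rwa [map_commutatorElement, ← Side.img_mul, mul_inv_cancel, Side.img_one] at h2
      obtain ⟨u, hu, huD⟩ := SetLike.exists_of_lt (lt_of_le_of_ne
        (le_inf hDC inf_le_right : E₁ ⊓ E₂ ≤ C ⊓ E₂) fun h => d.not_inv₂ (h ▸ hkey))
      rw [← P.sup_zpowers₂ (mem_inf.1 hu).2 huD]
      exact sup_le hDC (zpowers_le.2 (mem_inf.1 hu).1)
    exact hC.1 ((P.sup_eq_top.ge.trans (sup_le h₁ h₂)) (mem_top g)) t ht
  -- the faithful case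
  have hinf : (Side.projE E₁ N).range ⊓ (Side.projE E₂ N).range = (E₁ ⊓ E₂).map π := by
    rw [Side.projE_range, Side.projE_range, map_inf_mk (hNT.trans hT₂)]
  have hcard : ∀ {H : Subgroup G}, T ≤ H → ∀ {m : ℕ} {K : Subgroup G}, T ≤ K →
      Nat.card H = m * Nat.card K → Nat.card (H.map π) = m * Nat.card (K.map π) := by
    intro H hH m K hK h
    rw [card_eq_card_map_mul (hNT.trans hH), card_eq_card_map_mul (hNT.trans hK), ← mul_assoc] at h
    exact Nat.eq_of_mul_eq_mul_right Nat.card_pos h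
  have hni : ∀ {H : Subgroup G}, N ≤ H → ∀ {g : G}, π g ∈ H.map π ↔ g ∈ H := fun hH => mem_map_mk hH
  have dq : TriData (P.s₁.quot hG j₁ (hNT.trans hT₁)) (P.s₂.quot hG j₂ (hNT.trans hT₂))
      (T.map π) := by
    refine
      { hG := hG.to_quotient N
        odd := P.odd
        rank := CfsgLib.TwoMetacyclic.sectional_quotient P.rank N
        top := ?_
        elem := elem_map_FD T le_rfl
        le := hinf.ge.trans' (Subgroup.map_mono d.le)
        inv₁ := (P.s₁.quot_inv_iff hG j₁ _ hNT).2 d.inv₁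
        inv₂ := (P.s₂.quot_inv_iff hG j₂ _ hNT).2 d.inv₂
        cardD := ?_
        card₁ := ?_
        card₂ := ?_
        fd₁ := ?_
        fd₂ := ?_
        comm := ?_
        cent := ?_
        nonab := ?_
        not_inv₁ := ?_
        not_inv₂ := ?_ }
    · rw [Side.projE_range, Side.projE_range, ← Subgroup.map_sup, P.sup_eq_top,
        Subgroup.map_top_of_surjective π (QuotientGroup.mk'_surjective N)]
    · rw [hinf]; exact hcard d.le le_rfl d.cardD
    · rw [hinf, Side.projE_range]; exact hcard hT₁ d.le P.card₁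
    · rw [hinf, Side.projE_range]; exact hcard hT₂ d.le P.card₂
    · rw [Side.projE_range]; exact (FD_map_le π E₁).trans (Subgroup.map_mono d.fd₁)
    · rw [Side.projE_range]; exact (FD_map_le π E₂).trans (Subgroup.map_mono d.fd₂)
    · intro g h
      obtain ⟨g, rfl⟩ := QuotientGroup.mk'_surjective N g
      obtain ⟨h, rfl⟩ := QuotientGroup.mk'_surjective N h
      rw [← map_commutatorElement, hinf]
      exact mem_map_of_mem π (P.comm_mem g h)
    · rw [hinf]
      rintro g _ ⟨u, hu, rfl⟩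
      obtain ⟨g, rfl⟩ := QuotientGroup.mk'_surjective N g
      rw [← map_commutatorElement]
      exact mem_map_of_mem π (d.cent g u hu)
    · obtain ⟨g, h, hgh⟩ := d.nonab
      refine ⟨π g, π h, fun hm => hgh ?_⟩
      rw [← map_commutatorElement] at hm
      exact (hni hNT).1 hm
    · rw [hinf]
      exact fun h => d.not_inv₁ ((P.s₁.quot_inv_iff hG j₁ _ (hNT.trans d.le)).1 h)
    · rw [hinf]
      exact fun h => d.not_inv₂ ((P.s₂.quot_inv_iff hG j₂ _ (hNT.trans d.le)).1 h)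
  refine dq.false_of_faithful fun g hg => ?_
  obtain ⟨g, rfl⟩ := QuotientGroup.mk'_surjective N g
  refine mem_map_of_mem π (hCT.le (hC.2 fun t ht => ?_))
  rw [← QuotientGroup.eq_one_iff]
  show π ⁅g, t⁆ = 1
  rw [map_commutatorElement, commutatorElement_eq_one_iff_commute]
  exact hg _ (mem_map_of_mem π ht)

variable (P)

/-- What remains of a setup. -/
structure Residue (T : Subgroup G) : Prop where
  ne_bot : T ≠ ⊥
  tri : P.TriTop T
  inf_central : E₁ ⊓ E₂ ≤ center G
  central : T ≤ center G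
  pow : ∀ g : G, ∃ t ∈ T, t ^ p = g ^ p

theorem false_of_symp_pair {T : Subgroup G} [T.Normal] (hT : T ≤ E₁ ⊓ E₂) (i₁ : P.s₁.Inv T)
    (i₂ : P.s₂.Inv T) (hTne : T ≠ ⊥)
    (hmax : ∀ H : Subgroup G, T ≤ H → H ≤ E₁ ⊓ E₂ → P.s₁.Inv H → P.s₂.Inv H → H = T)
    (h : (P.pairQuot hT i₁ i₂ hmax).Symp) : False := by
  have hT₁ : T ≤ E₁ := hT.trans inf_le_left
  have hT₂ : T ≤ E₂ := hT.trans inf_le_right
  refine P.false_of_symp_quot hT i₁ i₂ hTne (Side.projE_range E₁ T ▸ h.elem₁) ?_ (fun H hTH hH hi => ?_)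
    fun hi => ?_
  · rw [card_eq_card_map_mul hT₁, ← Side.projE_range, h.card₁']
  · have h1 := h.irred (H.map (QuotientGroup.mk' T))
      ((Subgroup.map_mono hH).trans (Side.projE_range E₁ T).ge)
      ((P.s₁.quot_inv_iff P.hG i₁ hT₁ hTH).2 hi)
    by_cases hb : H.map (QuotientGroup.mk' T) = ⊥
    · left
      rw [Subgroup.map_eq_bot_iff, QuotientGroup.ker_mk'] at hb
      exact le_antisymm hb hTH
    · right
      refine le_antisymm hH fun e he => ?_
      exact (mem_map_mk hTH).1 ((h1 hb).ge ⟨⟨e, he⟩, rfl⟩)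
  · refine h.not_inv₂ ?_
    have e : (Side.projE E₁ T).range ⊓ (Side.projE E₂ T).range =
        (E₁ ⊓ E₂).map (QuotientGroup.mk' T) := by
      rw [Side.projE_range, Side.projE_range, map_inf_mk hT₂]
    exact e.symm ▸ (P.s₂.quot_inv_iff P.hG i₂ hT₂ hT).2 hi

/-- The alternatives for a setup in rank exactly three. -/
theorem reduce (hr2 : ¬ Cfsg.SectionalPRankLE p 2 G) :
    (∃ hmax, (P.pairOfMax hmax).Symp ∨ (P.pairOfMax hmax).swap.Symp) ∨ ∃ T, P.Residue T := by
  have hp1 := hp.out.one_lt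
  have hG := P.hG
  obtain ⟨T, hTmax⟩ := (Set.toFinite {H : Subgroup G | H ≤ E₁ ⊓ E₂ ∧ P.s₁.Inv H ∧ P.s₂.Inv H}
    ).exists_maximal ⟨⊥, bot_le, P.s₁.inv_bot, P.s₂.inv_bot⟩
  obtain ⟨hT, i₁, i₂⟩ := hTmax.prop
  have hT₁ : T ≤ E₁ := hT.trans inf_le_left
  have hT₂ : T ≤ E₂ := hT.trans inf_le_right
  have hmax : ∀ H : Subgroup G, T ≤ H → H ≤ E₁ ⊓ E₂ → P.s₁.Inv H → P.s₂.Inv H → H = T :=
    fun H hTH hH h₁ h₂ => le_antisymm (hTmax.2 ⟨hH, h₁, h₂⟩ hTH) hTH
  rcases eq_or_ne T ⊥ with hTb | hTb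
  · left
    have hmax0 : ∀ H : Subgroup G, H ≤ E₁ ⊓ E₂ → P.s₁.Inv H → P.s₂.Inv H → H = ⊥ :=
      fun H hH h₁ h₂ => (hmax H (hTb.le.trans bot_le) hH h₁ h₂).trans hTb
    refine ⟨hmax0, ?_⟩
    rcases (P.pairOfMax hmax0).classify with h | h | h | h
    · exact (P.false_of_inv_inf (h ▸ P.s₁.inv_bot) (h ▸ P.s₂.inv_bot)).elim
    · exact absurd (rank_two_of_tri h) hr2
    · exact Or.inl h
    · exact Or.inr h
  right
  haveI := i₁.normal hT₁
  set π := QuotientGroup.mk' T with hπ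
  have hinf : (Side.projE E₁ T).range ⊓ (Side.projE E₂ T).range = (E₁ ⊓ E₂).map π := by
    rw [Side.projE_range, Side.projE_range, map_inf_mk hT₂]
  rcases (P.pairQuot hT i₁ i₂ hmax).classify with h | h | h | h
  · rw [hinf, Subgroup.map_eq_bot_iff, QuotientGroup.ker_mk'] at h
    have he : E₁ ⊓ E₂ = T := le_antisymm h hT
    exact (P.false_of_inv_inf (he.symm ▸ i₁) (he.symm ▸ i₂)).elim
  · have d : P.TriTop T := by
      refine
        { le := hT
          inv₁ := i₁
          inv₂ := i₂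
          cardD := ?_
          fd₁ := FD_le_of_elem (Side.projE_range E₁ T ▸ h.elem₁)
          fd₂ := FD_le_of_elem (Side.projE_range E₂ T ▸ h.elem₂)
          cent := fun g u hu => ?_
          nonab := ?_
          not_inv₁ := fun hi => h.not_inv₁ (hinf ▸ (P.s₁.quot_inv_iff hG i₁ hT₁ hT).2 hi)
          not_inv₂ := fun hi => h.not_inv₂ (hinf ▸ (P.s₂.quot_inv_iff hG i₂ hT₂ hT).2 hi) }
      · rw [card_eq_card_map_mul hT, ← hπ, ← hinf, h.card_inf]
      · have hc : π u ∈ center (G ⧸ T) := by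
          rw [← h.inf_eq, hinf]; exact mem_map_of_mem π hu
        rw [← QuotientGroup.eq_one_iff]
        show π ⁅g, u⁆ = 1
        rw [map_commutatorElement, commutatorElement_eq_one_iff_mul_comm]
        exact mem_center_iff.1 hc _
      · by_contra hne
        push Not at hne
        have hc : center (G ⧸ T) = ⊤ := by
          refine top_le_iff.1 fun w _ => mem_center_iff.2 fun v => ?_
          obtain ⟨w, rfl⟩ := QuotientGroup.mk'_surjective T w
          obtain ⟨v, rfl⟩ := QuotientGroup.mk'_surjective T v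
          rw [← commutatorElement_eq_one_iff_mul_comm, ← map_commutatorElement]
          exact (QuotientGroup.eq_one_iff _).2 (hne v w)
        have h1 := h.card_inf
        rw [h.inf_eq, hc, card_top, h.cardG] at h1
        exact (lt_self_pow₀ hp1 (by norm_num)).ne h1.symm
    have hK := d.dichotomy
    exact ⟨T, hTb, d, d.inf_central hK, d.central hK, d.pow_all hK⟩
  · exact (P.false_of_symp_pair hT i₁ i₂ hTb hmax h).elim
  · refine (P.swap.false_of_symp_pair (by rw [inf_comm]; exact hT) i₂ i₁ hTb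
      (fun H h1 h2 h₁ h₂ => hmax H h1 (by rw [inf_comm]; exact h2) h₂ h₁) h).elim

end Setup

end CfsgLib.Fusion.TwoInvariant
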