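import Cfsg.Agent.Fusion.TwoInvariant.Quotient
import Cfsg.Agent.Fusion.RankThree.Chain
import Cfsg.Agent.Solvable.TwoMetacyclic

/-!
Invariant series from the Frattini subgroup, and quotients on which the conjugations become normal.
-/

set_option autoImplicit false
set_option linter.unusedSectionVars false
set_option linter.style.haveILetI false

open Subgroup
open scoped commutatorElement

namespace CfsgLib.Fusion.TwoInvariant

variable {G : Type*} [Group G] [Finite G] {p : ℕ} [hp : Fact p.Prime]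

theorem map_frattini_eq_FD (hG : IsPGroup p G) (E : Subgroup G) :
    (frattini E).map E.subtype = FD p E := by
  have hfr := CfsgLib.PGroupBasic.commutator_pow_le_frattini (hG.to_subgroup E)
  refine le_antisymm ?_ ?_
  · haveI : ((FD p E).subgroupOf E).Normal := by
      refine ⟨fun n hn g => ?_⟩
      rw [mem_subgroupOf] at hn ⊢
      have h1 : ⁅(g : G), (n : G)⁆ ∈ FD p E := mem_sup_left (commutator_mem_commutator g.2 n.2)
      have h2 := mul_mem h1 hn
      rwa [commutatorElement_def, inv_mul_cancel_right] at h2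
    refine map_le_iff_le_comap.2 (CfsgLib.PGroupBasic.frattini_le_of_elementary (p := p)
      ((FD p E).subgroupOf E) ?_ fun x => mem_sup_right (subset_closure ⟨(x : G), x.2, rfl⟩))
    rw [_root_.commutator_def]
    exact commutator_le.2 fun a _ b _ => mem_sup_left (commutator_mem_commutator a.2 b.2)
  · refine sup_le (commutator_le.2 fun a ha b hb => ?_) ((closure_le _).2 ?_)
    · exact ⟨⁅(⟨a, ha⟩ : E), ⟨b, hb⟩⁆,
        hfr.1 (by rw [_root_.commutator_def]; exact commutator_mem_commutator (mem_top _) (mem_top _)),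
        rfl⟩
    · rintro _ ⟨a, ha, rfl⟩
      exact ⟨(⟨a, ha⟩ : E) ^ p, hfr.2 _, rfl⟩

/-- The order of a subgroup from its image modulo a normal subgroup inside it. -/
theorem card_eq_card_map_mul {E H : Subgroup G} [H.Normal] (hle : H ≤ E) :
    Nat.card E = Nat.card (E.map (QuotientGroup.mk' H)) * Nat.card H := by
  have h1 := (E.map (QuotientGroup.mk' H)).index_mul_card
  rw [index_map_eq E (QuotientGroup.mk'_surjective H) (by rwa [QuotientGroup.ker_mk']),
    ← Subgroup.index_eq_card] at h1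
  have h2 := E.index_mul_card
  rw [← H.index_mul_card, ← h1, mul_assoc] at h2
  exact Nat.eq_of_mul_eq_mul_left (Nat.pos_of_ne_zero E.index_ne_zero_of_finite) h2

/-- Elementary sections have order at most `p ^ 3`. -/
theorem card_le_of_FD_le (hr : Cfsg.SectionalPRankLE p 3 G) {E H : Subgroup G} [H.Normal]
    (hle : H ≤ E) (h : FD p E ≤ H) : Nat.card E ≤ p ^ 3 * Nat.card H := by
  rw [card_eq_card_map_mul hle]
  exact Nat.mul_le_mul_right _
    ((elem_map_FD E h).card_le (CfsgLib.TwoMetacyclic.sectional_quotient hr H))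

variable {B : Subgroup (MulAut G)} {E : Subgroup G} {X : Type*} [Group X] [Finite X]
  (s : Side p B E X)

namespace Side

/-- An element stabilising an invariant chain that starts at the Frattini subgroup lies in `E`. -/
theorem mem_of_chain (hG : IsPGroup p G) (hnd : ¬ s.Deg) {m : ℕ} (D : Fin (m + 1) → Subgroup G)
    (h0 : D 0 = FD p E) (htop : D (Fin.last m) = E) (hle : ∀ i, D i ≤ E) (hinv : ∀ i, s.Inv (D i))
    {g : G} (hg : ∀ i : Fin m, ∀ e ∈ D i.succ, ⁅g, e⁆ ∈ D i.castSucc) : g ∈ E := by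
  haveI : ∀ i, (D i).Normal := fun i => (hinv i).normal (hle i)
  let N : Subgroup X :=
    { carrier := {y | ∀ i : Fin m, ∀ e : E, (e : G) ∈ D i.succ →
        s.img y e * (e : G)⁻¹ ∈ D i.castSucc}
      one_mem' := fun i e _ => by rw [img_one, mul_inv_cancel]; exact one_mem _
      mul_mem' := fun {a b} ha hb i e he => by
        rw [img_mul, show s.img a (s.act b e) * (e : G)⁻¹ =
          (s.img a (s.act b e) * ((s.act b e : E) : G)⁻¹) * (s.img b e * (e : G)⁻¹) by
            rw [img_apply s b e]; group]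
        exact mul_mem (ha i _ (hinv _ b e he)) (hb i e he)
      inv_mem' := fun {a} ha i e he => by
        have := inv_mem (ha i (s.act a⁻¹ e) (hinv _ a⁻¹ e he))
        rw [← img_mul, mul_inv_cancel, img_one, mul_inv_rev, inv_inv] at this
        exact this }
  have hNn : N.Normal := ⟨fun n hn x i e he => by
    have h2 := hn i (s.act x⁻¹ e) (hinv _ x⁻¹ e he)
    have h3 : s.img x (s.act n (s.act x⁻¹ e) * (s.act x⁻¹ e)⁻¹) ∈ D i.castSucc := hinv _ x _ h2
    rw [map_mul (s.img x), map_inv (s.img x), ← img_mul, ← img_mul, ← img_mul, mul_inv_cancel,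
      img_one] at h3
    exact h3⟩
  refine s.mem_of_pgroup_image hG hnd N ?_ (g := g) fun i e he => by
    rw [img_conj]; exact hg i e he
  have hEp := hG.to_subgroup E
  rintro ⟨_, a, ha, rfl⟩
  have h0' : (D 0).subgroupOf E = frattini E := by
    rw [h0, ← map_frattini_eq_FD hG, subgroupOf,
      comap_map_eq_self_of_injective E.subtype_injective]
  obtain ⟨k, hk⟩ := RankThree.trivial_mod_frattini hEp (s.act a) (fun i => (D i).subgroupOf E)
    (fun i x hx => hinv i a x hx) h0' (fun i x hx => by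
      have h1 := Normal.conj_mem (inferInstance : (D i.castSucc).Normal) _ (ha i x hx) (x : G)⁻¹
      rw [mem_subgroupOf]
      have e : (((x⁻¹ * s.act a x : E)) : G) =
          (x : G)⁻¹ * (s.img a x * (x : G)⁻¹) * ((x : G)⁻¹)⁻¹ := by
        rw [img_apply]; push_cast; group
      rw [e]
      exact h1) (Fin.last m)
  have hmem : s.act a ^ p ^ k ∈ CfsgLib.MetacyclicAut.frattiniKernel E := fun x => by
    haveI : (frattini E).Normal := inferInstance
    exact (inferInstance : (frattini E).Normal).mem_comm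
      (hk x (mem_subgroupOf.2 (htop.ge x.2)))
  obtain ⟨j, hj⟩ := CfsgLib.MetacyclicAut.isPGroup_frattiniKernel hEp ⟨_, hmem⟩
  refine ⟨k + j, Subtype.ext ?_⟩
  rw [SubgroupClass.coe_pow, pow_add, pow_mul]
  exact congrArg Subtype.val hj

/-- The elements of `E` central modulo a subgroup. -/
def central (E H : Subgroup G) [H.Normal] : Subgroup G :=
  E ⊓ (center (G ⧸ H)).comap (QuotientGroup.mk' H)

theorem mem_central {H : Subgroup G} [H.Normal] {e : G} :
    e ∈ central E H ↔ e ∈ E ∧ ∀ g : G, ⁅g, e⁆ ∈ H := by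
  refine and_congr_right fun _ => ?_
  show QuotientGroup.mk' H e ∈ center (G ⧸ H) ↔ _
  rw [mem_center_iff]
  constructor
  · intro h g
    rw [← QuotientGroup.eq_one_iff]
    show QuotientGroup.mk' H ⁅g, e⁆ = 1
    rw [map_commutatorElement, commutatorElement_eq_one_iff_mul_comm]
    exact h _
  · intro h w
    obtain ⟨g, rfl⟩ := QuotientGroup.mk'_surjective H w
    rw [← commutatorElement_eq_one_iff_mul_comm, ← map_commutatorElement]
    exact (QuotientGroup.eq_one_iff _).2 (h g)

include s in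
theorem binv_central {H : Subgroup G} [H.Normal] (hH : BInv B H) : BInv B (central E H) := by
  intro β hβ e he
  rw [mem_central] at he ⊢
  refine ⟨s.binv_self β hβ e he.1, fun g => ?_⟩
  obtain ⟨g, rfl⟩ := β.surjective g
  rw [← map_commutatorElement]
  exact hH β hβ _ (he.2 g)

theorem le_central {H : Subgroup G} [H.Normal] (hle : H ≤ E) : H ≤ central E H := fun h hh =>
  mem_central.2 ⟨hle hh, fun g => by
    rw [commutatorElement_def]
    exact mul_mem (Normal.conj_mem inferInstance h hh g) (inv_mem hh)⟩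

theorem lt_central (hG : IsPGroup p G) [E.Normal] {H : Subgroup G} [H.Normal] (hlt : H < E) :
    H < central E H := by
  have := hG.isNilpotent
  obtain ⟨x, hx, hxH, hxc⟩ := CfsgLib.PGroupBasic.exists_central_mod H E hlt
  refine lt_of_le_of_ne (le_central hlt.le) fun h => hxH (h.ge (mem_central.2 ⟨hx, fun g => ?_⟩))
  rw [← commutatorElement_inv, commutatorElement_def]
  exact inv_mem (hxc g)

/-- Invariance from a quotient with normal conjugations. -/
theorem inv_of_quot_deg (hG : IsPGroup p G) {T : Subgroup G} [T.Normal] (hT : s.Inv T) (hle : T ≤ E)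
    (hdeg : (s.quot hG hT hle).Deg) {H : Subgroup G} (hTH : T ≤ H) (hB : BInv B H) : s.Inv H := by
  refine (s.quot_inv_iff hG hT hle hTH).1 ((s.quot hG hT hle).inv_of_deg (hG.to_quotient T) hdeg ?_)
  rintro _ ⟨β, rfl⟩ _ ⟨h, hh, rfl⟩
  exact ⟨_, hB _ β.2 h hh, rfl⟩

/-- A quotient with normal conjugations has cyclic image of `E`. -/
theorem isCyclic_of_quot_deg (hG : IsPGroup p G) (hr : Cfsg.SectionalPRankLE p 3 G) (hnd : ¬ s.Deg)
    {T : Subgroup G} [T.Normal] (hT : s.Inv T) (hle : T ≤ E) (hdeg : (s.quot hG hT hle).Deg) :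
    IsCyclic (projE E T).range := by
  have hp1 := hp.out.one_lt
  haveI := s.normal
  set H := T ⊔ FD p E with hHdef
  have hFi : s.Inv (FD p E) := s.inv_self.fd le_rfl
  have hH : s.Inv H := hT.sup hle hFi (FD_le _)
  have hHE : H ≤ E := sup_le hle (FD_le _)
  haveI := hH.normal hHE
  have hFn := hFi.normal (FD_le E)
  suffices hsm : Nat.card E ≤ p * Nat.card H by
    obtain ⟨v, hv, hgen⟩ : ∃ v ∈ E, E ≤ H ⊔ zpowers v := by
      by_cases hEH : E ≤ H
      · exact ⟨1, one_mem _, hEH.trans le_sup_left⟩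
      obtain ⟨v, hv, hvH⟩ := SetLike.not_le_iff_exists.1 hEH
      refine ⟨v, hv, ?_⟩
      have h1 := card_mul_le_of_lt hG (lt_of_le_of_ne hHE fun h => hEH h.ge)
      rw [eq_sup_zpowers hHE (le_antisymm hsm (by rwa [mul_comm] at h1)) hv hvH]
    have hE : T ⊔ zpowers v = E := eq_of_sup_FD hG (sup_le hle (zpowers_le.2 hv))
      (hgen.trans (by rw [hHdef, sup_comm T, sup_assoc]))
    rw [projE_range, ← hE, Subgroup.map_sup, (Subgroup.map_eq_bot_iff T).2 (by
      rw [QuotientGroup.ker_mk']), bot_sup_eq, MonoidHom.map_zpowers]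
    infer_instance
  by_contra hbig
  push Not at hbig
  obtain ⟨g, hg⟩ : ∃ g, g ∉ E := by
    by_contra h
    push Not at h
    have := s.index_eq
    rw [(eq_top_iff' E).2 h, index_top] at this
    exact hp1.ne this
  set Z₁ := central E H with hZ₁
  have hB₁ : BInv B Z₁ := s.binv_central (hH.binv hHE)
  haveI := hB₁.normal s.conj_mem
  set Z₂ := central E Z₁ with hZ₂
  have hB₂ : BInv B Z₂ := s.binv_central hB₁
  haveI := hB₂.normal s.conj_mem
  have h1 : H ≤ Z₁ := le_central hHE
  have h2 : Z₁ ≤ Z₂ := le_central inf_le_left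
  have h3 : Z₂ ≤ E := inf_le_left
  -- orders
  obtain ⟨a, ha⟩ := exists_card hG E
  obtain ⟨b, hb⟩ := exists_card hG H
  obtain ⟨c₁, hc₁⟩ := exists_card hG Z₁
  obtain ⟨c₂, hc₂⟩ := exists_card hG Z₂
  obtain ⟨f, hf⟩ := exists_card hG (FD p E)
  have d1 := card_le_of_FD_le hr hHE (le_sup_right : FD p E ≤ H)
  have d2 := card_le_of_FD_le hr (FD_le E) le_rfl
  have d3 := hbig
  have d4 := Subgroup.card_le_of_le (le_sup_right : FD p E ≤ H)
  have d5 := Subgroup.card_le_of_le h3
  have d6 := Subgroup.card_le_of_le h2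
  have d7 := Subgroup.card_le_of_le h1
  rw [hb, hf, Nat.pow_le_pow_iff_right hp1] at d4
  rw [hc₂, ha, Nat.pow_le_pow_iff_right hp1] at d5
  rw [hc₁, hc₂, Nat.pow_le_pow_iff_right hp1] at d6
  rw [hb, hc₁, Nat.pow_le_pow_iff_right hp1] at d7
  rw [ha, hb, ← pow_add, Nat.pow_le_pow_iff_right hp1] at d1
  rw [ha, hf, ← pow_add, Nat.pow_le_pow_iff_right hp1] at d2
  rw [ha, hb, mul_comm, ← pow_succ, Nat.pow_lt_pow_iff_right hp1] at d3
  have hstrict₁ : b + 1 ≤ c₁ := by
    have hlt : H < E := lt_of_le_of_ne hHE fun h => by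
      rw [h, ha, Nat.pow_right_inj hp1] at hb; omega
    have := card_mul_le_of_lt hG (lt_central hG hlt)
    rwa [hb, ← hZ₁, hc₁, ← pow_succ, Nat.pow_le_pow_iff_right hp1] at this
  have hstrict₂ : c₁ = a ∨ c₁ + 1 ≤ c₂ := by
    by_cases he : Z₁ = E
    · left; rw [he, ha, Nat.pow_right_inj hp1] at hc₁; omega
    right
    have := card_mul_le_of_lt hG (lt_central hG (lt_of_le_of_ne (h2.trans h3) he))
    rwa [hc₁, ← hZ₂, hc₂, ← pow_succ, Nat.pow_le_pow_iff_right hp1] at this
  refine hg (s.mem_of_chain hG hnd (m := 4) ![FD p E, H, Z₁, Z₂, E] rfl rfl ?_ ?_ (g := g) ?_)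
  · intro i
    fin_cases i
    exacts [FD_le E, hHE, h2.trans h3, h3, le_rfl]
  · intro i
    fin_cases i
    exacts [hFi, hH, s.inv_of_quot_deg hG hT hle hdeg (le_sup_left.trans h1) hB₁,
      s.inv_of_quot_deg hG hT hle hdeg ((le_sup_left.trans h1).trans h2) hB₂, s.inv_self]
  · intro i e he
    fin_cases i
    · show ⁅g, e⁆ ∈ FD p E
      by_cases heq : f = b
      · rw [eq_of_le_of_card_ge (le_sup_right : FD p E ≤ H) (by rw [hb, hf, heq])]
        rw [commutatorElement_def]
        exact mul_mem ((inferInstance : H.Normal).conj_mem e he g) (inv_mem he)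
      · exact comm_mem_of_card hG (le_sup_right : FD p E ≤ H)
          (by rw [hb, hf, show b = f + 1 by omega, pow_succ']) he
    · exact (mem_central.1 he).2 g
    · exact (mem_central.1 he).2 g
    · show ⁅g, e⁆ ∈ Z₂
      by_cases heq : c₂ = a
      · rw [eq_of_le_of_card_ge h3 (by rw [ha, hc₂, heq])]
        rw [commutatorElement_def]
        exact mul_mem ((inferInstance : E.Normal).conj_mem e he g) (inv_mem he)
      · exact comm_mem_of_card hG h3 (by rw [ha, hc₂, show a = c₂ + 1 by omega, pow_succ']) he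

end Side

end CfsgLib.Fusion.TwoInvariant
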