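import Cfsg.Agent.Fusion.TwoInvariant.Classify
import Cfsg.Agent.Fusion.TwoInvariant.Series

/-!
Two sides whose intersection may contain common invariant subgroups.
-/

set_option autoImplicit false
set_option linter.unusedSectionVars false
set_option linter.style.haveILetI false

open Subgroup
open scoped commutatorElement

namespace CfsgLib.Fusion.TwoInvariant

variable {G : Type*} [Group G] [Finite G] {p : ℕ} [hp : Fact p.Prime] {B B₁ B₂ : Subgroup (MulAut G)}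

/-- Two sides on which the conjugations are not normal. -/
structure Setup (p : ℕ) (B₁ B₂ : Subgroup (MulAut G)) (E₁ E₂ : Subgroup G) (X₁ X₂ : Type*) [Group X₁]
    [Group X₂] where
  s₁ : Side p B₁ E₁ X₁
  s₂ : Side p B₂ E₂ X₂
  ne : E₁ ≠ E₂
  hG : IsPGroup p G
  odd : p ≠ 2
  rank : Cfsg.SectionalPRankLE p 3 G
  cop : Coprimary p (B₁ ⊔ B₂)
  nd₁ : ¬ s₁.Deg
  nd₂ : ¬ s₂.Deg

variable {E₁ E₂ : Subgroup G} {X₁ X₂ : Type*} [Group X₁] [Group X₂] [Finite X₁] [Finite X₂]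
  (P : Setup p B₁ B₂ E₁ E₂ X₁ X₂)

namespace Setup

/-- The sides exchanged. -/
def swap : Setup p B₂ B₁ E₂ E₁ X₂ X₁ where
  s₁ := P.s₂
  s₂ := P.s₁
  ne := P.ne.symm
  hG := P.hG
  odd := P.odd
  rank := P.rank
  cop := by rw [sup_comm]; exact P.cop
  nd₁ := P.nd₂
  nd₂ := P.nd₁

include P in
theorem not_le : ¬ E₂ ≤ E₁ := fun h => P.ne (eq_of_le_of_card_ge h (by
  have h1 := E₁.index_mul_card
  have h2 := E₂.index_mul_card
  rw [P.s₁.index_eq] at h1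
  rw [P.s₂.index_eq, ← h1] at h2
  exact (Nat.eq_of_mul_eq_mul_left hp.out.pos h2).ge)).symm

include P in
theorem exists_mem : ∃ g ∈ E₂, g ∉ E₁ := SetLike.not_le_iff_exists.1 P.not_le

include P in
theorem sup_eq_top : E₁ ⊔ E₂ = ⊤ := by
  obtain ⟨g, hg, hg'⟩ := P.exists_mem
  exact top_le_iff.1 ((sup_zpowers_eq_top P.s₁.index_eq hg').ge.trans
    (sup_le_sup_left (zpowers_le.2 hg) _))

include P in
theorem card₁ : Nat.card E₁ = p * Nat.card ↥(E₁ ⊓ E₂) := by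
  haveI := P.s₁.normal
  haveI := P.s₂.normal
  have h1 := ((E₁ ⊓ E₂).subgroupOf E₁).index_mul_card
  rw [← relIndex, Nat.card_congr (subgroupOfEquivOfLe inf_le_left).toEquiv, inf_relIndex_left,
    ← relIndex_sup_right (K := E₂) (H := E₁), P.sup_eq_top, relIndex_top_right, P.s₂.index_eq] at h1
  exact h1.symm

include P in
theorem card₂ : Nat.card E₂ = p * Nat.card ↥(E₁ ⊓ E₂) := by
  rw [P.swap.card₁, inf_comm]

include P in
theorem card_top_eq : Nat.card G = p ^ 2 * Nat.card ↥(E₁ ⊓ E₂) := by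
  rw [← E₁.index_mul_card, P.s₁.index_eq, P.card₁, pow_two, mul_assoc]

include P in
theorem inf_normal : (E₁ ⊓ E₂).Normal := by
  haveI := P.s₁.normal
  haveI := P.s₂.normal
  exact Subgroup.normal_inf_normal _ _

include P in
theorem comm_mem_inf {a b : G} (ha : a ∈ E₁) (hb : b ∈ E₂) : ⁅a, b⁆ ∈ E₁ ⊓ E₂ := by
  have := P.s₁.normal
  have := P.s₂.normal
  refine mem_inf.2 ⟨?_, ?_⟩
  · rw [commutatorElement_def, mul_assoc, mul_assoc, ← mul_assoc b]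
    exact mul_mem ha (Normal.conj_mem ‹E₁.Normal› _ (inv_mem ha) b)
  · rw [commutatorElement_def]
    exact mul_mem (Normal.conj_mem ‹E₂.Normal› _ hb a) (inv_mem hb)

include P in
theorem sup_zpowers₁ {v : G} (hv : v ∈ E₁) (hv' : v ∉ E₁ ⊓ E₂) : E₁ ⊓ E₂ ⊔ zpowers v = E₁ :=
  eq_sup_zpowers inf_le_left P.card₁ hv hv'

include P in
theorem sup_zpowers₂ {v : G} (hv : v ∈ E₂) (hv' : v ∉ E₁ ⊓ E₂) : E₁ ⊓ E₂ ⊔ zpowers v = E₂ := by
  have := P.swap.sup_zpowers₁ hv (by rwa [inf_comm])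
  rwa [inf_comm] at this

include P in
theorem not_mem_inf₁ {v : G} (hv : v ∉ E₁) : v ∉ E₁ ⊓ E₂ := fun h => hv (mem_inf.1 h).1

include P in
theorem FD_le_inf : FD p E₁ ≤ E₁ ⊓ E₂ := by
  haveI := P.inf_normal
  obtain ⟨v, hv, hv'⟩ := P.swap.exists_mem
  refine FD_le_of_elem ?_
  rw [← congrArg (Subgroup.map (QuotientGroup.mk' (E₁ ⊓ E₂)))
    (P.sup_zpowers₁ hv fun h => hv' (mem_inf.1 h).2), Subgroup.map_sup,
    (Subgroup.map_eq_bot_iff (E₁ ⊓ E₂)).2 (by rw [QuotientGroup.ker_mk']), bot_sup_eq,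
    MonoidHom.map_zpowers]
  refine elem_zpowers ?_
  rw [← map_pow]
  refine (QuotientGroup.eq_one_iff _).2 ?_
  haveI := P.s₁.normal
  have hci : ((E₁ ⊓ E₂).subgroupOf E₁).index = p := by
    have h1 := ((E₁ ⊓ E₂).subgroupOf E₁).index_mul_card
    rw [Nat.card_congr (subgroupOfEquivOfLe inf_le_left).toEquiv, P.card₁] at h1
    exact Nat.eq_of_mul_eq_mul_right Nat.card_pos h1
  have h2 := pow_card_eq_one' (x := (QuotientGroup.mk (⟨v, hv⟩ : E₁) : E₁ ⧸ (E₁ ⊓ E₂).subgroupOf E₁))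
  rw [← Subgroup.index_eq_card, hci] at h2
  rw [← QuotientGroup.mk_pow, QuotientGroup.eq_one_iff] at h2
  exact h2

/-- The intersection is not invariant for both sides. -/
theorem false_of_inv_inf (i₁ : P.s₁.Inv (E₁ ⊓ E₂)) (i₂ : P.s₂.Inv (E₁ ⊓ E₂)) : False := by
  have hp1 := hp.out.one_lt
  have hG := P.hG
  have hDn := P.inf_normal
  set D := E₁ ⊓ E₂ with hDdef
  set N := FD p D with hNdef
  set F₁ := FD p E₁ with hF₁def
  set F₂ := FD p E₂ with hF₂def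
  have hF₁D : F₁ ≤ D := P.FD_le_inf
  have hF₂D : F₂ ≤ D := P.swap.FD_le_inf.trans (by rw [hDdef, inf_comm])
  have hNF₁ : N ≤ F₁ := FD_mono inf_le_left
  have hNF₂ : N ≤ F₂ := FD_mono inf_le_right
  have jN₁ : P.s₁.Inv N := i₁.fd inf_le_left
  have jF₁ : P.s₁.Inv F₁ := P.s₁.inv_self.fd le_rfl
  have jF₂ : P.s₂.Inv F₂ := P.s₂.inv_self.fd le_rfl
  haveI := jN₁.normal ((FD_le D).trans inf_le_left)
  haveI := jF₁.normal (FD_le E₁)
  haveI := jF₂.normal (FD_le E₂)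
  obtain ⟨x, hx, hx₁⟩ := P.exists_mem
  obtain ⟨y, hy, hy₂⟩ := P.swap.exists_mem
  have hin₁ : ∀ e ∈ E₁, ∀ d ∈ D, ⁅e, d⁆ ∈ F₁ := fun e he d hd =>
    mem_sup_left (commutator_mem_commutator he (mem_inf.1 hd).1)
  have hin₂ : ∀ e ∈ E₂, ∀ d ∈ D, ⁅e, d⁆ ∈ F₂ := fun e he d hd =>
    mem_sup_left (commutator_mem_commutator he (mem_inf.1 hd).2)
  have hxE : ∀ e ∈ E₁, ⁅x, e⁆ ∈ D := fun e he => by
    rw [← commutatorElement_inv e x]; exact inv_mem (P.comm_mem_inf he hx)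
  have hyE : ∀ e ∈ E₂, ⁅y, e⁆ ∈ D := fun e he => P.comm_mem_inf hy he
  obtain ⟨d₁, hd₁, hxd⟩ : ∃ d ∈ D, ⁅x, d⁆ ∉ F₁ := by
    by_contra h
    push Not at h
    refine hx₁ (P.s₁.mem_of_chain hG P.nd₁ (m := 2) ![F₁, D, E₁] rfl rfl ?_ ?_ fun i e he => ?_)
    · intro i; fin_cases i
      exacts [FD_le E₁, inf_le_left, le_rfl]
    · intro i; fin_cases i
      exacts [jF₁, i₁, P.s₁.inv_self]
    · fin_cases i
      exacts [h e he, hxE e he]
  obtain ⟨d₂, hd₂, hyd⟩ : ∃ d ∈ D, ⁅y, d⁆ ∉ F₂ := by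
    by_contra h
    push Not at h
    refine hy₂ (P.s₂.mem_of_chain hG P.nd₂ (m := 2) ![F₂, D, E₂] rfl rfl ?_ ?_ fun i e he => ?_)
    · intro i; fin_cases i
      exacts [FD_le E₂, inf_le_right, le_rfl]
    · intro i; fin_cases i
      exacts [jF₂, i₂, P.s₂.inv_self]
    · fin_cases i
      exacts [h e he, hyE e he]
  -- the orders
  obtain ⟨n, hn⟩ := exists_card hG N
  obtain ⟨d, hd⟩ := exists_card hG D
  obtain ⟨f₁, hf₁⟩ := exists_card hG F₁
  obtain ⟨f₂, hf₂⟩ := exists_card hG F₂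
  have b1 := card_le_of_FD_le P.rank (FD_le D) le_rfl
  rw [← hNdef, hn, hd, ← pow_add, Nat.pow_le_pow_iff_right hp1] at b1
  have hN₁ : n + 1 ≤ f₁ := by
    have := card_mul_le_of_lt hG (lt_of_le_of_ne hNF₁ fun h => hyd (hNF₂ (h.ge (hin₁ y hy d₂ hd₂))))
    rwa [hn, hf₁, ← pow_succ, Nat.pow_le_pow_iff_right hp1] at this
  have hN₂ : n + 1 ≤ f₂ := by
    have := card_mul_le_of_lt hG (lt_of_le_of_ne hNF₂ fun h => hxd (hNF₁ (h.ge (hin₂ x hx d₁ hd₁))))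
    rwa [hn, hf₂, ← pow_succ, Nat.pow_le_pow_iff_right hp1] at this
  have gap : ∀ {F : Subgroup G} [F.Normal] {f : ℕ}, F ≤ D → Nat.card F = p ^ f →
      ∀ g v : G, v ∈ D → ⁅g, v⁆ ∉ F → f + 2 ≤ d := by
    intro F _ f hFD hf g v hv hgv
    have hne : F ≠ D := fun h => hgv (by
      rw [commutatorElement_def, h]
      exact mul_mem (hDn.conj_mem v hv g) (inv_mem hv))
    have h1 := card_mul_le_of_lt hG (lt_of_le_of_ne hFD hne)
    rw [hf, hd, ← pow_succ, Nat.pow_le_pow_iff_right hp1] at h1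
    refine (show f + 1 ≠ d → f + 2 ≤ d from fun h => by omega) fun h => hgv ?_
    exact comm_mem_of_card hG hFD (by rw [hd, hf, ← h, pow_succ']) hv
  have hg₁ := gap hF₁D hf₁ x d₁ hd₁ hxd
  have hg₂ := gap hF₂D hf₂ y d₂ hd₂ hyd
  -- both are central modulo `N`
  have hcen : ∀ {F : Subgroup G} [F.Normal], N ≤ F → Nat.card F = p ^ (n + 1) →
      ∀ g : G, ∀ v ∈ F, ⁅g, v⁆ ∈ N := fun {F} _ hNF hF g v hv =>
    comm_mem_of_card hG hNF (by rw [hF, hn, pow_succ']) hv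
  have c₁ := hcen hNF₁ (by rw [hf₁, show f₁ = n + 1 by omega])
  have c₂ := hcen hNF₂ (by rw [hf₂, show f₂ = n + 1 by omega])
  -- the elements centralised by `E₁` modulo `N`
  set π := QuotientGroup.mk' N with hπ
  let H : Subgroup G := D ⊓ (centralizer (E₁.map π : Set (G ⧸ N))).comap π
  have hH : ∀ {v : G}, v ∈ H ↔ v ∈ D ∧ ∀ e ∈ E₁, ⁅e, v⁆ ∈ N := by
    intro v
    refine and_congr_right fun _ => ?_
    show π v ∈ centralizer (E₁.map π : Set (G ⧸ N)) ↔ _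
    rw [mem_centralizer_iff]
    constructor
    · intro h e he
      rw [← QuotientGroup.eq_one_iff]
      show π ⁅e, v⁆ = 1
      rw [map_commutatorElement, commutatorElement_eq_one_iff_mul_comm]
      exact h _ (mem_map_of_mem π he)
    · rintro h _ ⟨e, he, rfl⟩
      rw [← commutatorElement_eq_one_iff_mul_comm, ← map_commutatorElement]
      exact (QuotientGroup.eq_one_iff _).2 (h e he)
  have hHi : P.s₁.Inv H := by
    intro z v hv
    rw [hH] at hv ⊢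
    refine ⟨i₁ z v hv.1, fun e he => ?_⟩
    have h1 := jN₁ z ⁅P.s₁.act z⁻¹ ⟨e, he⟩, v⁆ (hv.2 _ (P.s₁.act z⁻¹ ⟨e, he⟩).2)
    rwa [map_commutatorElement, ← Side.img_mul, mul_inv_cancel, Side.img_one] at h1
  haveI := hHi.normal (inf_le_left.trans inf_le_left)
  have hF₁H : F₁ ≤ H := fun v hv => hH.2 ⟨hF₁D hv, fun e _ => c₁ e v hv⟩
  have hF₂H : F₂ ≤ H := fun v hv => hH.2 ⟨hF₂D hv, fun e _ => c₂ e v hv⟩
  have hlt₁ : F₁ < H := lt_of_le_of_ne hF₁H fun h => hxd (h.ge (hF₂H (hin₂ x hx d₁ hd₁)))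
  have hlt₂ : H < D := lt_of_le_of_ne inf_le_left fun h =>
    hyd (hNF₂ ((hH.1 (h.ge hd₂)).2 y hy))
  obtain ⟨h', hh'⟩ := exists_card hG H
  have e1 := card_mul_le_of_lt hG hlt₁
  have e2 := card_mul_le_of_lt hG hlt₂
  rw [hf₁, hh', ← pow_succ, Nat.pow_le_pow_iff_right hp1] at e1
  rw [hh', hd, ← pow_succ, Nat.pow_le_pow_iff_right hp1] at e2
  refine hx₁ (P.s₁.mem_of_chain hG P.nd₁ (m := 3) ![F₁, H, D, E₁] rfl rfl ?_ ?_ fun i e he => ?_)
  · intro i; fin_cases i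
    exacts [FD_le E₁, inf_le_left.trans inf_le_left, inf_le_left, le_rfl]
  · intro i; fin_cases i
    exacts [jF₁, hHi, i₁, P.s₁.inv_self]
  · fin_cases i
    · exact comm_mem_of_card hG hF₁H (by rw [hh', hf₁, show h' = f₁ + 1 by omega, pow_succ']) he
    · exact comm_mem_of_card hG (inf_le_left : H ≤ D)
        (by rw [hh', hd, show d = h' + 1 by omega, pow_succ']) he
    · exact hxE e he

end Setup

end CfsgLib.Fusion.TwoInvariant
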