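import Cfsg.Agent.Fusion.TwoInvariant.Basic
import Cfsg.Agent.Fusion.NormalCriteria

/-!
A maximal subgroup of a finite `p`-group with a group acting on it whose Sylow subgroups are the
conjugations by the `p`-group.
-/

set_option autoImplicit false
set_option linter.unusedSectionVars false
set_option linter.style.haveILetI false

open Subgroup
open scoped commutatorElement Pointwise

namespace CfsgLib.Fusion.TwoInvariant

variable {G : Type*} [Group G]

/-- `X` acts on the maximal subgroup `E`; the conjugations form a Sylow subgroup `conj.range` of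
`X`, elements normalising it extend to members of `B`, and members of `B` restrict into `X`. -/
structure Side (p : ℕ) (B : Subgroup (MulAut G)) (E : Subgroup G) (X : Type*) [Group X] where
  act : X →* MulAut E
  conj : G →* X
  conj_spec : ∀ (g : G) (e : E), ((act (conj g) e : E) : G) = g * e * g⁻¹
  index_eq : E.index = p
  normal : E.Normal
  sylow : ¬ p ∣ conj.range.index
  ext : ∀ x : X, x ∈ normalizer (conj.range : Set X) →
    ∃ β ∈ B, ∀ e : E, β (e : G) = ((act x e : E) : G)
  res : ∀ β ∈ B, ∃ x : X, ∀ e : E, β (e : G) = ((act x e : E) : G)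
  conj_mem : ∀ g : G, MulAut.conj g ∈ B

theorem mem_normalizer_of_map_le' {Y : Type*} [Group Y] {L : Subgroup Y} [Finite L] {y : Y}
    (h : L.map (MulAut.conj y).toMonoidHom ≤ L) : y ∈ normalizer (L : Set Y) := by
  have : Finite (L : Set Y) := ‹Finite L›
  exact mem_normalizer_fintype fun n hn => h ⟨n, hn, rfl⟩

/-- Stability under all members of `B`. -/
def BInv (B : Subgroup (MulAut G)) (H : Subgroup G) : Prop := ∀ β ∈ B, ∀ h ∈ H, β h ∈ H

theorem BInv.normal {B : Subgroup (MulAut G)} (hB : ∀ g : G, MulAut.conj g ∈ B) {H : Subgroup G}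
    (h : BInv B H) : H.Normal :=
  ⟨fun n hn g => h _ (hB g) n hn⟩

theorem BInv.inf {B : Subgroup (MulAut G)} {H K : Subgroup G} (h : BInv B H) (h' : BInv B K) :
    BInv B (H ⊓ K) :=
  fun β hβ x hx => mem_inf.2 ⟨h β hβ x (mem_inf.1 hx).1, h' β hβ x (mem_inf.1 hx).2⟩

theorem BInv.eq {B : Subgroup (MulAut G)} {H : Subgroup G} (h : BInv B H) {β : MulAut G}
    (hβ : β ∈ B) : H.map β.toMonoidHom = H := by
  refine le_antisymm (map_le_iff_le_comap.2 fun x hx => h β hβ x hx) fun x hx => ?_
  exact ⟨β⁻¹ x, h _ (inv_mem hβ) x hx, MulAut.apply_inv_self G β x⟩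

theorem binv_omegaCenter (p : ℕ) (B : Subgroup (MulAut G)) : BInv B (omegaCenter p G) :=
  fun β _ _ hz => omegaCenter_map β hz

variable {p : ℕ} [hp : Fact p.Prime] {B : Subgroup (MulAut G)} {E : Subgroup G} {X : Type*}
  [Group X] (s : Side p B E X)

namespace Side

/-- The action seen in the ambient group. -/
def img (x : X) : E →* G := E.subtype.comp (s.act x).toMonoidHom

theorem img_apply (x : X) (e : E) : s.img x e = ((s.act x e : E) : G) := rfl

theorem img_mem (x : X) (e : E) : s.img x e ∈ E := (s.act x e).2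

theorem img_mul (x y : X) (e : E) : s.img (x * y) e = s.img x (s.act y e) := by
  simp only [img_apply, map_mul, MulAut.mul_apply]

theorem img_one (e : E) : s.img 1 e = e := by simp [img_apply]

theorem img_conj (g : G) (e : E) : s.img (s.conj g) e = g * e * g⁻¹ := s.conj_spec g e

/-- Stability under the action. -/
def Inv (H : Subgroup G) : Prop := ∀ (x : X) (e : E), (e : G) ∈ H → s.img x e ∈ H

include s in
theorem normal' : E.Normal := s.normal

include s in
theorem binv_self : BInv B E := fun β hβ e he => by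
  obtain ⟨x, hx⟩ := s.res β hβ
  rw [hx ⟨e, he⟩]
  exact (s.act x ⟨e, he⟩).2

theorem inv_self : s.Inv E := fun x e _ => s.img_mem x e

theorem inv_bot : s.Inv ⊥ := fun x e he => by
  rw [mem_bot, OneMemClass.coe_eq_one] at he
  rw [he, map_one, mem_bot]

variable {s}

theorem Inv.binv {H : Subgroup G} (h : s.Inv H) (hle : H ≤ E) : BInv B H := fun β hβ e he => by
  obtain ⟨x, hx⟩ := s.res β hβ
  rw [hx ⟨e, hle he⟩]
  exact h x ⟨e, hle he⟩ he

theorem Inv.normal {H : Subgroup G} (h : s.Inv H) (hle : H ≤ E) : H.Normal :=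
  (h.binv hle).normal s.conj_mem

theorem Inv.inf {H K : Subgroup G} (h : s.Inv H) (h' : s.Inv K) : s.Inv (H ⊓ K) :=
  fun x e he => mem_inf.2 ⟨h x e (mem_inf.1 he).1, h' x e (mem_inf.1 he).2⟩

theorem Inv.eq {H : Subgroup G} (h : s.Inv H) (hle : H ≤ E) (x : X) :
    (H.subgroupOf E).map (s.img x) = H := by
  refine le_antisymm ?_ fun g hg => ?_
  · rintro _ ⟨e, he, rfl⟩
    exact h x e he
  · refine ⟨s.act x⁻¹ ⟨g, hle hg⟩, h x⁻¹ ⟨g, hle hg⟩ hg, ?_⟩
    rw [← img_mul, mul_inv_cancel, img_one]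

variable (s)

theorem inv_of_generators {S : Set G} (hS : S ⊆ E)
    (h : ∀ (x : X) (e : E), (e : G) ∈ S → s.img x e ∈ closure S) : s.Inv (closure S) := by
  intro x e he
  have hle : closure S ≤ E := (closure_le E).2 hS
  have key : ∀ g (hg : g ∈ closure S), s.img x ⟨g, hle hg⟩ ∈ closure S := by
    intro g hg
    induction hg using closure_induction with
    | mem g hg => exact h x ⟨g, hS hg⟩ hg
    | one => exact (map_one (s.img x)).symm ▸ one_mem _
    | mul a b ha hb iha ihb =>
      exact (map_mul (s.img x) ⟨a, hle ha⟩ ⟨b, hle hb⟩).symm ▸ mul_mem iha ihb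
    | inv a ha ih => exact (map_inv (s.img x) ⟨a, hle ha⟩).symm ▸ inv_mem ih
  exact key (e : G) he

variable {s}

theorem Inv.commutator {H K : Subgroup G} (hH : s.Inv H) (hHE : H ≤ E) (hK : s.Inv K) (hKE : K ≤ E) :
    s.Inv ⁅H, K⁆ := by
  rw [Subgroup.commutator_def]
  refine s.inv_of_generators ?_ ?_
  · rintro _ ⟨a, ha, b, hb, rfl⟩
    exact mul_mem (mul_mem (mul_mem (hHE ha) (hKE hb)) (inv_mem (hHE ha))) (inv_mem (hKE hb))
  · rintro x e ⟨a, ha, b, hb, he⟩
    have : e = ⁅(⟨a, hHE ha⟩ : E), ⟨b, hKE hb⟩⁆ := Subtype.ext he.symm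
    rw [this, map_commutatorElement]
    exact subset_closure ⟨_, hH x _ ha, _, hK x _ hb, rfl⟩

/-- The subgroup generated by the `p`-th powers. -/
theorem Inv.powers {H : Subgroup G} (hH : s.Inv H) (hHE : H ≤ E) (n : ℕ) :
    s.Inv (closure ((fun a : G => a ^ n) '' (H : Set G))) := by
  refine s.inv_of_generators ?_ ?_
  · rintro _ ⟨a, ha, rfl⟩
    exact pow_mem (hHE ha) n
  · rintro x e ⟨a, ha, he⟩
    have : e = (⟨a, hHE ha⟩ : E) ^ n := Subtype.ext (by simpa using he.symm)
    rw [this, map_pow]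
    exact subset_closure ⟨_, hH x _ ha, rfl⟩

/-- A characteristic subgroup of an invariant one is invariant. -/
theorem Inv.characteristic {H : Subgroup G} (hH : s.Inv H) (hHE : H ≤ E) (C : Subgroup H)
    [hC : C.Characteristic] : s.Inv (C.map H.subtype) := by
  intro x e he
  obtain ⟨a, ha, hae⟩ := he
  let f : ∀ y : X, H → H := fun y b =>
    ⟨s.img y ⟨b, hHE b.2⟩, hH y ⟨b, hHE b.2⟩ b.2⟩
  have hf : ∀ y z b, f y (f z b) = f (y * z) b := fun y z b => Subtype.ext (s.img_mul y z _).symm
  have hf1 : ∀ b, f 1 b = b := fun b => Subtype.ext (s.img_one _)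
  let α : MulAut H :=
    { toFun := f x
      invFun := f x⁻¹
      left_inv := fun b => by rw [hf, inv_mul_cancel, hf1]
      right_inv := fun b => by rw [hf, mul_inv_cancel, hf1]
      map_mul' := fun b c => Subtype.ext (map_mul (s.img x) ⟨b, hHE b.2⟩ ⟨c, hHE c.2⟩) }
  refine ⟨α a, Subgroup.characteristic_iff_le_comap.1 hC α ha, ?_⟩
  show s.img x ⟨a, hHE a.2⟩ = s.img x e
  exact congrArg _ (Subtype.ext hae)

variable (s)

/-- The invariant subgroup generated by a subgroup. -/
def span (H : Subgroup G) : Subgroup G :=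
  closure {g | ∃ (x : X) (e : E), (e : G) ∈ H ∧ s.img x e = g}

theorem span_le (H : Subgroup G) : s.span H ≤ E :=
  (closure_le E).2 fun _ ⟨x, e, _, he⟩ => he ▸ s.img_mem x e

theorem inv_span (H : Subgroup G) : s.Inv (s.span H) := by
  refine s.inv_of_generators (fun _ ⟨x, e, _, he⟩ => he ▸ s.img_mem x e) ?_
  rintro x e ⟨y, d, hd, hde⟩
  refine subset_closure ⟨x * y, d, hd, ?_⟩
  rw [img_mul]
  exact congrArg _ (Subtype.ext hde)

theorem le_span {H : Subgroup G} (hle : H ≤ E) : H ≤ s.span H :=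
  fun h hh => subset_closure ⟨1, ⟨h, hle hh⟩, hh, s.img_one _⟩

theorem img_mem_span {H : Subgroup G} (x : X) {e : E} (he : (e : G) ∈ H) : s.img x e ∈ s.span H :=
  subset_closure ⟨x, e, he, rfl⟩

theorem span_le_of_inv {H K : Subgroup G} (hHK : H ≤ K) (hK : s.Inv K) : s.span H ≤ K :=
  (closure_le K).2 fun _ ⟨x, e, he, h⟩ => h ▸ hK x e (hHK he)

/-- The normal subgroup generated by the conjugations. -/
def K : Subgroup X := normalClosure (s.conj.range : Set X)

instance : (s.K).Normal := normalClosure_normal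

theorem range_le_K : s.conj.range ≤ s.K := le_normalClosure

theorem conj_mem_K (g : G) : s.conj g ∈ s.K := s.range_le_K ⟨g, rfl⟩

variable [Finite G] [Finite X]

/-- Frattini: a subgroup containing the conjugations supplies a correction into their normaliser. -/
theorem exists_normalizer_factor (hG : IsPGroup p G) (L : Subgroup X) (hL : s.conj.range ≤ L) (x : X)
    (hx : x ∈ normalizer (L : Set X)) :
    ∃ q ∈ L, q⁻¹ * x ∈ normalizer (s.conj.range : Set X) := by
  let P : Sylow p X := (IsPGroup.of_surjective hG s.conj.rangeRestrict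
    s.conj.rangeRestrict_surjective).toSylow s.sylow
  have hPL : (P : Subgroup X) ≤ L := hL
  have hQ : ((x • P : Sylow p X) : Subgroup X) ≤ L := by
    rintro _ ⟨a, ha, rfl⟩
    exact (mem_normalizer_iff.1 hx a).1 (hPL ha)
  obtain ⟨q, hq⟩ := MulAction.exists_smul_eq L (P.subtype hPL) ((x • P).subtype hQ)
  refine ⟨q, q.2, ?_⟩
  have h2 : (q : X) • P = x • P := by
    refine Sylow.subtype_injective (N := L) (hP := ?_) (hQ := hQ) ?_
    · rintro _ ⟨a, ha, rfl⟩
      exact mul_mem (mul_mem q.2 (hPL ha)) (inv_mem q.2)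
    · rw [← hq, Sylow.smul_subtype]
      rfl
  have h3 : ((q : X)⁻¹ * x) • P = P := by rw [mul_smul, ← h2, inv_smul_smul]
  exact Sylow.smul_eq_iff_mem_normalizer.1 h3

/-- Subgroups stable under `B` and fixed by the conjugation closure are invariant. -/
theorem inv_of_K (hG : IsPGroup p G) {H : Subgroup G} (hB : BInv B H)
    (hK : ∀ k ∈ s.K, ∀ e : E, (e : G) ∈ H → s.img k e ∈ H) : s.Inv H := by
  intro x e he
  obtain ⟨q, hq, hn⟩ := s.exists_normalizer_factor hG s.K s.range_le_K x (by
    rw [normalizer_eq_top_iff.2 inferInstance]; exact mem_top x)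
  obtain ⟨β, hβ, hβe⟩ := s.ext _ hn
  rw [show x = q * (q⁻¹ * x) by group, img_mul]
  refine hK q hq _ ?_
  rw [← hβe]
  exact hB β hβ _ he

/-- What the conjugations fix in an invariant subgroup, the conjugation closure fixes. -/
theorem K_fixes {H : Subgroup G} (hH : s.Inv H)
    (hfix : ∀ g, ∀ h ∈ H, Commute g h) : ∀ k ∈ s.K, ∀ e : E, (e : G) ∈ H → s.img k e = e := by
  let N : Subgroup X :=
    { carrier := {k | ∀ e : E, (e : G) ∈ H → s.img k e = e}
      one_mem' := fun e _ => s.img_one e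
      mul_mem' := fun {a b} ha hb e he => by
        have hb' : s.act b e = e := Subtype.ext (hb e he)
        rw [img_mul, hb', ha e he]
      inv_mem' := fun {a} ha e he => by
        have ha' : s.act a e = e := Subtype.ext (ha e he)
        rw [img_apply, map_inv]
        conv_lhs => rw [← ha', MulAut.inv_apply_self] }
  have : N.Normal := ⟨fun n hn x e he => by
    have h2 : s.act n (s.act x⁻¹ e) = s.act x⁻¹ e := Subtype.ext (hn _ (hH x⁻¹ e he))
    rw [img_apply, map_mul, map_mul, MulAut.mul_apply, MulAut.mul_apply, h2, map_inv,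
      MulAut.apply_inv_self]⟩
  refine normalClosure_le_normal (N := N) ?_
  rintro _ ⟨g, rfl⟩ e he
  rw [img_conj, (hfix g e he).eq, mul_inv_cancel_right]

/-- The conjugations are already a normal subgroup of the image of the action. -/
def Deg : Prop := ∀ (x : X) (g : G), ∃ g' : G, s.act (x * s.conj g * x⁻¹) = s.act (s.conj g')

theorem deg_exists_normalizer (hG : IsPGroup p G) (h : s.Deg) (x : X) :
    ∃ n ∈ normalizer (s.conj.range : Set X), ∃ g, s.act x = s.act (s.conj g) * s.act n := by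
  let L := s.conj.range ⊔ s.act.ker
  have hx : x ∈ normalizer (L : Set X) := by
    refine mem_normalizer_of_map_le' ?_
    rintro _ ⟨a, ha, rfl⟩
    obtain ⟨a₁, ha₁, a₂, ha₂, rfl⟩ := (mem_sup_of_normal_right).1 ha
    obtain ⟨g, rfl⟩ := ha₁
    obtain ⟨g', hg'⟩ := h x g
    have : (s.conj g')⁻¹ * (x * (s.conj g * a₂) * x⁻¹) ∈ s.act.ker := by
      rw [MonoidHom.mem_ker] at ha₂ ⊢
      simp only [map_mul, map_inv] at hg' ⊢
      rw [ha₂, mul_one, hg', inv_mul_cancel]
    have h2 := mul_mem (mem_sup_left (⟨g', rfl⟩ : s.conj g' ∈ s.conj.range) : s.conj g' ∈ L)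
      (mem_sup_right this)
    rwa [mul_inv_cancel_left] at h2
  obtain ⟨q, hq, hn⟩ := s.exists_normalizer_factor hG L le_sup_left x hx
  obtain ⟨a₁, ⟨g, rfl⟩, a₂, ha₂, rfl⟩ := (mem_sup_of_normal_right).1 hq
  refine ⟨_, hn, g, ?_⟩
  rw [MonoidHom.mem_ker] at ha₂
  simp only [map_mul, map_inv, ha₂, mul_one, mul_inv_cancel_left]

/-- If the conjugations are normal, every `B`-stable subgroup is invariant. -/
theorem inv_of_deg (hG : IsPGroup p G) (h : s.Deg) {H : Subgroup G} (hB : BInv B H) : s.Inv H := by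
  intro x e he
  obtain ⟨n, hn, g, hx⟩ := s.deg_exists_normalizer hG h x
  obtain ⟨β, hβ, hβe⟩ := s.ext _ hn
  rw [img_apply, hx, MulAut.mul_apply, s.conj_spec]
  refine hB _ (s.conj_mem g) _ ?_
  rw [← hβe]
  exact hB β hβ _ he

/-- A normal subgroup acting as a `p`-group contains no conjugation from outside `E`. -/
theorem mem_of_pgroup_image (hG : IsPGroup p G) (hnd : ¬ s.Deg) (N : Subgroup X) [N.Normal]
    (hN : IsPGroup p (N.map s.act)) {g : G} (hg : s.conj g ∈ N) : g ∈ E := by
  by_contra hgE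
  refine hnd fun x g₀ => ?_
  have : Finite (MulAut E) := Finite.of_injective _ DFunLike.coe_injective
  have hNi : s.act.range ≤ normalizer (N.map s.act : Set (MulAut E)) := by
    rintro _ ⟨y, rfl⟩
    refine mem_normalizer_of_map_le' ?_
    rintro _ ⟨_, ⟨n, hn, rfl⟩, rfl⟩
    exact ⟨y * n * y⁻¹, Normal.conj_mem inferInstance n hn y, by simp⟩
  set IE : Subgroup (MulAut E) := ((E.subtype).range.map (s.act.comp s.conj))
  have hIE : ∀ y : X, ∀ a ∈ IE, s.act y * a * (s.act y)⁻¹ ∈ IE := by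
    rintro y _ ⟨_, ⟨e, rfl⟩, rfl⟩
    refine ⟨_, ⟨s.act y e, rfl⟩, MulEquiv.ext fun d => Subtype.ext ?_⟩
    simp only [MonoidHom.comp_apply, MulAut.mul_apply, Subgroup.coe_subtype, s.conj_spec]
    have h2 : s.act (s.conj (e : G)) ((s.act y)⁻¹ d) = e * (s.act y)⁻¹ d * e⁻¹ :=
      Subtype.ext (s.conj_spec _ _)
    rw [h2, map_mul, map_mul, map_inv, MulAut.apply_inv_self]
    rfl
  have hIEp : IsPGroup p IE := (hG.to_subgroup _).map _
  have hsupp : IsPGroup p (N.map s.act ⊔ IE : Subgroup (MulAut E)) :=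
    IsPGroup.to_sup_of_normal_left' hN hIEp (fun a ha => hNi (by
      obtain ⟨_, ⟨e, rfl⟩, rfl⟩ := ha
      exact ⟨_, rfl⟩))
  set PI : Subgroup (MulAut E) := s.conj.range.map s.act
  have hPle : PI ≤ N.map s.act ⊔ IE := by
    rintro _ ⟨_, ⟨a, rfl⟩, rfl⟩
    have hle : E ⊔ zpowers g ≤ (N.map s.act ⊔ IE).comap (s.act.comp s.conj) :=
      sup_le (fun e he => mem_sup_right ⟨e, ⟨⟨e, he⟩, rfl⟩, rfl⟩)
        (zpowers_le.2 (mem_sup_left ⟨_, hg, rfl⟩))
    rw [sup_zpowers_eq_top s.index_eq hgE] at hle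
    exact hle (mem_top a)
  have hsle : N.map s.act ⊔ IE ≤ PI := by
    let J : Subgroup s.act.range := (N.map s.act ⊔ IE).subgroupOf s.act.range
    let P0 : Subgroup s.act.range := PI.subgroupOf s.act.range
    have hle1 : N.map s.act ⊔ IE ≤ s.act.range := sup_le (map_le_range _ _) (by
      rintro _ ⟨a, -, rfl⟩
      exact ⟨_, rfl⟩)
    have hPr : PI ≤ s.act.range := map_le_range _ _
    have e : P0 = (s.conj.range).map s.act.rangeRestrict := by
      ext ⟨a, ha⟩
      simp [P0, PI, mem_subgroupOf, Subtype.ext_iff]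
    have hnd' : ¬ p ∣ P0.index := by
      rw [e]
      exact fun hd => s.sylow (hd.trans (index_map_dvd _ s.act.rangeRestrict_surjective))
    have hP0 : IsPGroup p P0 := by
      rw [e, MonoidHom.map_range]
      exact IsPGroup.of_surjective hG _ (MonoidHom.rangeRestrict_surjective _)
    let P : Sylow p s.act.range := hP0.toSylow hnd'
    have := P.is_maximal' (Q := J)
      (hsupp.of_equiv (Subgroup.subgroupOfEquivOfLe hle1).symm)
      (fun a ha => hPle ha)
    intro a ha
    have h2 : (⟨a, hle1 ha⟩ : s.act.range) ∈ J := ha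
    rw [this] at h2
    exact h2
  have hb : s.act (x * s.conj g₀ * x⁻¹) ∈ N.map s.act ⊔ IE := by
    have h1 : s.act x ∈ normalizer ((N.map s.act ⊔ IE : Subgroup _) : Set (MulAut E)) := by
      refine mem_normalizer_of_map_le' ?_
      rw [Subgroup.map_sup]
      refine sup_le ((?_ : _ ≤ N.map s.act).trans le_sup_left) ((?_ : _ ≤ IE).trans le_sup_right)
      · rintro _ ⟨a, ha, rfl⟩
        exact (mem_normalizer_iff.1 (hNi ⟨x, rfl⟩) a).1 ha
      · rintro _ ⟨a, ha, rfl⟩
        exact hIE x a ha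
    have h2 := (mem_normalizer_iff.1 h1 _).1 (hPle ⟨_, ⟨g₀, rfl⟩, rfl⟩)
    simpa only [map_mul, map_inv] using h2
  obtain ⟨_, ⟨g', rfl⟩, hg'⟩ := hsle hb
  exact ⟨g', hg'.symm⟩

/-- An element stabilising an invariant two-step series lies in `E`. -/
theorem mem_of_series (hG : IsPGroup p G) (hnd : ¬ s.Deg) {H : Subgroup G} (hH : s.Inv H)
    (hHE : H ≤ E) {g : G} (hgH : ∀ h ∈ H, Commute g h) (hgE : ∀ e ∈ E, ⁅g, e⁆ ∈ H) : g ∈ E := by
  have hHn := hH.normal hHE
  let N : Subgroup X :=
    { carrier := {y | (∀ e : E, (e : G) ∈ H → s.img y e = e) ∧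
        ∀ e : E, s.img y e * (e : G)⁻¹ ∈ H}
      one_mem' := ⟨fun e _ => s.img_one e, fun e => by rw [img_one, mul_inv_cancel]; exact one_mem _⟩
      mul_mem' := fun {a b} ha hb => by
        refine ⟨fun e he => ?_, fun e => ?_⟩
        · have hb' : s.act b e = e := Subtype.ext (hb.1 e he)
          rw [img_mul, hb', ha.1 e he]
        · rw [img_mul, show s.img a (s.act b e) * (e : G)⁻¹ =
            (s.img a (s.act b e) * ((s.act b e : E) : G)⁻¹) * (s.img b e * (e : G)⁻¹) by
              rw [img_apply s b e]; group]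
          exact mul_mem (ha.2 _) (hb.2 e)
      inv_mem' := fun {a} ha => by
        refine ⟨fun e he => ?_, fun e => ?_⟩
        · have ha' : s.act a e = e := Subtype.ext (ha.1 e he)
          rw [img_apply, map_inv]
          conv_lhs => rw [← ha', MulAut.inv_apply_self]
        · have := inv_mem (ha.2 (s.act a⁻¹ e))
          rw [← img_mul, mul_inv_cancel, img_one, mul_inv_rev, inv_inv] at this
          exact this }
  have hNn : N.Normal := ⟨fun n hn x => by
    refine ⟨fun e he => ?_, fun e => ?_⟩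
    · have h2 : s.act n (s.act x⁻¹ e) = s.act x⁻¹ e := Subtype.ext (hn.1 _ (hH x⁻¹ e he))
      rw [img_mul, img_mul, h2, ← img_mul, mul_inv_cancel, img_one]
    · have h2 := hn.2 (s.act x⁻¹ e)
      have h3 : s.img x (s.act n (s.act x⁻¹ e) * (s.act x⁻¹ e)⁻¹) ∈ H := hH x _ h2
      rw [map_mul (s.img x), map_inv (s.img x), ← img_mul, ← img_mul, ← img_mul, mul_inv_cancel, img_one] at h3
      exact h3⟩
  refine s.mem_of_pgroup_image hG hnd N ?_ (g := g) ⟨fun e he => ?_, fun e => ?_⟩
  · rintro ⟨_, a, ha, rfl⟩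
    obtain ⟨j, hj⟩ := exists_card hG H
    refine ⟨j, Subtype.ext (MulEquiv.ext fun e => ?_)⟩
    have hfix := pow_mul_fix (P := E) (s.act a) (B := ⊤) (C := H.subgroupOf E) (N := 1)
      (fun d _ => mem_subgroupOf.2 (hHn.mem_comm (ha.2 d)))
      (fun d hd => mem_subgroupOf.2 (hH a d (mem_subgroupOf.1 hd)))
      (fun d hd => by rw [pow_one]; exact Subtype.ext (ha.1 d (mem_subgroupOf.1 hd))) e (mem_top e)
    rw [one_mul, Nat.card_congr (subgroupOfEquivOfLe hHE).toEquiv, hj] at hfix
    exact hfix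
  · rw [img_conj, (hgH e he).eq, mul_inv_cancel_right]
  · rw [img_conj]
    exact hgE e e.2

/-- The centraliser of `E` is in `E`. -/
theorem mem_of_centralizes (hG : IsPGroup p G) (hnd : ¬ s.Deg) {g : G}
    (hg : ∀ e ∈ E, Commute g e) : g ∈ E :=
  s.mem_of_series hG hnd s.inv_bot bot_le (fun h hh => by rw [mem_bot.1 hh]; exact Commute.one_right g)
    fun e he => by rw [commutatorElement_eq_one_iff_commute.2 (hg e he)]; exact one_mem _

theorem center_le (hG : IsPGroup p G) (hnd : ¬ s.Deg) : center G ≤ E :=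
  fun g hg => s.mem_of_centralizes hG hnd fun e _ => (mem_center_iff.1 hg e).symm

end Side

end CfsgLib.Fusion.TwoInvariant
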