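import Cfsg.Agent.Fusion.TwoInvariant.Classify
import Cfsg.Agent.Fusion.PSpSylow

/-!
The symplectic configuration is a Sylow subgroup of the symplectic group of degree four.
-/

set_option autoImplicit false
set_option linter.unusedSectionVars false
set_option linter.style.haveILetI false

open Subgroup
open scoped commutatorElement

namespace CfsgLib.Fusion.TwoInvariant

/-- A group of order `p ^ 4` with an element acting by one Jordan block on an elementary abelian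
subgroup of index `p`. -/
structure Block (p : ℕ) (W : Type*) [Group W] where
  g : W
  v₁ : W
  v₂ : W
  v₃ : W
  gp : g ^ p = 1
  vp₁ : v₁ ^ p = 1
  vp₂ : v₂ ^ p = 1
  vp₃ : v₃ ^ p = 1
  c₁₂ : Commute v₁ v₂
  c₁₃ : Commute v₁ v₃
  c₂₃ : Commute v₂ v₃
  e₁ : g * v₁ * g⁻¹ = v₂ * v₁
  e₂ : g * v₂ * g⁻¹ = v₃ * v₂
  e₃ : g * v₃ * g⁻¹ = v₃
  ne : v₃ ≠ 1
  out : g ∉ closure ({v₁, v₂, v₃} : Set W)
  card : Nat.card W = p ^ 4

namespace Block

variable {p : ℕ} [hp : Fact p.Prime] {W : Type*} [Group W] [Finite W] (b : Block p W)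

/-- The exponent triples. -/
abbrev Tri3 (p : ℕ) : Type := ZMod p × ZMod p × ZMod p

theorem pow_val_add {w : W} (hw : w ^ p = 1) (i j : ZMod p) :
    w ^ (i + j).val = w ^ i.val * w ^ j.val := by
  rw [ZMod.val_add, ← pow_add, ← pow_eq_pow_mod _ hw]

/-- The point of the abelian subgroup with given exponents. -/
def pt (x : Tri3 p) : W := b.v₁ ^ x.1.val * b.v₂ ^ x.2.1.val * b.v₃ ^ x.2.2.val

theorem pt_add (x y : Tri3 p) : b.pt (x + y) = b.pt x * b.pt y := by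
  have h21 : Commute (b.v₂ ^ x.2.1.val) (b.v₁ ^ y.1.val) := (b.c₁₂.symm.pow_left _).pow_right _
  have h31 : Commute (b.v₃ ^ x.2.2.val) (b.v₁ ^ y.1.val) := (b.c₁₃.symm.pow_left _).pow_right _
  have h32 : Commute (b.v₃ ^ x.2.2.val) (b.v₂ ^ y.2.1.val) := (b.c₂₃.symm.pow_left _).pow_right _
  simp only [pt, Prod.fst_add, Prod.snd_add, pow_val_add b.vp₁, pow_val_add b.vp₂, pow_val_add b.vp₃]
  calc b.v₁ ^ x.1.val * b.v₁ ^ y.1.val * (b.v₂ ^ x.2.1.val * b.v₂ ^ y.2.1.val) *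
        (b.v₃ ^ x.2.2.val * b.v₃ ^ y.2.2.val)
      = b.v₁ ^ x.1.val * (b.v₁ ^ y.1.val * b.v₂ ^ x.2.1.val) *
        ((b.v₂ ^ y.2.1.val * b.v₃ ^ x.2.2.val) * b.v₃ ^ y.2.2.val) := by group
    _ = b.v₁ ^ x.1.val * (b.v₂ ^ x.2.1.val * b.v₁ ^ y.1.val) *
        ((b.v₃ ^ x.2.2.val * b.v₂ ^ y.2.1.val) * b.v₃ ^ y.2.2.val) := by rw [h21.eq, h32.eq]
    _ = b.v₁ ^ x.1.val * b.v₂ ^ x.2.1.val * (b.v₁ ^ y.1.val * b.v₃ ^ x.2.2.val) *
        (b.v₂ ^ y.2.1.val * b.v₃ ^ y.2.2.val) := by group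
    _ = b.v₁ ^ x.1.val * b.v₂ ^ x.2.1.val * (b.v₃ ^ x.2.2.val * b.v₁ ^ y.1.val) *
        (b.v₂ ^ y.2.1.val * b.v₃ ^ y.2.2.val) := by rw [h31.eq]
    _ = _ := by group

theorem pt_zero : b.pt (0 : Tri3 p) = 1 := by simp [pt]

/-- The effect of the conjugation on the exponents. -/
def shift (x : Tri3 p) : Tri3 p := (x.1, x.2.1 + x.1, x.2.2 + x.2.1)

theorem conj_pt (x : Tri3 p) : b.g * b.pt x * b.g⁻¹ = b.pt (shift x) := by
  have hc : ∀ (w : W) (n : ℕ), b.g * w ^ n * b.g⁻¹ = (b.g * w * b.g⁻¹) ^ n := fun w n => conj_pow.symm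
  have h : b.g * b.pt x * b.g⁻¹ = (b.g * b.v₁ ^ x.1.val * b.g⁻¹) * (b.g * b.v₂ ^ x.2.1.val * b.g⁻¹) *
      (b.g * b.v₃ ^ x.2.2.val * b.g⁻¹) := by rw [pt]; group
  rw [h, hc, hc, hc, b.e₁, b.e₂, b.e₃, b.c₁₂.symm.mul_pow, b.c₂₃.symm.mul_pow]
  have h1 : b.v₂ ^ x.1.val * b.v₁ ^ x.1.val * (b.v₃ ^ x.2.1.val * b.v₂ ^ x.2.1.val) * b.v₃ ^ x.2.2.val =
      b.v₁ ^ x.1.val * (b.v₂ ^ x.2.1.val * b.v₂ ^ x.1.val) * (b.v₃ ^ x.2.2.val * b.v₃ ^ x.2.1.val) := by
    have d1 : Commute (b.v₂ ^ x.1.val) (b.v₁ ^ x.1.val) := (b.c₁₂.symm.pow_left _).pow_right _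
    have d2 : Commute (b.v₃ ^ x.2.1.val) (b.v₂ ^ x.2.1.val) := (b.c₂₃.symm.pow_left _).pow_right _
    rw [d1.eq, d2.eq, ← pow_add b.v₃, add_comm x.2.2.val, pow_add, ← pow_add b.v₂ x.2.1.val,
      add_comm x.2.1.val, pow_add]
    group
  rw [h1, shift, pt, pow_val_add b.vp₂, pow_val_add b.vp₃]

theorem conj_pt_iter (n : ℕ) (x : Tri3 p) : b.g ^ n * b.pt x * (b.g ^ n)⁻¹ = b.pt (shift^[n] x) := by
  induction n with
  | zero => simp
  | succ n ih =>
    rw [Function.iterate_succ_apply', ← conj_pt, ← ih, pow_succ']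
    group

/-- The normal form. -/
def form (z : Tri3 p × ZMod p) : W := b.pt z.1 * b.g ^ z.2.val

theorem form_mul (z z' : Tri3 p × ZMod p) :
    b.form z * b.form z' = b.form (z.1 + shift^[z.2.val] z'.1, z.2 + z'.2) := by
  rw [form, form, form, pt_add, pow_val_add b.gp, ← conj_pt_iter]
  group

theorem pt_mem (x : Tri3 p) : b.pt x ∈ closure ({b.v₁, b.v₂, b.v₃} : Set W) :=
  mul_mem (mul_mem (pow_mem (subset_closure (by simp)) _) (pow_mem (subset_closure (by simp)) _))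
    (pow_mem (subset_closure (by simp)) _)

theorem pt_eq_one {x : Tri3 p} (h : b.pt x = 1) : x = 0 := by
  have hz : ∀ i : ZMod p, b.v₃ ^ i.val = 1 → i = 0 := fun i hi => by
    have h1 := orderOf_dvd_of_pow_eq_one hi
    rw [orderOf_eq_of_pow b.vp₃ b.ne] at h1
    exact (ZMod.val_eq_zero i).1 (Nat.eq_zero_of_dvd_of_lt h1 (ZMod.val_lt i))
  have hstep : ∀ {y : Tri3 p}, b.pt y = 1 → b.pt (0, y.1, y.2.1) = 1 := fun {y} hy => by
    have h1 := b.conj_pt y
    rw [hy, mul_one, mul_inv_cancel, show shift y = y + (0, y.1, y.2.1) by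
      simp [shift, Prod.ext_iff], pt_add, hy, one_mul] at h1
    exact h1.symm
  obtain ⟨a, c, d⟩ := x
  have h1 := hstep (hstep h)
  have ha : a = 0 := hz a (by simpa [pt] using h1)
  subst ha
  have hb : c = 0 := hz c (by simpa [pt] using hstep h)
  subst hb
  have hd : d = 0 := hz d (by simpa [pt] using h)
  subst hd
  rfl

theorem form_bijective : Function.Bijective b.form := by
  have hg1 : b.g ≠ 1 := fun h => b.out (h ▸ one_mem _)
  have hinj : Function.Injective b.form := by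
    rintro ⟨x, i⟩ ⟨y, j⟩ h
    have h' : b.g ^ i.val * (b.g ^ j.val)⁻¹ = (b.pt x)⁻¹ * b.pt y := by
      have e : b.pt x * b.g ^ i.val = b.pt y * b.g ^ j.val := h
      calc b.g ^ i.val * (b.g ^ j.val)⁻¹
          = (b.pt x)⁻¹ * (b.pt x * b.g ^ i.val) * (b.g ^ j.val)⁻¹ := by group
        _ = _ := by rw [e]; group
    have hij : i = j := by
      by_contra hne
      have hd : b.g ^ (i - j).val ∈ closure ({b.v₁, b.v₂, b.v₃} : Set W) := by
        have e := pow_val_add b.gp (i - j) j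
        rw [sub_add_cancel] at e
        rw [e, mul_inv_cancel_right] at h'
        rw [h']
        exact mul_mem (inv_mem (b.pt_mem x)) (b.pt_mem y)
      have hcop : Nat.Coprime (orderOf b.g) (i - j).val := by
        rw [orderOf_eq_of_pow b.gp hg1]
        exact Nat.coprime_of_lt_prime (fun h0 => sub_ne_zero.2 hne ((ZMod.val_eq_zero _).1 h0))
          (ZMod.val_lt _) hp.out
      obtain ⟨k, hk⟩ := exists_pow_eq_self_of_coprime hcop.symm
      exact b.out (hk ▸ pow_mem hd k)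
    subst hij
    rw [mul_inv_cancel] at h'
    have e : b.pt (y - x) = 1 := by
      have := b.pt_add x (y - x)
      rw [add_sub_cancel] at this
      rwa [this, inv_mul_cancel_left, eq_comm] at h'
    rw [sub_eq_zero.1 (b.pt_eq_one e)]
  refine (Nat.bijective_iff_injective_and_card b.form).2 ⟨hinj, ?_⟩
  rw [b.card, Nat.card_prod, Nat.card_prod, Nat.card_prod, Nat.card_zmod]
  ring

/-- Two such groups are isomorphic. -/
noncomputable def equiv {W' : Type*} [Group W'] [Finite W'] (b' : Block p W') : W ≃* W' where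
  toEquiv := (Equiv.ofBijective _ b.form_bijective).symm.trans (Equiv.ofBijective _ b'.form_bijective)
  map_mul' u v := by
    obtain ⟨z, rfl⟩ := b.form_bijective.2 u
    obtain ⟨z', rfl⟩ := b.form_bijective.2 v
    show b'.form ((Equiv.ofBijective _ b.form_bijective).symm _) =
      b'.form ((Equiv.ofBijective _ b.form_bijective).symm _) *
        b'.form ((Equiv.ofBijective _ b.form_bijective).symm _)
    rw [b.form_mul, Equiv.ofBijective_symm_apply_apply, Equiv.ofBijective_symm_apply_apply,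
      Equiv.ofBijective_symm_apply_apply, b'.form_mul]

end Block

section model

open Matrix CfsgLib.Fusion.PSpChar CfsgLib.AutPSp CfsgLib.Symp

variable (p : ℕ) [hp : Fact p.Prime]

/-- The block in the unitriangular subgroup of the symplectic group. -/
theorem exists_block_upper (hp2 : p ≠ 2) : Nonempty (Block p (upperGroup (ZMod p) 2)) := by
  let S₁ : Matrix (Fin 2) (Fin 2) (ZMod p) := !![0, 0; 0, 1]
  let S₂ : Matrix (Fin 2) (Fin 2) (ZMod p) := !![1, 1; 1, 0]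
  let S₃ : Matrix (Fin 2) (Fin 2) (ZMod p) := !![2, 0; 0, 0]
  have h₁ : S₁ᵀ = S₁ := by ext i j; fin_cases i <;> fin_cases j <;> rfl
  have h₂ : S₂ᵀ = S₂ := by ext i j; fin_cases i <;> fin_cases j <;> rfl
  have h₃ : S₃ᵀ = S₃ := by ext i j; fin_cases i <;> fin_cases j <;> rfl
  let t : Matrix.SpecialLinearGroup (Fin 2) (ZMod p) := ⟨!![1, 1; 0, 1], by simp [Matrix.det_fin_two]⟩
  have ht : t ∈ AutPSL.unitriSL (ZMod p) 2 := by
    refine ⟨?_, ?_⟩ <;> intro i <;> first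
      | (intro j hij; fin_cases i <;> fin_cases j <;> simp_all [t])
      | (fin_cases i <;> simp [t])
  let g : upperGroup (ZMod p) 2 := ⟨leviHom 2 _ t, levi_mem_upper ht⟩
  let u : ∀ S : Matrix (Fin 2) (Fin 2) (ZMod p), Sᵀ = S → upperGroup (ZMod p) 2 :=
    fun S hS => ⟨uni S hS, uni_mem_upper S hS⟩
  have hmul : ∀ {S T : Matrix (Fin 2) (Fin 2) (ZMod p)} (hS : Sᵀ = S) (hT : Tᵀ = T),
      u S hS * u T hT = u (T + S) (by simp [hS, hT]) := fun hS hT => Subtype.ext (uni_mul hS hT)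
  have hcomm : ∀ {S T : Matrix (Fin 2) (Fin 2) (ZMod p)} (hS : Sᵀ = S) (hT : Tᵀ = T),
      Commute (u S hS) (u T hT) := fun hS hT => by
    show _ * _ = _ * _
    rw [hmul, hmul]
    exact Subtype.ext (uni_congr (add_comm _ _) (by simp [hS, hT]) (by simp [hS, hT]))
  have hpow : ∀ {S : Matrix (Fin 2) (Fin 2) (ZMod p)} (hS : Sᵀ = S), u S hS ^ p = 1 := fun hS => by
    apply Subtype.ext
    apply Subtype.ext
    rw [SubmonoidClass.coe_pow, uni_pow, ZMod.natCast_self, zero_smul]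
    exact Matrix.fromBlocks_one
  have hconj : ∀ {S T : Matrix (Fin 2) (Fin 2) (ZMod p)} (hS : Sᵀ = S) (hT : Tᵀ = T),
      (!![1, 1; 0, 1] : Matrix (Fin 2) (Fin 2) (ZMod p)) * S * !![1, 1; 0, 1]ᵀ = T →
      g * u S hS * g⁻¹ = u T hT := fun hS hT h => Subtype.ext (by
    show leviHom 2 _ t * uni _ hS * (leviHom 2 _ t)⁻¹ = uni _ hT
    rw [leviHom_conj_uni]
    exact uni_congr h _ _)
  refine ⟨⟨g, u S₁ h₁, u S₂ h₂, u S₃ h₃, ?_, hpow h₁, hpow h₂, hpow h₃, hcomm h₁ h₂, hcomm h₁ h₃,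
    hcomm h₂ h₃, ?_, ?_, ?_, ?_, ?_, ?_⟩⟩
  · have hA : ∀ k : ℕ, (((t ^ k : Matrix.SpecialLinearGroup (Fin 2) (ZMod p))) :
        Matrix (Fin 2) (Fin 2) (ZMod p)) = !![1, (k : ZMod p); 0, 1] := by
      intro k
      induction k with
      | zero => simp [Matrix.one_fin_two]
      | succ k ih =>
        rw [pow_succ, Matrix.SpecialLinearGroup.coe_mul, ih]
        simp [t, add_comm]
    have htp : t ^ p = 1 := Subtype.ext (by rw [hA, ZMod.natCast_self]; simp [Matrix.one_fin_two])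
    exact Subtype.ext (by
      show leviHom 2 _ t ^ p = 1
      rw [← map_pow, htp, map_one])
  · refine (hconj h₁ (by simp [h₁, h₂] : (S₁ + S₂)ᵀ = S₁ + S₂) ?_).trans (hmul h₂ h₁).symm
    ext i j; fin_cases i <;> fin_cases j <;> simp [S₁, S₂, Matrix.mul_apply, Fin.sum_univ_two]
  · refine (hconj h₂ (by simp [h₂, h₃] : (S₂ + S₃)ᵀ = S₂ + S₃) ?_).trans (hmul h₃ h₂).symm
    ext i j; fin_cases i <;> fin_cases j <;>
      simp [S₂, S₃, Matrix.mul_apply, Fin.sum_univ_two] <;> ring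
  · refine hconj h₃ h₃ ?_
    ext i j; fin_cases i <;> fin_cases j <;> simp [S₃, Matrix.mul_apply, Fin.sum_univ_two]
  · intro h
    have h1 := congrArg (fun w : upperGroup (ZMod p) 2 =>
      ((w.1 : Matrix.symplecticGroup (Fin 2) (ZMod p)) : Matrix (Fin 2 ⊕ Fin 2) (Fin 2 ⊕ Fin 2) (ZMod p))
        (Sum.inl 0) (Sum.inr 0)) h
    simp [u, S₃, uni, Matrix.fromBlocks] at h1
    have h2 : (p : ℕ) ∣ 2 := (ZMod.natCast_eq_zero_iff 2 p).1 (by exact_mod_cast h1)
    exact hp2 ((Nat.prime_dvd_prime_iff_eq hp.out Nat.prime_two).1 h2)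
  · intro h
    let U : Subgroup (upperGroup (ZMod p) 2) :=
      (uniGroup 2 (ZMod p)).subgroupOf (upperGroup (ZMod p) 2)
    have hle : Subgroup.closure ({u S₁ h₁, u S₂ h₂, u S₃ h₃} : Set (upperGroup (ZMod p) 2)) ≤ U := by
      rw [closure_le]
      rintro _ (rfl | rfl | rfl)
      exacts [uni_mem _ h₁, uni_mem _ h₂, uni_mem _ h₃]
    obtain ⟨S, hS, e⟩ := hle h
    have h1 := congrArg (fun w : Matrix.symplecticGroup (Fin 2) (ZMod p) =>
      (w : Matrix (Fin 2 ⊕ Fin 2) (Fin 2 ⊕ Fin 2) (ZMod p)) (Sum.inl 0) (Sum.inl 1)) e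
    simp [g, t, uni, leviHom, CfsgLib.Symp.levi, Matrix.fromBlocks] at h1
  · rw [card_upper, Nat.card_zmod]; norm_num

/-- The unitriangular group is a Sylow subgroup. -/
theorem exists_sylow_upper : ∃ P : Sylow p (Matrix.symplecticGroup (Fin 2) (ZMod p)),
    (P : Subgroup (Matrix.symplecticGroup (Fin 2) (ZMod p))) = upperGroup (ZMod p) 2 := by
  refine ⟨(isPGroup_upper (F := ZMod p) (m := 2) p).toSylow fun hd => ?_, rfl⟩
  have h1 := Subgroup.card_mul_index (upperGroup (ZMod p) 2)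
  rw [card_upper, card_Sp] at h1
  have h3 := Nat.eq_of_mul_eq_mul_left (pow_pos Nat.card_pos _) h1
  rw [h3] at hd
  obtain ⟨i, -, hi⟩ := hp.out.prime.exists_mem_finset_dvd hd
  rw [Nat.card_zmod] at hi
  have := Nat.dvd_sub (dvd_pow_self p (by omega : 2 * (i + 1) ≠ 0)) hi
  rw [Nat.sub_sub_self (Nat.one_le_pow _ _ hp.out.pos)] at this
  exact hp.out.not_dvd_one this

end model

section symp

variable {G : Type*} [Group G] [Finite G] {p : ℕ} [hp : Fact p.Prime] {B B₁ B₂ : Subgroup (MulAut G)}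
  {E₁ E₂ : Subgroup G} {X₁ X₂ : Type*} [Group X₁] [Group X₂] [Finite X₁] [Finite X₂]
  {P : Pair p B₁ B₂ E₁ E₂ X₁ X₂}

theorem Pair.Symp.exists_block (h : P.Symp) : Nonempty (Block p G) := by
  have hp1 := hp.out.one_lt
  obtain ⟨x, hx, hx₁⟩ := P.exists_mem
  have hDc : Nat.card ↥(E₁ ⊓ E₂) = p ^ 2 := by
    have := P.card₁
    rw [h.card₁', pow_succ'] at this
    exact (Nat.eq_of_mul_eq_mul_left hp.out.pos this).symm
  have hxD : x ∉ E₁ ⊓ E₂ := fun hm => hx₁ (mem_inf.1 hm).1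
  have hin : ∀ v ∈ E₁, ⁅x, v⁆ ∈ E₁ ⊓ E₂ := fun v hv => by
    rw [← commutatorElement_inv v x]; exact inv_mem (P.comm_mem_inf hv hx)
  have hcen : ∀ w ∈ E₁, Commute x w → w ∈ omegaCenter p G := fun w hw hc =>
    ⟨mem_center_of_index P.s₁.index_eq hx₁ (fun a ha => h.elem₁.1 a ha w hw) hc, h.elem₁.2 w hw⟩
  obtain ⟨v, hv, hv₃⟩ : ∃ v ∈ E₁, ⁅x, ⁅x, v⁆⁆ ≠ 1 := by
    by_contra hall
    push Not at hall
    let f : E₁ →* omegaCenter p G := MonoidHom.mk'
      (fun v => ⟨⁅x, (v : G)⁆, hcen _ (mem_inf.1 (hin v v.2)).1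
        (commutatorElement_eq_one_iff_commute.1 (hall v v.2))⟩)
      fun a b => Subtype.ext (comm_mul_of_central
        (h.elem₁.1 _ a.2 _ (mem_inf.1 (hin b b.2)).1))
    have hk : Nat.card f.ker ≤ Nat.card (omegaCenter p G) := by
      refine Nat.card_le_card_of_injective (fun w => ⟨((w : E₁) : G), hcen _ (w : E₁).2
        (commutatorElement_eq_one_iff_commute.1 (congrArg Subtype.val w.2))⟩) ?_
      intro a b e
      exact Subtype.ext (Subtype.ext (congrArg Subtype.val e :))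
    have hr := Subgroup.card_le_of_le (le_top : f.range ≤ ⊤)
    rw [card_top, h.zp] at hr
    rw [h.zp] at hk
    have h1 := f.ker.index_mul_card
    rw [index_ker, h.card₁'] at h1
    have : p ^ 3 ≤ p ^ 2 := by
      rw [← h1, pow_two]; exact Nat.mul_le_mul hr hk
    have := (Nat.pow_le_pow_iff_right hp1).1 this
    omega
  have hv₂ := hin v hv
  have hv₃' : ⁅x, ⁅x, v⁆⁆ ∈ omegaCenter p G := h.comm₂ x hx _ (mem_inf.1 hv₂).2
  refine ⟨⟨x, v, ⁅x, v⁆, ⁅x, ⁅x, v⁆⁆, h.exp₂ x hx, h.elem₁.2 v hv, h.elem₁.2 _ (mem_inf.1 hv₂).1,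
    hv₃'.2, h.elem₁.1 v hv _ (mem_inf.1 hv₂).1, (mem_center_iff.1 hv₃'.1 v), mem_center_iff.1 hv₃'.1 _,
    by rw [commutatorElement_def, inv_mul_cancel_right],
    by rw [commutatorElement_def x ⁅x, v⁆, inv_mul_cancel_right],
    mul_inv_eq_iff_eq_mul.2 (mem_center_iff.1 hv₃'.1 x), hv₃, fun hm => hx₁ ?_, h.cardG⟩⟩
  refine (closure_le E₁).2 ?_ hm
  rintro _ (rfl | rfl | rfl)
  · exact hv
  · exact (mem_inf.1 hv₂).1
  · exact (mem_inf.1 (hin _ (mem_inf.1 hv₂).1)).1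

theorem Pair.Symp.nonempty_equiv_sylow (h : P.Symp) :
    ∃ Q : Sylow p (Matrix.symplecticGroup (Fin 2) (ZMod p)),
      Nonempty (G ≃* (Q : Subgroup (Matrix.symplecticGroup (Fin 2) (ZMod p)))) := by
  obtain ⟨b⟩ := h.exists_block
  obtain ⟨b'⟩ := exists_block_upper p P.odd
  obtain ⟨Q, hQ⟩ := exists_sylow_upper p
  exact ⟨Q, ⟨(b.equiv b').trans (MulEquiv.subgroupCongr hQ.symm)⟩⟩

/-- The nonabelian side is extraspecial. -/
theorem Pair.Symp.extraspecial (h : P.Symp) {K : Type*} [Group K] [Finite K] (ι : K →* G)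
    (hι : Function.Injective ι) (hr : ι.range = E₂) :
    Cfsg.IsExtraspecial p K ∧ Nat.card K = p ^ 3 ∧ ∀ k : K, k ^ p = 1 := by
  have hp1 := hp.out.one_lt
  have hmem : ∀ k, ι k ∈ E₂ := fun k => hr ▸ ⟨k, rfl⟩
  have hK : Nat.card K = p ^ 3 := by
    rw [← h.card₂', ← hr]
    exact Nat.card_congr (MonoidHom.ofInjective hι).toEquiv
  have hexp : ∀ k : K, k ^ p = 1 := fun k => hι (by rw [map_pow, h.exp₂ _ (hmem k), map_one])
  have hKp : IsPGroup p K := IsPGroup.of_card hK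
  have hcen : ∀ k : K, k ∈ center K ↔ ι k ∈ omegaCenter p G := by
    intro k
    refine ⟨fun hk => h.center₂ _ (hmem k) fun y hy => ?_, fun hk => mem_center_iff.2 fun w => hι ?_⟩
    · obtain ⟨w, rfl⟩ : y ∈ ι.range := hr.symm ▸ hy
      show ι w * ι k = ι k * ι w
      rw [← map_mul, ← map_mul, mem_center_iff.1 hk w]
    · rw [map_mul, map_mul]
      exact mem_center_iff.1 hk.1 _
  have hZE : omegaCenter p G ≤ ι.range := by
    rw [hr]
    exact (omegaCenter_le_center).trans (P.s₂.center_le P.hG h.nd₂)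
  have hcc : Nat.card (center K) = p := by
    have e : (center K).map ι = omegaCenter p G := by
      refine le_antisymm ?_ fun z hz => ?_
      · rintro _ ⟨k, hk, rfl⟩
        exact (hcen k).1 hk
      · obtain ⟨k, rfl⟩ := hZE hz
        exact ⟨k, (hcen k).2 hz, rfl⟩
    rw [← h.zp, ← e, card_map_of_injective hι]
  have hcle : commutator K ≤ center K := by
    rw [_root_.commutator_def]
    exact commutator_le.2 fun a _ b _ => (hcen _).2 (by
      rw [map_commutatorElement]; exact h.comm₂ _ (hmem a) _ (hmem b))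
  have hce : commutator K = center K := by
    refine eq_of_le_of_card_ge hcle ?_
    rw [hcc]
    refine prime_le_card hKp fun hb => ?_
    have : center K = ⊤ := top_le_iff.1 fun a _ => mem_center_iff.2 fun c => by
      rw [← commutatorElement_eq_one_iff_mul_comm, ← mem_bot, ← hb, _root_.commutator_def]
      exact commutator_mem_commutator (mem_top c) (mem_top a)
    rw [this, card_top, hK] at hcc
    exact (lt_self_pow₀ hp1 (by norm_num)).ne hcc.symm
  refine ⟨⟨⟨hKp, le_antisymm ?_ ?_, hce⟩, hcc⟩, hK, hexp⟩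
  · exact CfsgLib.PGroupBasic.frattini_le_of_elementary (p := p) (center K) hcle
      fun k => by rw [hexp]; exact one_mem _
  · rw [← hce]
    exact (CfsgLib.PGroupBasic.commutator_pow_le_frattini hKp).1

end symp

end CfsgLib.Fusion.TwoInvariant
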