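import Cfsg.Agent.Fusion.TwoInvariant.Setup
import Cfsg.Agent.Fusion.RankThree.Layers

/-!
The symplectic configuration on a proper quotient cannot occur.
-/

set_option autoImplicit false
set_option linter.unusedSectionVars false
set_option linter.style.haveILetI false

open Subgroup
open scoped commutatorElement

namespace CfsgLib.Fusion.TwoInvariant

variable {G : Type*} [Group G] [Finite G] {p : ℕ} [hp : Fact p.Prime] {B B₁ B₂ : Subgroup (MulAut G)}
  {E₁ E₂ : Subgroup G} {X₁ X₂ : Type*} [Group X₁] [Group X₂] [Finite X₁] [Finite X₂]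
  (P : Setup p B₁ B₂ E₁ E₂ X₁ X₂)

namespace Setup

theorem false_of_symp_quot {T : Subgroup G} [T.Normal] (hle : T ≤ E₁ ⊓ E₂) (i₁ : P.s₁.Inv T)
    (i₂ : P.s₂.Inv T) (hTne : T ≠ ⊥) (helem : Elem p (E₁.map (QuotientGroup.mk' T)))
    (hcard : Nat.card E₁ = p ^ 3 * Nat.card T)
    (hirr : ∀ H : Subgroup G, T ≤ H → H ≤ E₁ → P.s₁.Inv H → H = T ∨ H = E₁)
    (hnot : ¬ P.s₂.Inv (E₁ ⊓ E₂)) : False := by
  have hp1 := hp.out.one_lt
  have hG := P.hG
  have hTE : T ≤ E₁ := hle.trans inf_le_left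
  have hEp := hG.to_subgroup E₁
  haveI := (P.s₁.inv_self.fd le_rfl).normal (FD_le E₁)
  have hFT : FD p E₁ ≤ T := FD_le_of_elem helem
  have hTF : T = FD p E₁ := by
    refine (eq_of_le_of_card_ge hFT ?_).symm
    have h := card_le_of_FD_le P.rank (FD_le E₁) le_rfl
    rw [hcard] at h
    exact Nat.le_of_mul_le_mul_left h (pow_pos hp.out.pos 3)
  have hfT : (frattini E₁).map E₁.subtype = T := by rw [map_frattini_eq_FD hG, hTF]
  have hfr : ∀ {a : E₁}, a ∈ frattini E₁ ↔ (a : G) ∈ T := fun {a} => by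
    rw [← hfT]
    exact (mem_map_iff_mem E₁.subtype_injective).symm
  have hidx : (frattini E₁).index = p ^ 3 := by
    have h1 := (frattini E₁).index_mul_card
    rw [← card_map_of_injective (K := frattini E₁) E₁.subtype_injective, hfT, hcard] at h1
    exact Nat.eq_of_mul_eq_mul_right Nat.card_pos h1
  have hne : frattini E₁ ≠ ⊥ := fun h => hTne (by rw [← hfT, h, Subgroup.map_bot])
  obtain ⟨hΩ, hker⟩ := RankThree.irreducible_structure hEp P.odd hidx P.s₁.act.range (fun L hL hinv => by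
    have hL' : T ≤ L.map E₁.subtype := by rw [← hfT]; exact Subgroup.map_mono hL
    have hi : P.s₁.Inv (L.map E₁.subtype) := fun x e he => by
      obtain ⟨l, hl, hle'⟩ := he
      obtain rfl : l = e := E₁.subtype_injective hle'
      exact ⟨_, hinv _ ⟨x, rfl⟩ l hl, rfl⟩
    rcases hirr _ hL' (map_subtype_le L) hi with h | h
    · left
      exact map_injective E₁.subtype_injective (h.trans hfT.symm)
    · right
      exact map_injective E₁.subtype_injective (h.trans (by rw [← MonoidHom.range_eq_map,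
        Subgroup.range_subtype])))
    (RankThree.sectional_of_injective (E₁.subtype) E₁.subtype_injective P.rank) hne
  -- the elements of `E₂` centralising the elements of order `p`
  let C : Subgroup G :=
    { carrier := {g | g ∈ E₂ ∧ ∀ a ∈ E₁, a ^ p = 1 → Commute g a}
      one_mem' := ⟨one_mem _, fun a _ _ => Commute.one_left a⟩
      mul_mem' := fun {u v} hu hv => ⟨mul_mem hu.1 hv.1,
        fun a ha hap => (hu.2 a ha hap).mul_left (hv.2 a ha hap)⟩
      inv_mem' := fun {u} hu => ⟨inv_mem hu.1, fun a ha hap => (hu.2 a ha hap).inv_left⟩ }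
  have hΩT : ∀ a ∈ E₁, a ^ p = 1 → a ∈ T := fun a ha hap =>
    hfr.1 (hΩ ⟨a, ha⟩ (Subtype.ext hap)).1
  have hΩc : ∀ a ∈ E₁, a ^ p = 1 → ∀ e ∈ E₁, Commute e a := fun a ha hap e he =>
    congrArg Subtype.val (mem_center_iff.1 (hΩ ⟨a, ha⟩ (Subtype.ext hap)).2.1 ⟨e, he⟩)
  obtain ⟨x, hx, hx₁⟩ := P.exists_mem
  have hxC : x ∉ C := by
    intro hxC
    haveI := P.s₁.normal
    refine hx₁ (P.s₁.mem_of_chain hG P.nd₁ (m := 1) ![T, E₁] hTF rfl ?_ ?_ fun i e he => ?_)
    · intro i; fin_cases i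
      exacts [hTE, le_rfl]
    · intro i; fin_cases i
      exacts [i₁, P.s₁.inv_self]
    · fin_cases i
      have h1 := hker (P.s₁.act (P.s₁.conj x)) (fun a ha => Subtype.ext (by
        rw [P.s₁.conj_spec, (hxC.2 _ a.2 (congrArg Subtype.val ha)).eq, mul_inv_cancel_right])) ⟨e, he⟩
      have h2 : (e⁻¹ * (x * e * x⁻¹) : G) ∈ T := by
        have h := hfr.1 h1
        simpa [P.s₁.conj_spec] using h
      show ⁅x, e⁆ ∈ T
      rw [commutatorElement_def]
      exact (inferInstance : T.Normal).mem_comm h2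
  have hCD : C = E₁ ⊓ E₂ := by
    have hDC : E₁ ⊓ E₂ ≤ C := fun d hd => ⟨(mem_inf.1 hd).2,
      fun a ha hap => hΩc a ha hap d (mem_inf.1 hd).1⟩
    by_contra hne'
    obtain ⟨v, hv, hvD⟩ := SetLike.exists_of_lt (lt_of_le_of_ne hDC (Ne.symm hne'))
    refine hxC ?_
    have hE₂ : E₂ ≤ C := by
      rw [← P.sup_zpowers₂ hv.1 hvD]
      exact sup_le hDC (zpowers_le.2 hv)
    exact hE₂ hx
  refine hnot (hCD ▸ ?_)
  intro z g hg
  refine ⟨P.s₂.img_mem z g, fun a ha hap => ?_⟩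
  have ha₂ : a ∈ E₂ := (mem_inf.1 (hle (hΩT a ha hap))).2
  have ha' : P.s₂.img z⁻¹ ⟨a, ha₂⟩ ∈ T := i₂ z⁻¹ ⟨a, ha₂⟩ (hΩT a ha hap)
  have hap' : P.s₂.img z⁻¹ ⟨a, ha₂⟩ ^ p = 1 := by
    rw [← map_pow, show (⟨a, ha₂⟩ : E₂) ^ p = 1 from Subtype.ext hap, map_one]
  have h : Commute g (P.s₂.act z⁻¹ ⟨a, ha₂⟩) := Subtype.ext (hg.2 _ (hTE ha') hap').eq
  have h' := h.map (P.s₂.img z)
  rwa [← Side.img_mul, mul_inv_cancel, Side.img_one] at h'

end Setup

end CfsgLib.Fusion.TwoInvariant
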