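import Cfsg.Agent.Fusion.TwoInvariant.Plane
import Cfsg.Agent.Fusion.RankThree.Basic
import Cfsg.Agent.Solvable.TwoMetacyclic

/-!
Commutators and powers in subgroups of class two, Frattini subgroups, and invariance lemmas.
-/

set_option autoImplicit false
set_option linter.unusedSectionVars false
set_option linter.style.haveILetI false

open Subgroup
open scoped commutatorElement

namespace CfsgLib.Fusion.TwoInvariant

variable {G : Type*} [Group G] {p : ℕ} [hp : Fact p.Prime]

/-- The elements of `U` whose commutators with `E` lie in `V`. -/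
theorem comm_closure_mem {E V : Subgroup G} [V.Normal] {S : Set G}
    (h : ∀ e ∈ E, ∀ a ∈ S, ⁅e, a⁆ ∈ V) : ∀ e ∈ E, ∀ u ∈ closure S, ⁅e, u⁆ ∈ V := by
  intro e he u hu
  set π := QuotientGroup.mk' V
  have hle : closure S ≤ (centralizer ((E.map π : Subgroup _) : Set (G ⧸ V))).comap π := by
    refine (closure_le _).2 fun a ha => mem_centralizer_iff.2 ?_
    rintro _ ⟨f, hf, rfl⟩
    rw [← commutatorElement_eq_one_iff_mul_comm, ← map_commutatorElement]
    exact (QuotientGroup.eq_one_iff _).2 (h f hf a ha)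
  have := mem_centralizer_iff.1 (hle hu) (π e) (mem_map_of_mem π he)
  rw [← commutatorElement_eq_one_iff_mul_comm, ← map_commutatorElement] at this
  exact (QuotientGroup.eq_one_iff _).1 this

omit hp in
theorem comm_mul_of_central {a b c : G} (h : Commute b ⁅a, c⁆) :
    ⁅a, b * c⁆ = ⁅a, b⁆ * ⁅a, c⁆ := by
  calc ⁅a, b * c⁆ = ⁅a, b⁆ * (b * ⁅a, c⁆ * b⁻¹) := by simp only [commutatorElement_def]; group
    _ = _ := by rw [h.eq, mul_inv_cancel_right]

omit hp in
theorem comm_mul_left_of_central {a b c : G} (h : Commute a ⁅b, c⁆) :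
    ⁅a * b, c⁆ = ⁅b, c⁆ * ⁅a, c⁆ := by
  calc ⁅a * b, c⁆ = a * ⁅b, c⁆ * a⁻¹ * ⁅a, c⁆ := by simp only [commutatorElement_def]; group
    _ = _ := by rw [h.eq, mul_inv_cancel_right]

omit hp in
/-- Commutators of powers when the commutator commutes with both elements. -/
theorem comm_zpow_zpow {a b : G} (ha : Commute a ⁅a, b⁆) (hb : Commute b ⁅a, b⁆) (i j : ℤ) :
    ⁅a ^ i, b ^ j⁆ = ⁅a, b⁆ ^ (i * j) := by
  set z := ⁅a, b⁆ with hz
  have h2 : a * b ^ j * a⁻¹ = z ^ j * b ^ j := by
    rw [← MulAut.conj_apply, map_zpow, MulAut.conj_apply,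
      show a * b * a⁻¹ = z * b by rw [hz, commutatorElement_def, inv_mul_cancel_right],
      hb.symm.mul_zpow]
  have h3 : ⁅b ^ j, a⁆ = z ^ (-j) := by
    rw [← commutatorElement_inv a (b ^ j), commutatorElement_def, h2, mul_inv_cancel_right, zpow_neg]
  have hbja : b ^ j * a * (b ^ j)⁻¹ = z ^ (-j) * a := by
    rw [← h3, commutatorElement_def, inv_mul_cancel_right]
  have h5 : b ^ j * a ^ i * (b ^ j)⁻¹ = z ^ (-j * i) * a ^ i := by
    rw [← MulAut.conj_apply, map_zpow, MulAut.conj_apply, hbja,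
      (ha.symm.zpow_left (-j)).mul_zpow, ← zpow_mul]
  rw [← commutatorElement_inv (b ^ j) (a ^ i), commutatorElement_def, h5, mul_inv_cancel_right,
    ← zpow_neg]
  congr 1
  ring

/-- A subgroup generated by elements of order `p` with commutators central in it has exponent `p`. -/
theorem pow_closure_eq_one (hp2 : p ≠ 2) {S : Set G} {V : Subgroup G} (hV : Elem p V)
    (hcom : ∀ a ∈ closure S, ∀ b ∈ closure S, ⁅a, b⁆ ∈ V)
    (hcen : ∀ a ∈ closure S, ∀ v ∈ V, Commute a v) (hS : ∀ a ∈ S, a ^ p = 1) :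
    ∀ u ∈ closure S, u ^ p = 1 := by
  intro u hu
  induction hu using closure_induction with
  | mem a ha => exact hS a ha
  | one => exact one_pow p
  | mul a b ha hb iha ihb =>
    have h := RankThree.mul_pow_mod hp2 (⊥ : Subgroup G) (x := a) (y := b)
      (mem_bot.2 (commutatorElement_eq_one_iff_commute.2 (hcen a ha _ (hcom b hb a ha)).symm))
      (mem_bot.2 (commutatorElement_eq_one_iff_commute.2 (hcen b hb _ (hcom b hb a ha)).symm))
      (mem_bot.2 (hV.2 _ (hcom b hb a ha)))
    rw [iha, ihb, one_mul, map_one] at h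
    exact mem_bot.1 ((QuotientGroup.eq_one_iff _).1 h)
  | inv a ha ih => rw [inv_pow, ih, inv_one]

/-- The Frattini subgroup written with commutators and powers. -/
def FD (p : ℕ) (D : Subgroup G) : Subgroup G :=
  ⁅D, D⁆ ⊔ closure ((fun a : G => a ^ p) '' (D : Set G))

omit hp in
theorem FD_le (D : Subgroup G) : FD p D ≤ D :=
  sup_le (commutator_le.2 fun a ha b hb =>
    mul_mem (mul_mem (mul_mem ha hb) (inv_mem ha)) (inv_mem hb))
    ((closure_le D).2 (by rintro _ ⟨a, ha, rfl⟩; exact pow_mem ha p))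

omit hp in
theorem FD_mono {D D' : Subgroup G} (h : D ≤ D') : FD p D ≤ FD p D' :=
  sup_le_sup (commutator_mono h h) (closure_mono (Set.image_mono h))

omit hp in
theorem elem_of_FD {D : Subgroup G} (h : FD p D = ⊥) : Elem p D := by
  refine ⟨fun a ha b hb => commutatorElement_eq_one_iff_commute.1 ?_, fun a ha => ?_⟩
  · rw [← mem_bot, ← h]
    exact mem_sup_left (commutator_mem_commutator ha hb)
  · rw [← mem_bot, ← h]
    exact mem_sup_right (subset_closure ⟨a, ha, rfl⟩)

omit hp in
theorem FD_le_of_elem {D N : Subgroup G} [N.Normal] (h : Elem p (D.map (QuotientGroup.mk' N))) :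
    FD p D ≤ N := by
  refine sup_le (commutator_le.2 fun a ha b hb => ?_) ((closure_le _).2 ?_)
  · rw [← QuotientGroup.eq_one_iff]
    show QuotientGroup.mk' N ⁅a, b⁆ = 1
    rw [map_commutatorElement, commutatorElement_eq_one_iff_commute]
    exact h.1 _ (mem_map_of_mem _ ha) _ (mem_map_of_mem _ hb)
  · rintro _ ⟨a, ha, rfl⟩
    rw [SetLike.mem_coe, ← QuotientGroup.eq_one_iff]
    show QuotientGroup.mk' N (a ^ p) = 1
    rw [map_pow]
    exact h.2 _ (mem_map_of_mem _ ha)

omit hp in
theorem elem_map_FD (D : Subgroup G) {N : Subgroup G} [N.Normal] (h : FD p D ≤ N) :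
    Elem p (D.map (QuotientGroup.mk' N)) := by
  refine ⟨?_, ?_⟩
  · rintro _ ⟨a, ha, rfl⟩ _ ⟨b, hb, rfl⟩
    rw [← commutatorElement_eq_one_iff_commute, ← map_commutatorElement]
    exact (QuotientGroup.eq_one_iff _).2 (h (mem_sup_left (commutator_mem_commutator ha hb)))
  · rintro _ ⟨a, ha, rfl⟩
    rw [← map_pow]
    exact (QuotientGroup.eq_one_iff _).2 (h (mem_sup_right (subset_closure ⟨a, ha, rfl⟩)))

/-- Generators modulo `FD` generate. -/
theorem eq_of_sup_FD [Finite G] (hG : IsPGroup p G) {D H : Subgroup G} (hH : H ≤ D)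
    (h : D ≤ FD p D ⊔ H) : H = D := by
  refine le_antisymm hH ?_
  have hle : (FD p D).subgroupOf D ≤ frattini D := by
    have hfr := CfsgLib.PGroupBasic.commutator_pow_le_frattini (hG.to_subgroup D)
    have : FD p D ≤ (frattini D).map D.subtype := by
      refine sup_le (commutator_le.2 fun a ha b hb => ?_) ((closure_le _).2 ?_)
      · exact ⟨⁅(⟨a, ha⟩ : D), ⟨b, hb⟩⁆,
          hfr.1 (by rw [_root_.commutator_def]; exact commutator_mem_commutator (mem_top _) (mem_top _)),
          rfl⟩
      · rintro _ ⟨a, ha, rfl⟩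
        exact ⟨(⟨a, ha⟩ : D) ^ p, hfr.2 _, rfl⟩
    rintro v hv
    obtain ⟨w, hw, hwv⟩ := this hv
    rwa [show v = w from Subtype.ext hwv.symm]
  have htop : H.subgroupOf D ⊔ frattini D = ⊤ := by
    refine top_le_iff.1 (le_trans ?_ (sup_le_sup_left hle _))
    rw [← subgroupOf_sup hH (FD_le D), sup_comm H]
    exact fun v _ => h v.2
  have h1 := frattini_nongenerating htop
  rwa [subgroupOf_eq_top] at h1

/-- A subgroup generated by a commutative one and one element has its commutators where those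
generators have theirs. -/
theorem commutator_le_of_gen {E D K : Subgroup G} [K.Normal] {a : G}
    (hDc : ∀ u ∈ D, ∀ v ∈ D, Commute u v) (hK : ∀ d ∈ D, ⁅a, d⁆ ∈ K) (hE : E ≤ D ⊔ zpowers a) :
    ⁅E, E⁆ ≤ K := by
  set π := QuotientGroup.mk' K
  have hel : ∀ u ∈ (D ⊔ zpowers a).map π, ∀ v ∈ (D ⊔ zpowers a).map π, Commute u v := by
    have hc : ∀ u ∈ ((D : Set G) ∪ {a}), ∀ v ∈ ((D : Set G) ∪ {a}), Commute (π u) (π v) := by
      rintro u (hu | rfl) v (hv | rfl)
      · exact (hDc u hu v hv).map π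
      · refine Commute.symm ?_
        rw [← commutatorElement_eq_one_iff_commute, ← map_commutatorElement]
        exact (QuotientGroup.eq_one_iff _).2 (hK u hu)
      · rw [← commutatorElement_eq_one_iff_commute, ← map_commutatorElement]
        exact (QuotientGroup.eq_one_iff _).2 (hK v hv)
      · exact Commute.refl _
    have e : D ⊔ zpowers a = closure ((D : Set G) ∪ {a}) := by
      rw [Subgroup.closure_union, closure_eq, ← zpowers_eq_closure]
    rw [e, MonoidHom.map_closure]
    intro u hu v hv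
    induction hu, hv using closure_induction₂ with
    | mem x y hx hy =>
      obtain ⟨x, hx, rfl⟩ := hx
      obtain ⟨y, hy, rfl⟩ := hy
      exact hc x hx y hy
    | one_left x _ => exact Commute.one_left x
    | one_right x _ => exact Commute.one_right x
    | mul_left x y z _ _ _ h1 h2 => exact h1.mul_left h2
    | mul_right x y z _ _ _ h1 h2 => exact h1.mul_right h2
    | inv_left x y _ _ h => exact h.inv_left
    | inv_right x y _ _ h => exact h.inv_right
  refine commutator_le.2 fun u hu v hv => ?_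
  rw [← QuotientGroup.eq_one_iff]
  show π ⁅u, v⁆ = 1
  rw [map_commutatorElement, commutatorElement_eq_one_iff_commute]
  exact hel _ (mem_map_of_mem π (hE hu)) _ (mem_map_of_mem π (hE hv))

theorem not_dvd_two (hp2 : p ≠ 2) : ¬ (p : ℤ) ∣ 2 := fun h =>
  hp2 ((Nat.prime_dvd_prime_iff_eq hp.out Nat.prime_two).1 (by exact_mod_cast h))

theorem eq_one_of_inv_eq (hp2 : p ≠ 2) {a : G} (ha : a ^ p = 1) (h : a⁻¹ = a) : a = 1 := by
  refine RankThree.eq_one_of_zpow ha (not_dvd_two hp2) ?_
  rw [zpow_two]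
  conv_lhs => arg 1; rw [← h]
  exact inv_mul_cancel a

/-- The half of the prime. -/
theorem exists_half (hp2 : p ≠ 2) : ∃ h : ℤ, (p : ℤ) ∣ 2 * h - 1 :=
  RankThree.solve_mod (not_dvd_two hp2) 1

/-- Every member has a power prime to `p` that is a conjugation. -/
def Coprimary (p : ℕ) (A : Subgroup (MulAut G)) : Prop :=
  ∀ δ ∈ A, ∃ m : ℕ, ¬ p ∣ m ∧ δ ^ m ∈ (MulAut.conj : G →* MulAut G).range

theorem pow_fix {δ : MulAut G} {u : G} (h : δ u = u) : ∀ n : ℕ, (δ ^ n) u = u := by
  intro n
  induction n with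
  | zero => rfl
  | succ n ih => rw [pow_succ', MulAut.mul_apply, ih, h]

/-- A coprimary automorphism fixing `c` and moving a central element along `c` fixes it. -/
theorem Coprimary.fix {A : Subgroup (MulAut G)} (hA : Coprimary p A) {δ : MulAut G} (hδ : δ ∈ A)
    {c u : G} (hcp : c ^ p = 1) (hu : u ∈ center G) (hc : δ c = c) (hδu : δ u * u⁻¹ ∈ zpowers c) :
    δ u = u := by
  obtain ⟨i, hi⟩ := mem_zpowers_iff.1 hδu
  have h1 : δ u = c ^ i * u := by rw [hi, inv_mul_cancel_right]
  have hn : ∀ n : ℕ, (δ ^ n) u = c ^ ((n : ℤ) * i) * u := by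
    intro n
    induction n with
    | zero => simp
    | succ n ih =>
      rw [pow_succ', MulAut.mul_apply, ih, map_mul, map_zpow, hc, h1, ← mul_assoc, ← zpow_add]
      congr 2
      push_cast
      ring
  obtain ⟨m, hm, g, hg⟩ := hA δ hδ
  have h2 := hn m
  rw [← hg, MulAut.conj_apply, mem_center_iff.1 hu g, mul_inv_cancel_right, right_eq_mul] at h2
  rw [h1, mul_eq_right]
  obtain ⟨k, hk⟩ := RankThree.solve_mod (a := (m : ℤ)) (fun h => hm (Int.natCast_dvd_natCast.1 h)) 1
  rw [← zpow_one (c ^ i), ← RankThree.zpow_congr (x := c ^ i) (by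
    rw [← zpow_natCast, ← zpow_mul, mul_comm, zpow_mul, zpow_natCast, hcp, one_zpow]) hk,
    zpow_mul, ← zpow_mul c, mul_comm i, h2, one_zpow]

namespace Side

variable [Finite G] {B : Subgroup (MulAut G)} {E : Subgroup G} {X : Type*} [Group X] [Finite X]
  {s : Side p B E X}

theorem Inv.sup {H K : Subgroup G} (h : s.Inv H) (hle : H ≤ E) (h' : s.Inv K) (hle' : K ≤ E) :
    s.Inv (H ⊔ K) := by
  have e : H ⊔ K = closure ((H : Set G) ∪ K) := by rw [Subgroup.closure_union, closure_eq, closure_eq]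
  rw [e]
  refine s.inv_of_generators (Set.union_subset hle hle') ?_
  rintro x d (hd | hd)
  · exact subset_closure (Or.inl (h x d hd))
  · exact subset_closure (Or.inr (h' x d hd))

theorem Inv.fd {D : Subgroup G} (h : s.Inv D) (hle : D ≤ E) : s.Inv (FD p D) :=
  (h.commutator hle h hle).sup ((le_sup_left.trans (FD_le (p := p) D)).trans hle) (h.powers hle p)
    ((le_sup_right.trans (FD_le (p := p) D)).trans hle)

variable (s)

/-- The conjugation closure is trivial on the quotient by an invariant subgroup wherever the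
conjugations are. -/
theorem K_fixes_mod {H : Subgroup G} (hH : s.Inv H) (hle : H ≤ E) (e₀ : E)
    (hmod : ∀ g : G, ∀ e : E, ⁅g, (e : G)⁆ ∈ H) {k : X} (hk : k ∈ s.K) :
    s.img k e₀ * (e₀ : G)⁻¹ ∈ H := by
  haveI := hH.normal hle
  let N : Subgroup X :=
    { carrier := {y | ∀ e : E, s.img y e * (e : G)⁻¹ ∈ H}
      one_mem' := fun e => by rw [img_one, mul_inv_cancel]; exact one_mem _
      mul_mem' := fun {a b} ha hb e => by
        rw [img_mul, show s.img a (s.act b e) * (e : G)⁻¹ =
          (s.img a (s.act b e) * ((s.act b e : E) : G)⁻¹) * (s.img b e * (e : G)⁻¹) by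
            rw [img_apply s b e]; group]
        exact mul_mem (ha _) (hb e)
      inv_mem' := fun {a} ha e => by
        have := inv_mem (ha (s.act a⁻¹ e))
        rw [← img_mul, mul_inv_cancel, img_one, mul_inv_rev, inv_inv] at this
        exact this }
  have hNn : N.Normal := ⟨fun n hn x e => by
    have h3 : s.img x (s.act n (s.act x⁻¹ e) * (s.act x⁻¹ e)⁻¹) ∈ H := hH x _ (hn (s.act x⁻¹ e))
    rw [map_mul (s.img x), map_inv (s.img x), ← img_mul, ← img_mul, ← img_mul, mul_inv_cancel,
      img_one] at h3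
    exact h3⟩
  refine normalClosure_le_normal (N := N) ?_ hk e₀
  rintro _ ⟨g, rfl⟩ e
  rw [img_conj]
  exact hmod g e

variable {s}

theorem Trans.comm_all {M C : Subgroup G} (d : s.Trans M C) (h : G) {m : G} (hm : m ∈ M) :
    ⁅h, m⁆ ∈ zpowers d.c := by
  have hc : d.c ∈ center G :=
    mem_center_of_index s.index_eq d.gE (fun e he => d.cE e he _ d.cM) d.fixc
  haveI : (zpowers d.c).Normal := ⟨fun n hn g => by
    rw [mem_center_iff.1 (zpowers_le.2 hc hn) g, mul_inv_cancel_right]; exact hn⟩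
  have hle : (⊤ : Subgroup G) ≤ (centralizer ((M.map (QuotientGroup.mk' (zpowers d.c)) :
      Subgroup _) : Set (G ⧸ zpowers d.c))).comap (QuotientGroup.mk' (zpowers d.c)) := by
    rw [← sup_zpowers_eq_top s.index_eq d.gE]
    refine sup_le (fun e he => ?_) (zpowers_le.2 ?_)
    · refine mem_centralizer_iff.2 ?_
      rintro _ ⟨v, hv, rfl⟩
      exact ((d.cE e he v hv).map _).eq.symm
    · refine mem_centralizer_iff.2 ?_
      rintro _ ⟨v, hv, rfl⟩
      rw [eq_comm, ← commutatorElement_eq_one_iff_mul_comm, ← map_commutatorElement]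
      exact (QuotientGroup.eq_one_iff _).2 (d.comm v hv)
  have := mem_centralizer_iff.1 (hle (mem_top h)) _ (mem_map_of_mem _ hm)
  rw [eq_comm, ← commutatorElement_eq_one_iff_mul_comm, ← map_commutatorElement] at this
  exact (QuotientGroup.eq_one_iff _).1 this

end Side

end CfsgLib.Fusion.TwoInvariant
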