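import Cfsg.Agent.Fusion.TwoInvariant.Pair

/-!
A side moved by an automorphism of the ambient group.
-/

set_option autoImplicit false
set_option linter.unusedSectionVars false

open Subgroup

namespace CfsgLib.Fusion.TwoInvariant

variable {G : Type*} [Group G] {p : ℕ} {B : Subgroup (MulAut G)} {E : Subgroup G} {X : Type*}
  [Group X]

/-- The side obtained by applying `γ`. -/
noncomputable def Side.twist (s : Side p B E X) (γ : MulAut G) :
    Side p (B.map (MulAut.conj γ).toMonoidHom) (E.map γ.toMonoidHom) X where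
  act := (MulAut.congr (MulEquiv.subgroupMap γ E)).toMonoidHom.comp s.act
  conj := s.conj.comp γ⁻¹.toMonoidHom
  conj_spec g y := by
    obtain ⟨e, rfl⟩ := (MulEquiv.subgroupMap γ E).surjective y
    show γ (s.act (s.conj (γ⁻¹ g)) ((MulEquiv.subgroupMap γ E).symm
      (MulEquiv.subgroupMap γ E e)) : E) = g * γ e * g⁻¹
    rw [MulEquiv.symm_apply_apply, s.conj_spec, map_mul, map_mul, map_inv, MulAut.apply_inv_self]
  index_eq := by
    rw [← s.index_eq]
    exact index_map_of_bijective γ.bijective E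
  normal := s.normal.map γ.toMonoidHom γ.surjective
  sylow := by
    rw [MonoidHom.range_comp, MonoidHom.range_eq_top.2 (γ⁻¹ : MulAut G).surjective,
      ← MonoidHom.range_eq_map]
    exact s.sylow
  ext x hx := by
    rw [MonoidHom.range_comp, MonoidHom.range_eq_top.2 (γ⁻¹ : MulAut G).surjective,
      ← MonoidHom.range_eq_map] at hx
    obtain ⟨β, hβ, hβe⟩ := s.ext x hx
    refine ⟨_, mem_map_of_mem _ hβ, fun y => ?_⟩
    obtain ⟨e, rfl⟩ := (MulEquiv.subgroupMap γ E).surjective y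
    show γ (β (γ⁻¹ (γ e))) = γ (s.act x ((MulEquiv.subgroupMap γ E).symm
      (MulEquiv.subgroupMap γ E e)) : E)
    rw [MulEquiv.symm_apply_apply, MulAut.inv_apply_self, hβe]
  res := by
    rintro _ ⟨β, hβ, rfl⟩
    obtain ⟨x, hx⟩ := s.res β hβ
    refine ⟨x, fun y => ?_⟩
    obtain ⟨e, rfl⟩ := (MulEquiv.subgroupMap γ E).surjective y
    show γ (β (γ⁻¹ (γ e))) = γ (s.act x ((MulEquiv.subgroupMap γ E).symm
      (MulEquiv.subgroupMap γ E e)) : E)
    rw [MulEquiv.symm_apply_apply, MulAut.inv_apply_self, hx]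
  conj_mem g := ⟨MulAut.conj (γ⁻¹ g), s.conj_mem _, MulEquiv.ext fun v => by
    show γ (γ⁻¹ g * γ⁻¹ v * (γ⁻¹ g)⁻¹) = g * v * g⁻¹
    rw [map_mul, map_mul, map_inv, MulAut.apply_inv_self, MulAut.apply_inv_self]⟩

theorem Side.twist_not_deg (s : Side p B E X) (γ : MulAut G) (h : ¬ s.Deg) :
    ¬ (s.twist γ).Deg := fun hd => h fun x g => by
  obtain ⟨g', hg'⟩ := hd x (γ g)
  refine ⟨γ⁻¹ g', (MulAut.congr (MulEquiv.subgroupMap γ E)).injective ?_⟩
  have e : (γ⁻¹ : MulAut G) (γ g) = g := MulAut.inv_apply_self G γ g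
  have e' : (MulAut.congr (MulEquiv.subgroupMap γ E)) (s.act (x * s.conj ((γ⁻¹ : MulAut G) (γ g)) * x⁻¹))
      = (MulAut.congr (MulEquiv.subgroupMap γ E)) (s.act (s.conj ((γ⁻¹ : MulAut G) g'))) := hg'
  rwa [e] at e'

theorem Coprimary.mono {A A' : Subgroup (MulAut G)} (h : Coprimary p A) (hle : A' ≤ A) :
    Coprimary p A' := fun δ hδ => h δ (hle hδ)

end CfsgLib.Fusion.TwoInvariant
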